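import Mathlib.GroupTheory.Nilpotent
import Mathlib.GroupTheory.Index
import Mathlib.GroupTheory.PGroup
import Cfsg.Prelude.Def_Transfer

/-!
A replacement lemma: in a finite nilpotent group, a largest elementary abelian subgroup not centralizing a
normal elementary abelian subgroup `V` contains a subgroup acting quadratically and nontrivially on `V`.
-/

set_option autoImplicit false

namespace Cfsg.Agent.H91

open Subgroup

variable {G : Type*} [Group G]

/-- The elementary abelian join of two commuting elementary abelian subgroups. -/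
theorem elementary_sup {p : ℕ} {A X : Subgroup G} (hA : Cfsg.IsElementaryAbelian p A)
    (hX : Cfsg.IsElementaryAbelian p X) (hAX : X ≤ centralizer (A : Set G)) :
    Cfsg.IsElementaryAbelian p (A ⊔ X) := by
  have hnorm : X ≤ normalizer (A : Set G) := hAX.trans (Subgroup.centralizer_le_normalizer _)
  have hc : ∀ a ∈ A, ∀ x ∈ X, Commute a x := fun a ha x hx => mem_centralizer_iff.1 (hAX hx) a ha
  have hm : ∀ y ∈ A ⊔ X, ∃ a ∈ A, ∃ x ∈ X, y = a * x := by
    intro y hy
    rw [← SetLike.mem_coe, Subgroup.coe_mul_of_right_le_normalizer_left A X hnorm] at hy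
    obtain ⟨a, ha, x, hx, rfl⟩ := hy
    exact ⟨a, ha, x, hx, rfl⟩
  refine ⟨⟨⟨fun y z => Subtype.ext ?_⟩⟩, fun y hy => ?_⟩
  · obtain ⟨a, ha, x, hx, hy⟩ := hm y y.2
    obtain ⟨b, hb, w, hw, hz⟩ := hm z z.2
    show (y : G) * z = z * y
    rw [hy, hz]
    have h1 : Commute a b := congrArg Subtype.val (hA.1.is_comm.comm ⟨a, ha⟩ ⟨b, hb⟩)
    have h2 : Commute x w := congrArg Subtype.val (hX.1.is_comm.comm ⟨x, hx⟩ ⟨w, hw⟩)
    exact (((h1.mul_right (hc a ha w hw)).mul_left ((hc b hb x hx).symm.mul_right h2))).eq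
  · obtain ⟨a, ha, x, hx, rfl⟩ := hm y hy
    rw [(hc a ha x hx).mul_pow, hA.2 a ha, hX.2 x hx, one_mul]

theorem card_sup_mul_card_inf' {A X : Subgroup G} [Finite A] [Finite X]
    (h : X ≤ normalizer (A : Set G)) :
    Nat.card ↥(A ⊔ X) * Nat.card ↥(A ⊓ X) = Nat.card A * Nat.card X := by
  have h1 : A.relIndex (A ⊔ X) = A.relIndex X := by
    set N := normalizer (A : Set G)
    have hA : A ≤ N := Subgroup.le_normalizer
    haveI : (A.subgroupOf N).Normal := Subgroup.normal_in_normalizer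
    rw [← relIndex_subgroupOf (sup_le hA h), ← relIndex_subgroupOf (H := A) h,
      subgroupOf_sup hA h, sup_comm]
    exact Subgroup.relIndex_sup_right _ _
  have h2 : A.relIndex X * Nat.card ↥(A ⊓ X) = Nat.card X := by
    rw [← Subgroup.inf_relIndex_right, mul_comm, ← Subgroup.relIndex_bot_left,
      ← Subgroup.relIndex_bot_left (H := X), Subgroup.relIndex_mul_relIndex _ _ _ bot_le inf_le_right]
  have h3 : Nat.card A * A.relIndex (A ⊔ X) = Nat.card ↥(A ⊔ X) := by
    rw [← Subgroup.relIndex_bot_left, ← Subgroup.relIndex_bot_left (H := A ⊔ X),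
      Subgroup.relIndex_mul_relIndex _ _ _ bot_le le_sup_left]
  rw [← h3, h1, mul_assoc, h2]

/-- The subgroup generated by the commutators of `v` with the elements of `B`. -/
def commsWith (B : Subgroup G) (v : G) : Subgroup G :=
  closure ((fun b => b * v * b⁻¹ * v⁻¹) '' (B : Set G))

theorem comm_swap {V : Subgroup G} [V.Normal] (hV : ∀ x ∈ V, ∀ y ∈ V, Commute x y) {a b v : G}
    (hab : Commute a b) (hv : v ∈ V) :
    a * (b * v * b⁻¹ * v⁻¹) * a⁻¹ * (b * v * b⁻¹ * v⁻¹)⁻¹ =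
      b * (a * v * a⁻¹ * v⁻¹) * b⁻¹ * (a * v * a⁻¹ * v⁻¹)⁻¹ := by
  have hc : ∀ c : G, c * v * c⁻¹ ∈ V := fun c => Normal.conj_mem inferInstance v hv c
  have e : ∀ a b : G, a * (b * v * b⁻¹ * v⁻¹) * a⁻¹ * (b * v * b⁻¹ * v⁻¹)⁻¹ =
      (a * b) * v * (a * b)⁻¹ * ((a * v * a⁻¹)⁻¹ * (v * (b * v * b⁻¹)⁻¹)) := fun a b => by group
  rw [e, e, hab.eq]
  congr 1
  have h1 := hV _ (V.inv_mem (hc a)) v hv
  have h2 := hV _ (V.inv_mem (hc b)) v hv
  have h3 := hV _ (V.inv_mem (hc a)) _ (V.inv_mem (hc b))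
  generalize (a * v * a⁻¹)⁻¹ = x at h1 h3 ⊢
  generalize (b * v * b⁻¹)⁻¹ = y at h2 h3 ⊢
  calc x * (v * y) = v * (x * y) := by rw [← mul_assoc, h1.eq, mul_assoc]
    _ = v * (y * x) := by rw [h3.eq]
    _ = y * (v * x) := by rw [← mul_assoc, ← h2.eq, mul_assoc]

/-- A subgroup generating a normal subgroup `V` by commutators together with its centralizer there
centralizes `V`, in a nilpotent group. -/
theorem le_centralizer_of_comm [Group.IsNilpotent G] {V B : Subgroup G}
    (h : V ≤ closure {y | ∃ b ∈ B, ∃ v ∈ V, y = b * v * b⁻¹ * v⁻¹} ⊔ (V ⊓ centralizer (B : Set G))) :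
    V ≤ centralizer (B : Set G) := by
  have key : ∀ n, V ≤ (⊤ : Subgroup G).lowerCentralSeries n ⊔ (V ⊓ centralizer (B : Set G)) := by
    intro n
    induction n with
    | zero => rw [Subgroup.lowerCentralSeries_zero, top_sup_eq]; exact le_top
    | succ n ih =>
      refine h.trans (sup_le ((closure_le _).2 ?_) le_sup_right)
      rintro _ ⟨b, hb, v, hv, rfl⟩
      refine mem_sup_left ?_
      obtain ⟨l, hl, x, hx, rfl⟩ := mem_sup_of_normal_left.1 (ih hv)
      have hxb : b * x * b⁻¹ = x := by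
        rw [mem_centralizer_iff.1 hx.2 b hb, mul_inv_cancel_right]
      have : b * (l * x) * b⁻¹ * (l * x)⁻¹ = b * l * b⁻¹ * l⁻¹ := by
        conv_lhs => rw [show b * (l * x) * b⁻¹ = b * l * b⁻¹ * (b * x * b⁻¹) by group, hxb]
        group
      rw [this]
      have hm : l * b * l⁻¹ * b⁻¹ ∈ (⊤ : Subgroup G).lowerCentralSeries (n + 1) := by
        rw [Subgroup.mem_lowerCentralSeries_succ_iff]
        exact subset_closure ⟨l, hl, b, mem_top b, rfl⟩
      have := ((⊤ : Subgroup G).lowerCentralSeries (n + 1)).inv_mem hm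
      simpa [mul_assoc] using this
  obtain ⟨n, hn⟩ := Subgroup.nilpotent_iff_lowerCentralSeries.1 ‹Group.IsNilpotent G›
  have := key n
  rw [hn, bot_sup_eq] at this
  exact this.trans inf_le_right

/-- Replacement: a nontrivially and quadratically acting subgroup of a largest elementary abelian subgroup. -/
theorem exists_quadratic [Finite G] [Group.IsNilpotent G] {p : ℕ} {V A : Subgroup G} [V.Normal]
    (hV : Cfsg.IsElementaryAbelian p V) (hA : Cfsg.IsElementaryAbelian p A)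
    (hmax : ∀ B : Subgroup G, Cfsg.IsElementaryAbelian p B → Nat.card B ≤ Nat.card A)
    (hne : ¬ A ≤ centralizer (V : Set G)) :
    ∃ a ∈ A, a ∉ centralizer (V : Set G) ∧
      ∀ v ∈ V, Commute a (a * v * a⁻¹ * v⁻¹) := by
  classical
  have hVc : ∀ x ∈ V, ∀ y ∈ V, Commute x y := fun x hx y hy =>
    congrArg Subtype.val (hV.1.is_comm.comm ⟨x, hx⟩ ⟨y, hy⟩)
  have hAc : ∀ x ∈ A, ∀ y ∈ A, Commute x y := fun x hx y hy =>
    congrArg Subtype.val (hA.1.is_comm.comm ⟨x, hx⟩ ⟨y, hy⟩)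
  have hsubEA : ∀ {B X : Subgroup G}, B ≤ X → Cfsg.IsElementaryAbelian p X →
      Cfsg.IsElementaryAbelian p B := fun {B X} h hX =>
    ⟨⟨⟨fun a b => Subtype.ext (congrArg (fun t : X => (t : G))
      (hX.1.is_comm.comm ⟨a, h a.2⟩ ⟨b, h b.2⟩) :)⟩⟩, fun a ha => hX.2 a (h ha)⟩
  set C₀ := A ⊓ centralizer (V : Set G) with hC₀
  let m : Subgroup G → ℕ := fun B => Nat.card B * Nat.card ↥(V ⊓ centralizer (B : Set G))
  -- the measure is bounded by its value at `A`
  have hVA : A ⊓ V ≤ C₀ := fun x hx => ⟨hx.1, mem_centralizer_iff.2 fun v hv => hVc v hv x hx.2⟩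
  have hinf : ∀ B, C₀ ≤ B → B ≤ A → B ⊓ (V ⊓ centralizer (B : Set G)) = A ⊓ V := by
    intro B h0 hB
    refine le_antisymm (fun x hx => ⟨hB hx.1, hx.2.1⟩) fun x hx =>
      ⟨h0 (hVA hx), hx.2, mem_centralizer_iff.2 fun b hb => hAc b (hB hb) x hx.1⟩
  have hnorm : ∀ B : Subgroup G, V ⊓ centralizer (B : Set G) ≤ normalizer (B : Set G) := fun B =>
    inf_le_right.trans (Subgroup.centralizer_le_normalizer _)
  have hsup : ∀ B, B ≤ A → Cfsg.IsElementaryAbelian p (B ⊔ (V ⊓ centralizer (B : Set G))) :=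
    fun B hB => elementary_sup (hsubEA hB hA) (hsubEA inf_le_left hV) inf_le_right
  have hVCA : V ⊓ centralizer (A : Set G) = A ⊓ V := by
    have h := Subgroup.eq_of_le_of_card_ge (le_sup_left : A ≤ A ⊔ (V ⊓ centralizer (A : Set G)))
      (hmax _ (hsup A le_rfl))
    refine le_antisymm (fun x hx => ⟨h.symm ▸ mem_sup_right hx, hx.1⟩) fun x hx =>
      ⟨hx.2, mem_centralizer_iff.2 fun a ha => hAc a ha x hx.1⟩
  have hbound : ∀ B, C₀ ≤ B → B ≤ A → m B ≤ m A := by
    intro B h0 hB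
    show Nat.card B * _ ≤ Nat.card A * _
    rw [← card_sup_mul_card_inf' (hnorm B), hinf B h0 hB, hVCA]
    exact Nat.mul_le_mul_right _ (hmax _ (hsup B hB))
  -- choose a smallest subgroup attaining the bound
  obtain ⟨B, ⟨hB0, hBA, hBne, hBm⟩, hBmin⟩ :=
    (Set.toFinite {B : Subgroup G | C₀ ≤ B ∧ B ≤ A ∧ B ≠ C₀ ∧ m B = m A}).exists_minimal
      ⟨A, inf_le_left, le_rfl, fun h => hne (h.le.trans inf_le_right), rfl⟩
  obtain ⟨a, haB, ha0⟩ := SetLike.exists_of_lt (lt_of_le_of_ne hB0 (Ne.symm hBne))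
  refine ⟨a, hBA haB, fun h => ha0 ⟨hBA haB, h⟩, fun v hv => ?_⟩
  set M := commsWith B v with hM
  set C := B ⊓ centralizer (M : Set G) with hC
  set X := V ⊓ centralizer (B : Set G) with hX
  have hcV : ∀ b : G, b * v * b⁻¹ * v⁻¹ ∈ V := fun b =>
    V.mul_mem (Normal.conj_mem inferInstance v hv b) (V.inv_mem hv)
  have hMV : M ≤ V := (closure_le _).2 (by rintro _ ⟨b, -, rfl⟩; exact hcV b)
  have hC0 : C₀ ≤ C := fun x hx =>
    ⟨hB0 hx, mem_centralizer_iff.2 fun y hy => mem_centralizer_iff.1 hx.2 y (hMV hy)⟩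
  set Y := M ⊔ X with hY
  have hYV : Y ≤ V := sup_le hMV inf_le_left
  -- the index of `C` in `B` is bounded by that of `X` in `Y`
  have hidx : C.relIndex B ≤ X.relIndex Y := by
    let f : B ⧸ C.subgroupOf B → Y ⧸ X.subgroupOf Y := fun q =>
      QuotientGroup.mk ⟨(q.out : G) * v * (q.out : G)⁻¹ * v⁻¹,
        mem_sup_left (subset_closure ⟨q.out, (q.out).2, rfl⟩)⟩
    have hf : Function.Injective f := by
      intro q r hqr
      rw [← QuotientGroup.out_eq' q, ← QuotientGroup.out_eq' r, QuotientGroup.eq]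
      set b₁ := q.out
      set b₂ := r.out
      have hz := QuotientGroup.eq.1 hqr
      rw [mem_subgroupOf] at hz
      simp only [Subgroup.coe_mul, Subgroup.coe_inv] at hz
      set w₁ := (b₁ : G) * v * (b₁ : G)⁻¹ * v⁻¹ with hw₁
      set w₂ := (b₂ : G) * v * (b₂ : G)⁻¹ * v⁻¹ with hw₂
      rw [mem_subgroupOf]
      refine ⟨(b₁⁻¹ * b₂).2, ?_⟩
      suffices hs : ∀ b ∈ B, Commute ((b₁ : G)⁻¹ * b₂) (b * v * b⁻¹ * v⁻¹) by
        have : M ≤ centralizer ({(b₁ : G)⁻¹ * b₂} : Set G) := by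
          refine (closure_le _).2 ?_
          rintro _ ⟨b, hb, rfl⟩
          exact mem_centralizer_singleton_iff.2 (hs b hb).eq.symm
        exact mem_centralizer_iff.2 fun y hy => mem_centralizer_singleton_iff.1 (this hy)
      intro b hb
      have e1 := comm_swap hVc (hAc b (hBA hb) b₁ (hBA b₁.2)) hv
      have e2 := comm_swap hVc (hAc b (hBA hb) b₂ (hBA b₂.2)) hv
      rw [← hw₁] at e1
      rw [← hw₂] at e2
      obtain ⟨z, hz', he⟩ : ∃ z ∈ X, w₂ = w₁ * z := ⟨_, hz, (mul_inv_cancel_left _ _).symm⟩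
      have hbz : b * z * b⁻¹ = z := by rw [mem_centralizer_iff.1 hz'.2 b hb, mul_inv_cancel_right]
      have e3 : b * w₂ * b⁻¹ * w₂⁻¹ = b * w₁ * b⁻¹ * w₁⁻¹ := by
        rw [he, show b * (w₁ * z) * b⁻¹ = b * w₁ * b⁻¹ * (b * z * b⁻¹) by group, hbz]
        group
      set u := b * v * b⁻¹ * v⁻¹
      have e4 : (b₁ : G) * u * (b₁ : G)⁻¹ = (b₂ : G) * u * (b₂ : G)⁻¹ :=
        mul_right_cancel (e1.symm.trans (e3.symm.trans e2))
      show (b₁ : G)⁻¹ * b₂ * u = u * ((b₁ : G)⁻¹ * b₂)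
      calc (b₁ : G)⁻¹ * b₂ * u = (b₁ : G)⁻¹ * ((b₂ : G) * u * (b₂ : G)⁻¹) * b₂ := by group
        _ = (b₁ : G)⁻¹ * ((b₁ : G) * u * (b₁ : G)⁻¹) * b₂ := by rw [e4]
        _ = u * ((b₁ : G)⁻¹ * b₂) := by group
    exact Nat.card_le_card_of_injective f hf
  have hXY : X ≤ Y := le_sup_right
  have hmCY : m B ≤ Nat.card C * Nat.card Y := by
    have e1 : Nat.card C * C.relIndex B = Nat.card B := by
      rw [← Subgroup.relIndex_bot_left, ← Subgroup.relIndex_bot_left (H := B),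
        Subgroup.relIndex_mul_relIndex _ _ _ bot_le inf_le_left]
    have e2 : Nat.card X * X.relIndex Y = Nat.card Y := by
      rw [← Subgroup.relIndex_bot_left, ← Subgroup.relIndex_bot_left (H := Y),
        Subgroup.relIndex_mul_relIndex _ _ _ bot_le hXY]
    show Nat.card B * Nat.card X ≤ _
    rw [← e1, ← e2, mul_assoc, mul_comm (C.relIndex B)]
    exact Nat.mul_le_mul_left _ (Nat.mul_le_mul_left _ hidx)
  by_cases hCB : C = C₀
  · exfalso
    have h0 : m C₀ = Nat.card C₀ * Nat.card V := by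
      show _ * _ = _
      rw [inf_eq_left.2 fun x hx => mem_centralizer_iff.2 fun c hc =>
        (mem_centralizer_iff.1 hc.2 x hx).symm]
    have hle : Nat.card C₀ * Nat.card V ≤ Nat.card C₀ * Nat.card Y := by
      rw [← h0]
      exact (hbound C₀ le_rfl inf_le_left).trans (hBm ▸ hCB ▸ hmCY)
    have hYV' : Y = V := Subgroup.eq_of_le_of_card_ge hYV
      (Nat.le_of_mul_le_mul_left hle Nat.card_pos)
    have hVle : V ≤ centralizer (B : Set G) := by
      refine le_centralizer_of_comm ?_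
      conv_lhs => rw [← hYV']
      refine sup_le_sup_right (closure_mono ?_) _
      rintro _ ⟨b, hb, rfl⟩
      exact ⟨b, hb, v, hv, rfl⟩
    exact hBne (le_antisymm (fun b hb => ⟨hBA hb, mem_centralizer_iff.2 fun x hx =>
      (mem_centralizer_iff.1 (hVle hx) b hb).symm⟩) hB0)
  · have hYC : Y ≤ V ⊓ centralizer (C : Set G) := le_inf hYV (sup_le
      (fun y hy => mem_centralizer_iff.2 fun c hc => (mem_centralizer_iff.1 hc.2 y hy).symm)
      (inf_le_right.trans (centralizer_le inf_le_left)))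
    have hCm : m C = m A := le_antisymm (hbound C hC0 (inf_le_left.trans hBA))
      (hBm ▸ hmCY.trans (Nat.mul_le_mul_left _ (Subgroup.card_le_of_le hYC)))
    have hCB' : B ≤ C := hBmin (y := C) ⟨hC0, inf_le_left.trans hBA, hCB, hCm⟩ inf_le_left
    exact (mem_centralizer_iff.1 (hCB' haB).2 _ (subset_closure ⟨a, haB, rfl⟩)).symm

end Cfsg.Agent.H91
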