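import Cfsg.Agent.FusionSys.Normal

/-!
The centralizer fusion system of a subgroup exists.
-/

set_option autoImplicit false

namespace Cfsg.Agent.H91

open Cfsg Cfsg.FusionSystem Cfsg.Agent.FusionSys

variable {Ω : Type*} [Group Ω] {S : Subgroup Ω}

theorem centralizerHom_iff (F : FusionSystem S) {Z P : Subgroup Ω} {φ : P →* Ω} :
    φ ∈ F.centralizerHom Z P ↔ P ≤ centralizerIn S Z ∧ (∀ x : P, φ x ∈ centralizerIn S Z) ∧
      ∃ g, IsMap F (P ⊔ Z) g ∧ (∀ x : P, g x = φ x) ∧ ∀ x ∈ Z, g x = x := by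
  constructor
  · rintro ⟨-, h2, h3, ψ, hψ, he, hfix⟩
    refine ⟨h2, h3, homFun ψ, isMap_of_mem hψ, fun x => ?_, fun x hx => ?_⟩
    · rw [homFun_mem ψ (Subgroup.mem_sup_left x.2)]; exact he x
    · rw [homFun_mem ψ (Subgroup.mem_sup_right hx)]; exact hfix ⟨x, hx⟩
  · rintro ⟨h2, h3, g, hg, he, hfix⟩
    obtain ⟨ψ, hψ, hψg⟩ := hg
    refine ⟨mem_hom_of_isMap ((IsMap.mono ⟨ψ, hψ, hψg⟩ le_sup_left)) fun x => (he x).symm, h2, h3, ψ, hψ,
      fun x => (hψg _).trans (he x), fun x => (hψg _).trans (hfix x x.2)⟩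

/-- The centralizer fusion system `C_F(Z)`. -/
def centSys (F : FusionSystem S) {Z : Subgroup Ω} (hZ : Z ≤ S) : FusionSystem (centralizerIn S Z) where
  Hom P := F.centralizerHom Z P
  le_of_mem h := ⟨h.2.1, h.2.2.1⟩
  injective_of_mem h := F.injective_of_mem h.1
  conj_mem {P a} hP ha := (centralizerHom_iff F).2 ⟨hP,
    fun x => mul_mem (mul_mem ha (hP x.2)) (inv_mem ha),
    conjMap a, isMap_conj F (sup_le (hP.trans centralizerIn_le) hZ) ha.1, fun _ => rfl, fun x hx => by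
      rw [conjMap_apply, ← (FusionSys.mem_centralizerIn.1 ha).2 x hx, mul_inv_cancel_right]⟩
  comp_mem {P R φ ψ} hφ hψ h := by
    obtain ⟨h1, h2, g, hg, hge, hgz⟩ := (centralizerHom_iff F).1 hφ
    obtain ⟨k1, k2, k, hk, hke, hkz⟩ := (centralizerHom_iff F).1 hψ
    refine (centralizerHom_iff F).2 ⟨h1, fun x => k2 _, k ∘ g, hg.comp hk fun x hx => ?_, fun x => ?_,
      fun x hx => ?_⟩
    · exact hg.mapsTo_sup (fun y hy => Subgroup.mem_sup_left (hge ⟨y, hy⟩ ▸ h ⟨y, hy⟩))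
        (fun y hy => Subgroup.mem_sup_right ((hgz y hy).symm ▸ hy)) hx
    · show k (g x) = ψ ⟨φ x, h x⟩
      rw [hge x]
      exact hke ⟨φ x, h x⟩
    · show k (g x) = x
      rw [hgz x hx, hkz x hx]
  inv_mem {P φ} hφ := by
    obtain ⟨h1, h2, g, hg, hge, hgz⟩ := (centralizerHom_iff F).1 hφ
    obtain ⟨k, hk, hkg⟩ := hg.exists_inv
    obtain ⟨ψ, hψ, hψe⟩ := F.inv_mem hφ.1
    have hle : φ.range ⊔ Z ≤ imgSub g (P ⊔ Z) := by
      refine sup_le ?_ fun y hy => hg.mem_imgSub.2 ⟨y, Subgroup.mem_sup_right hy, hgz y hy⟩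
      rintro _ ⟨x, rfl⟩
      exact hg.mem_imgSub.2 ⟨x, Subgroup.mem_sup_left x.2, hge x⟩
    refine ⟨ψ, (centralizerHom_iff F).2 ⟨fun y hy => ?_, fun y => ?_, k, hk.mono hle, fun y => ?_,
      fun y hy => ?_⟩, hψe⟩
    · obtain ⟨x, rfl⟩ := hy
      exact h2 x
    · obtain ⟨_, x, rfl⟩ := y
      exact (hψe x).symm ▸ h1 x.2
    · obtain ⟨_, x, rfl⟩ := y
      show k (φ x) = _
      rw [hψe x, ← hge x, hkg x (Subgroup.mem_sup_left x.2)]
    · calc k y = k (g y) := by rw [hgz y hy]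
        _ = y := hkg y (Subgroup.mem_sup_right hy)

theorem isCentralizerSystem_centSys (F : FusionSystem S) {Z : Subgroup Ω} (hZ : Z ≤ S) :
    F.IsCentralizerSystem Z (centSys F hZ) := fun _ => rfl

end Cfsg.Agent.H91
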