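import Cfsg.Agent.FusionSys.Transport
import Cfsg.Agent.FusionSys.Normal
import Cfsg.Agent.Thompson.ZJ

/-!
A normal subgroup of a group realizing a fusion system gives a normal subsystem.
-/

set_option autoImplicit false

namespace Cfsg.Agent.H91

open Cfsg Cfsg.Agent.FusionSys
open Cfsg.FusionSystem (centralizerIn normalizerIn)

section GroupLemma

variable {G : Type*} [Group G] [Finite G] {p : ℕ} [Fact p.Prime]

/-- A `p`-subgroup of a normal subgroup containing the trace of a Sylow subgroup equals that trace. -/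
theorem eq_inf_of_le {H M : Subgroup G} [H.Normal] (Sy : Sylow p G) (hM : IsPGroup p M) (hMH : M ≤ H)
    (hle : (Sy : Subgroup G) ⊓ H ≤ M) : M = (Sy : Subgroup G) ⊓ H := by
  obtain ⟨Q, hQ⟩ := Thompson.exists_sylow_inf_normal Sy H
  have h1 : (Q : Subgroup H) ≤ M.subgroupOf H := fun x hx =>
    hle (hQ ▸ Subgroup.mem_map_of_mem H.subtype hx)
  have h2 := Q.is_maximal' (hM.comap_of_injective H.subtype H.subtype_injective) h1
  rw [← hQ, ← h2]
  exact (Subgroup.map_comap_eq_self (by rwa [Subgroup.range_subtype])).symm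

/-- An element of `H` normalizing `T = Sy ⊓ H` can be modified by one centralizing `T` so as to
normalize `Sy ⊓ C(T)` as well. -/
theorem exists_normalizing {H : Subgroup G} [H.Normal] (Sy : Sylow p G) {h : G} (hh : h ∈ H)
    (hn : h ∈ Subgroup.normalizer (((Sy : Subgroup G) ⊓ H : Subgroup G) : Set G)) :
    ∃ m ∈ H, (∀ t ∈ (Sy : Subgroup G) ⊓ H, m * t * m⁻¹ = h * t * h⁻¹) ∧
      ∀ c ∈ (Sy : Subgroup G) ⊓ Subgroup.centralizer (((Sy : Subgroup G) ⊓ H : Subgroup G) : Set G),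
        m * c * m⁻¹ ∈ (Sy : Subgroup G) ⊓
          Subgroup.centralizer (((Sy : Subgroup G) ⊓ H : Subgroup G) : Set G) := by
  set T := (Sy : Subgroup G) ⊓ H with hT
  set Z := Subgroup.centralizer (T : Set G) with hZ
  set C := (Sy : Subgroup G) ⊓ Z with hC
  set D := Z ⊓ (C ⊔ H) with hD
  have hCp : IsPGroup p C := Sy.isPGroup'.to_le inf_le_left
  have hCD : C ≤ D := le_inf inf_le_right le_sup_left
  have hZh : ∀ x ∈ Z, h * x * h⁻¹ ∈ Z := by
    intro x hx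
    refine Subgroup.mem_centralizer_iff.2 fun t ht => ?_
    have ht' : h⁻¹ * t * h ∈ T := by
      simpa using (Subgroup.mem_normalizer_iff.1 (inv_mem hn) t).1 ht
    have e := Subgroup.mem_centralizer_iff.1 hx _ ht'
    calc t * (h * x * h⁻¹) = h * (h⁻¹ * t * h * x) * h⁻¹ := by group
      _ = h * x * h⁻¹ * t := by rw [e]; group
  have hhD : ∀ x ∈ D, h * x * h⁻¹ ∈ D := fun x hx =>
    ⟨hZh x hx.1, mul_mem (mul_mem (Subgroup.mem_sup_right hh) hx.2)
      (Subgroup.inv_mem _ (Subgroup.mem_sup_right hh))⟩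
  have hmax : ∀ R : Subgroup G, IsPGroup p R → R ≤ D → C ≤ R → R ≤ C := by
    intro R hR hRD hCR r hr
    obtain ⟨c, hc, k, hk, rfl⟩ := Subgroup.mem_sup_of_normal_right.1 (hRD hr).2
    have hkR : k ∈ R := by simpa using mul_mem (inv_mem (hCR hc)) hr
    have hkZ : k ∈ Z := by simpa using mul_mem (Subgroup.inv_mem Z hc.2) (hRD hr).1
    have hM : IsPGroup p ↥((R ⊓ H) ⊔ T) := by
      refine (hR.to_le inf_le_left).to_sup_of_normal_right' (Sy.isPGroup'.to_le inf_le_left) ?_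
      exact fun x hx => centralizer_le_normalizer' T (hRD hx.1).1
    have hMe := eq_inf_of_le Sy hM (sup_le inf_le_right inf_le_right) le_sup_right
    have hkT : k ∈ T := hMe.le (Subgroup.mem_sup_left ⟨hkR, hk⟩)
    exact mul_mem hc ⟨hkT.1, hkZ⟩
  obtain ⟨R, hR⟩ := (hCp.of_equiv (Subgroup.subgroupOfEquivOfLe hCD).symm).exists_le_sylow
  have hRC : ∀ x : D, x ∈ (R : Subgroup D) → (x : G) ∈ C := by
    intro x hx
    refine hmax ((R : Subgroup D).map D.subtype) (R.isPGroup'.map _) (Subgroup.map_subtype_le _)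
      (fun y hy => ⟨⟨y, hCD hy⟩, hR (show (⟨y, hCD hy⟩ : D) ∈ C.subgroupOf D from hy), rfl⟩) ?_
    exact ⟨x, hx, rfl⟩
  set C1 := C.map (MulAut.conj h).toMonoidHom with hC1
  have hC1D : C1 ≤ D := by
    rintro _ ⟨x, hx, rfl⟩
    exact hhD x (hCD hx)
  obtain ⟨R', hR'⟩ :=
    ((hCp.map _).of_equiv (Subgroup.subgroupOfEquivOfLe hC1D).symm).exists_le_sylow
  obtain ⟨d, hd⟩ := MulAction.exists_smul_eq D R' R
  obtain ⟨c0, hc0, k, hk, hck⟩ := Subgroup.mem_sup_of_normal_right.1 d.2.2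
  have hkZ : k ∈ Z := by
    have := mul_mem (Subgroup.inv_mem Z hc0.2) d.2.1
    rwa [← hck, inv_mul_cancel_left] at this
  refine ⟨k * h, mul_mem hk hh, fun t ht => ?_, fun c hc => ?_⟩
  · have := Subgroup.mem_centralizer_iff.1 hkZ _ ((Subgroup.mem_normalizer_iff.1 hn t).1 ht)
    calc k * h * t * (k * h)⁻¹ = k * (h * t * h⁻¹) * k⁻¹ := by group
      _ = h * t * h⁻¹ := by rw [← this, mul_inv_cancel_right]
  · have h1 : d * ⟨_, hC1D ⟨c, hc, rfl⟩⟩ * d⁻¹ ∈ ((d • R' : Sylow p D) : Subgroup D) := by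
      rw [Sylow.coe_subgroup_smul]
      exact ⟨_, hR' (show (⟨_, hC1D ⟨c, hc, rfl⟩⟩ : D) ∈ C1.subgroupOf D from ⟨c, hc, rfl⟩), rfl⟩
    rw [hd] at h1
    have h2 : (d : G) * (h * c * h⁻¹) * (d : G)⁻¹ ∈ C := hRC _ h1
    have h3 := mul_mem (mul_mem (inv_mem hc0) h2) hc0
    rw [← hck] at h3
    have e : c0⁻¹ * (c0 * k * (h * c * h⁻¹) * (c0 * k)⁻¹) * c0 = k * h * c * (k * h)⁻¹ := by group
    rwa [e] at h3

end GroupLemma

variable {Ω : Type*} [Group Ω] {S T : Subgroup Ω} {G : Type*} [Group G]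
variable (F : FusionSystem S) (ι : S →* G) (H : Subgroup G)

/-- The maps of `F` between subgroups of `T` induced by elements of `H`. -/
noncomputable def subSys (hT : ∀ x, x ∈ T ↔ x ∈ S ∧ homFun ι x ∈ H) [H.Normal]
    (hr : F.IsRealizedBy ι) : FusionSystem T where
  Hom P := {φ | P ≤ T ∧ φ ∈ F.Hom P ∧
    ∃ h ∈ H, ∀ x : P, homFun ι (φ x) = h * homFun ι x * h⁻¹}
  le_of_mem := by
    rintro P φ ⟨hP, hφ, h, hh, he⟩
    refine ⟨hP, fun x => (hT _).2 ⟨(F.le_of_mem hφ).2 x, ?_⟩⟩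
    rw [he x]
    exact mul_mem (mul_mem hh ((hT _).1 (hP x.2)).2) (inv_mem hh)
  injective_of_mem h := F.injective_of_mem h.2.1
  conj_mem := by
    intro P g hP hg
    have hPS : P ≤ S := fun x hx => ((hT x).1 (hP hx)).1
    obtain ⟨hgS, hgH⟩ := (hT g).1 hg
    refine ⟨hP, F.conj_mem hPS hgS, _, hgH, fun x => ?_⟩
    show homFun ι (g * x * g⁻¹) = _
    rw [homFun_mem ι (S.mul_mem (S.mul_mem hgS (hPS x.2)) (S.inv_mem hgS)), homFun_mem ι hgS,
      homFun_mem ι (hPS x.2), ← map_inv, ← map_mul, ← map_mul]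
    rfl
  comp_mem := by
    rintro P Q φ ψ ⟨hP, hφ, g, hg, he⟩ ⟨-, hψ, k, hk, he'⟩ h
    refine ⟨hP, F.comp_mem hφ hψ h, k * g, mul_mem hk hg, fun x => ?_⟩
    show homFun ι (ψ (φ.codRestrict Q h x)) = _
    rw [he']
    show k * homFun ι (φ x) * k⁻¹ = _
    rw [he]
    group
  inv_mem := by
    rintro P φ ⟨hP, hφ, g, hg, he⟩
    obtain ⟨ψ, hψ, hi⟩ := F.inv_mem hφ
    refine ⟨ψ, ⟨?_, hψ, g⁻¹, inv_mem hg, ?_⟩, hi⟩
    · rintro _ ⟨x, rfl⟩
      refine (hT _).2 ⟨(F.le_of_mem hφ).2 x, ?_⟩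
      rw [he x]
      exact mul_mem (mul_mem hg ((hT _).1 (hP x.2)).2) (inv_mem hg)
    · rintro ⟨_, x, rfl⟩
      rw [hi x, he x]
      group

variable {F} {ι} {H} [H.Normal] (hT : ∀ x, x ∈ T ↔ x ∈ S ∧ homFun ι x ∈ H) (hr : F.IsRealizedBy ι)

include hT in
theorem le_S : T ≤ S := fun x hx => ((hT x).1 hx).1

theorem isMap_subSys_iff {P : Subgroup Ω} {f : Ω → Ω} :
    IsMap (subSys F ι H hT hr) P f ↔
      P ≤ T ∧ IsMap F P f ∧ ∃ h ∈ H, ∀ x ∈ P, homFun ι (f x) = h * homFun ι x * h⁻¹ := by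
  constructor
  · rintro ⟨φ, ⟨hP, hφ, h, hh, he⟩, hf⟩
    exact ⟨hP, ⟨φ, hφ, hf⟩, h, hh, fun x hx => by rw [← hf ⟨x, hx⟩, he ⟨x, hx⟩]⟩
  · rintro ⟨hP, ⟨φ, hφ, hf⟩, h, hh, he⟩
    exact ⟨φ, ⟨hP, hφ, h, hh, fun x => by rw [hf x, he x x.2]⟩, hf⟩

include hr in
theorem exists_conj_of_isMap {P : Subgroup Ω} {f : Ω → Ω} (h : IsMap F P f) :
    ∃ g : G, ∀ x ∈ P, homFun ι (f x) = g * homFun ι x * g⁻¹ := by
  obtain ⟨hP, g, hg⟩ := (isMap_realized_iff hr).1 h
  refine ⟨g, fun x hx => ?_⟩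
  obtain ⟨h1, h2⟩ := hg ⟨x, hP hx⟩ hx
  rw [homFun_mem ι h1, h2, homFun_mem ι (hP hx)]

include hr in
theorem exists_isMap_of_conj {P : Subgroup Ω} (hP : P ≤ S) {g : G}
    (hg : ∀ x ∈ P, g * homFun ι x * g⁻¹ ∈ ι.range) :
    ∃ f, IsMap F P f ∧ ∀ x ∈ P, homFun ι (f x) = g * homFun ι x * g⁻¹ := by
  have key : ∀ x ∈ P, bwdFun hr.1 (g * homFun ι x * g⁻¹) ∈ S ∧
      homFun ι (bwdFun hr.1 (g * homFun ι x * g⁻¹)) = g * homFun ι x * g⁻¹ := by
    intro x hx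
    obtain ⟨s, hs⟩ := hg x hx
    rw [← hs, bwdFun_apply, homFun_coe]
    exact ⟨s.2, rfl⟩
  refine ⟨fun x => bwdFun hr.1 (g * homFun ι x * g⁻¹),
    (isMap_realized_iff hr).2 ⟨hP, g, fun x hx => ?_⟩, fun x hx => (key x hx).2⟩
  obtain ⟨h1, h2⟩ := key x hx
  refine ⟨h1, ?_⟩
  rw [← homFun_coe ι x, ← homFun_mem ι h1, h2]

include hT hr in
theorem stronglyClosed_sub : F.StronglyClosed T := by
  refine stronglyClosed_iff.2 ⟨le_S hT, fun R f hR hf x hx => ?_⟩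
  obtain ⟨g, hg⟩ := exists_conj_of_isMap hr hf
  refine (hT _).2 ⟨hf.mem_S hx, ?_⟩
  rw [hg x hx]
  exact Subgroup.Normal.conj_mem inferInstance _ ((hT x).1 (hR hx)).2 g

variable [Finite S] [Finite G] {p : ℕ} [Fact p.Prime]

theorem subSys_saturated (hS : IsPGroup p S) (hSyl : ∃ Sy : Sylow p G, (Sy : Subgroup G) = ι.range) :
    (subSys F ι H hT hr).IsSaturated p := by
  haveI : Finite T := finite_of_le (le_S hT)
  obtain ⟨Sy, hSy⟩ := hSyl
  let ι' : T →* H := MonoidHom.codRestrict (ι.comp (Subgroup.inclusion (le_S hT))) H fun x =>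
    show ι ⟨x, le_S hT x.2⟩ ∈ H by
      rw [← homFun_mem ι (le_S hT x.2)]
      exact ((hT x).1 x.2).2
  have hι' : ∀ x : T, ((ι' x : H) : G) = homFun ι x := fun x => (homFun_mem ι (le_S hT x.2)).symm
  have hr' : (subSys F ι H hT hr).IsRealizedBy ι' := by
    refine ⟨fun a b hab => ?_, fun P hP φ hφ => ⟨?_, ?_⟩⟩
    · exact Subgroup.inclusion_injective _ (hr.1 (congrArg Subtype.val hab))
    · rintro ⟨-, -, h, hh, he⟩
      exact ⟨⟨h, hh⟩, fun x => Subtype.ext (by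
        rw [Subgroup.coe_mul, Subgroup.coe_mul, hι', hι', he]; rfl)⟩
    · rintro ⟨g, hg⟩
      have he : ∀ x : P, homFun ι (φ x) = (g : G) * homFun ι x * (g : G)⁻¹ := fun x => by
        have := congrArg Subtype.val (hg x)
        rw [Subgroup.coe_mul, Subgroup.coe_mul, hι', hι'] at this
        exact this
      refine ⟨hP, ?_, g, g.2, he⟩
      refine (hr.2 P (hP.trans (le_S hT)) φ fun x => le_S hT (hφ x)).2 ⟨g, fun x => ?_⟩
      rw [← homFun_mem ι, ← homFun_mem ι, he]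
  refine isSaturated_of_realized (hS.to_le (le_S hT)) hr' ?_
  obtain ⟨Q, hQ⟩ := Thompson.exists_sylow_inf_normal Sy H
  refine ⟨Q, Subgroup.map_injective H.subtype_injective ?_⟩
  rw [hQ, hSy]
  ext y
  constructor
  · rintro ⟨⟨s, rfl⟩, hy⟩
    have hs : (s : Ω) ∈ T := (hT _).2 ⟨s.2, by rwa [homFun_coe]⟩
    exact ⟨_, ⟨⟨s, hs⟩, rfl⟩, rfl⟩
  · rintro ⟨_, ⟨x, rfl⟩, rfl⟩
    exact ⟨⟨_, rfl⟩, (ι' x).2⟩

/-- The subsystem of a normal subgroup is normal. -/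
theorem subSys_isNormalIn (hS : IsPGroup p S)
    (hSyl : ∃ Sy : Sylow p G, (Sy : Subgroup G) = ι.range) :
    (subSys F ι H hT hr).IsNormalIn F p := by
  have hTS := le_S hT
  haveI : Finite T := finite_of_le hTS
  obtain ⟨Sy, hSy⟩ := hSyl
  have hsc := stronglyClosed_sub hT hr
  have hjT : ∀ x ∈ T, homFun ι x ∈ (Sy : Subgroup G) ⊓ H := fun x hx =>
    ⟨by rw [hSy, homFun_mem ι (hTS hx)]; exact ⟨_, rfl⟩, ((hT x).1 hx).2⟩
  have hjT' : ∀ y ∈ (Sy : Subgroup G) ⊓ H, ∃ x ∈ T, homFun ι x = y := by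
    rintro y ⟨hy, hyH⟩
    rw [hSy] at hy
    obtain ⟨s, rfl⟩ := hy
    exact ⟨s, (hT _).2 ⟨s.2, by rwa [homFun_coe]⟩, homFun_coe ι s⟩
  refine ⟨⟨subSys_saturated hT hr hS ⟨Sy, hSy⟩, isSaturated_of_realized hS hr ⟨Sy, hSy⟩,
    fun P φ hφ => hφ.2.1, hsc, ?_, ?_⟩, ?_⟩
  · intro P hPT φ hφ α hα
    have hαi := isIso_autMap hTS hα
    obtain ⟨g, hg⟩ := exists_conj_of_isMap hr hαi.isMap
    obtain ⟨-, hφF, h, hh, he⟩ := hφ
    have hφT : ∀ x ∈ P, homFun φ x ∈ T :=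
      (stronglyClosed_iff.1 hsc).2 P _ hPT (isMap_of_mem hφF)
    set Q := (P.subgroupOf T).map (T.subtype.comp α.toMonoidHom) with hQ
    have hQT : Q ≤ T := by
      rintro _ ⟨x, -, rfl⟩
      exact (α x).2
    obtain ⟨g', hg'i, hg'l, -⟩ := hαi.exists_symm
    have hQP : ∀ y ∈ Q, g' y ∈ P := by
      rintro _ ⟨x, hx, rfl⟩
      show g' ((α x : T) : Ω) ∈ P
      rw [← autMap_coe α x, hg'l x x.2]
      exact hx
    have hm : IsMap (subSys F ι H hT hr) Q (autMap α ∘ homFun φ ∘ g') := by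
      refine (isMap_subSys_iff hT hr).2 ⟨hQT, ((hg'i.isMap.mono hQT).comp (isMap_of_mem hφF) hQP).comp
        hαi.isMap fun y hy => hφT _ (hQP y hy), g * h * g⁻¹,
        Subgroup.Normal.conj_mem inferInstance _ hh g, fun y hy => ?_⟩
      obtain ⟨x, hx, rfl⟩ := hy
      show homFun ι (autMap α (homFun φ (g' ((α x : T) : Ω)))) = _
      rw [← autMap_coe α x, hg'l x x.2]
      change _ = g * h * g⁻¹ * homFun ι ((α x : T) : Ω) * (g * h * g⁻¹)⁻¹
      rw [← autMap_coe α x]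
      rw [hg _ (hφT (x : Ω) hx), homFun_mem φ (show (x : Ω) ∈ P from hx), he ⟨x, hx⟩, hg x x.2]
      group
    obtain ⟨χ, hχ, hχe⟩ := hm
    refine ⟨χ, hχ, fun x hφx hαx => ?_⟩
    rw [hχe ⟨_, hαx⟩]
    show autMap α (homFun φ (g' ((α ⟨x, hPT x.2⟩ : T) : Ω))) = _
    rw [← autMap_coe α ⟨x, hPT x.2⟩, hg'l x (hPT x.2), homFun_coe, autMap_apply α hφx]
  · intro P hP φ hφ
    obtain ⟨g, hg⟩ := exists_conj_of_isMap hr (isMap_of_mem hφ)
    have hfr := Thompson.frattini_inf Sy H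
    obtain ⟨n, hn, h, hh, hgn⟩ := Subgroup.mem_sup_of_normal_right.1 (hfr.ge (Subgroup.mem_top g))
    have hnT : ∀ x ∈ T, n * homFun ι x * n⁻¹ ∈ (Sy : Subgroup G) ⊓ H := fun x hx =>
      (Subgroup.mem_normalizer_iff.1 hn _).1 (hjT x hx)
    obtain ⟨f, hf, hfe⟩ := exists_isMap_of_conj hr hTS (g := n) fun x hx => hSy ▸ (hnT x hx).1
    have hfT : ∀ x ∈ T, f x ∈ T := (stronglyClosed_iff.1 hsc).2 T f le_rfl hf
    obtain ⟨α, hα, hαe⟩ := (IsIso.mk hf (hf.image_eq_of_mapsTo hfT)).exists_aut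
    obtain ⟨f', hf'i, hf'l, hf'r⟩ := (isIso_autMap hTS hα).exists_symm
    have hφT : ∀ x ∈ P, homFun φ x ∈ T :=
      (stronglyClosed_iff.1 hsc).2 P _ hP (isMap_of_mem hφ)
    have hm : IsMap (subSys F ι H hT hr) P (f' ∘ homFun φ) := by
      refine (isMap_subSys_iff hT hr).2
        ⟨hP, (isMap_of_mem hφ).comp hf'i.isMap hφT, h, hh, fun x hx => ?_⟩
      have hy := hφT x hx
      have hy' : f' (homFun φ x) ∈ T := hf'i.mem hy
      have e1 := hfe _ hy'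
      rw [← hαe _ hy', hf'r _ hy, hg x hx, ← hgn] at e1
      show homFun ι (f' (homFun φ x)) = _
      calc homFun ι (f' (homFun φ x))
          = n⁻¹ * (n * homFun ι (f' (homFun φ x)) * n⁻¹) * n := by group
        _ = _ := by rw [← e1]; group
    obtain ⟨φ₀, hφ₀, hφ₀e⟩ := hm
    refine ⟨α, hα, φ₀, hφ₀, fun x hx => ?_⟩
    rw [← autMap_apply α hx, hφ₀e x]
    show _ = autMap α (f' (homFun φ x))
    rw [hf'r _ (hφT x x.2), homFun_coe]
  · intro α hα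
    obtain ⟨-, hαF, h, hh, he⟩ := (isMap_subSys_iff hT hr).1 ((mem_autGroup_iff le_rfl).1 hα)
    have hn : h ∈ Subgroup.normalizer (((Sy : Subgroup G) ⊓ H : Subgroup G) : Set G) := by
      refine mem_normalizer_of_maps fun y hy => ?_
      obtain ⟨x, hx, rfl⟩ := hjT' y hy
      rw [← he x hx]
      exact hjT _ (autMap_mem α hx)
    obtain ⟨m, hm, hmT, hmC⟩ := exists_normalizing Sy hh hn
    set C := centralizerIn S T with hC
    have hCS : C ≤ S := centralizerIn_le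
    have hjC : ∀ c ∈ C, homFun ι c ∈ (Sy : Subgroup G) ⊓
        Subgroup.centralizer (((Sy : Subgroup G) ⊓ H : Subgroup G) : Set G) := by
      intro c hc
      obtain ⟨hcS, hcc⟩ := mem_centralizerIn.1 hc
      refine ⟨by rw [hSy, homFun_mem ι hcS]; exact ⟨_, rfl⟩,
        Subgroup.mem_centralizer_iff.2 fun y hy => ?_⟩
      obtain ⟨x, hx, rfl⟩ := hjT' y hy
      rw [homFun_mem ι hcS, homFun_mem ι (hTS hx), ← map_mul, ← map_mul]
      exact congrArg ι (Subtype.ext (hcc x hx))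
    set U := T ⊔ C with hU
    have hUS : U ≤ S := sup_le hTS hCS
    haveI : Finite U := finite_of_le hUS
    have hjmap : ∀ x ∈ U, m * homFun ι x * m⁻¹ ∈ ι.range := by
      have hsub : U ≤ (((Sy : Subgroup G).comap
          ((MulAut.conj m).toMonoidHom.comp ι))).map S.subtype := by
        refine sup_le (fun x hx => ?_) (fun x hx => ?_)
        · refine ⟨⟨x, hTS hx⟩, ?_, rfl⟩
          show m * ι ⟨x, hTS hx⟩ * m⁻¹ ∈ (Sy : Subgroup G)
          rw [← homFun_mem ι (hTS hx), hmT _ (hjT x hx)]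
          exact ((Subgroup.mem_normalizer_iff.1 hn _).1 (hjT x hx)).1
        · refine ⟨⟨x, hCS hx⟩, ?_, rfl⟩
          show m * ι ⟨x, hCS hx⟩ * m⁻¹ ∈ (Sy : Subgroup G)
          rw [← homFun_mem ι (hCS hx)]
          exact (hmC _ (hjC x hx)).1
      intro x hx
      obtain ⟨s, hs, rfl⟩ := hsub hx
      rw [S.subtype_apply, homFun_coe, ← hSy]
      exact hs
    obtain ⟨f, hf, hfe⟩ := exists_isMap_of_conj hr hUS hjmap
    have hfT : ∀ x ∈ T, f x = autMap α x := fun x hx => by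
      have e : homFun ι (f x) = homFun ι (autMap α x) := by
        rw [hfe x (Subgroup.mem_sup_left hx), hmT _ (hjT x hx), he x hx]
      rw [homFun_mem ι (hf.mem_S (Subgroup.mem_sup_left hx)), homFun_mem ι (hαF.mem_S hx)] at e
      exact congrArg Subtype.val (hr.1 e)
    have hfC : ∀ c ∈ C, f c ∈ C := by
      intro c hc
      have hfS := hf.mem_S (Subgroup.mem_sup_right hc)
      refine mem_centralizerIn.2 ⟨hfS, fun x hx => ?_⟩
      have h1 := (hmC _ (hjC c hc)).2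
      rw [← hfe c (Subgroup.mem_sup_right hc)] at h1
      have h2 := Subgroup.mem_centralizer_iff.1 h1 _ (hjT x hx)
      rw [homFun_mem ι hfS, homFun_mem ι (hTS hx), ← map_mul, ← map_mul] at h2
      exact congrArg Subtype.val (hr.1 h2)
    have hfU : ∀ x ∈ U, f x ∈ U := fun x hx => hf.mapsTo_sup
      (fun a ha => Subgroup.mem_sup_left (by rw [hfT a ha]; exact autMap_mem α ha))
      (fun a ha => Subgroup.mem_sup_right (hfC a ha)) hx
    obtain ⟨β, hβ, hβe⟩ := (IsIso.mk hf (hf.image_eq_of_mapsTo hfU)).exists_aut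
    refine ⟨β, hβ, fun x => ?_, fun c hc => ?_⟩
    · rw [← autMap_coe β, ← autMap_coe α, ← hfT x x.2]
      exact hβe x (Subgroup.mem_sup_left x.2)
    · rw [← autMap_coe β, hβe c c.2]
      have h1 : (c : Ω)⁻¹ * f c ∈ C := mul_mem (inv_mem hc) (hfC c hc)
      refine ⟨(hT _).2 ⟨h1.1, ?_⟩, h1.2⟩
      rw [homFun_mem ι h1.1,
        show (⟨_, h1.1⟩ : S) = (⟨c, hCS hc⟩ : S)⁻¹ * ⟨f c, (hfC c hc).1⟩ from Subtype.ext rfl,
        map_mul, map_inv, ← homFun_mem ι (hfC c hc).1, hfe c c.2, ← homFun_mem ι (hCS hc)]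
      have e : (homFun ι (c : Ω))⁻¹ * (m * homFun ι (c : Ω) * m⁻¹) =
          (homFun ι (c : Ω))⁻¹ * m * homFun ι (c : Ω) * m⁻¹ := by group
      rw [e]
      exact mul_mem (Subgroup.Normal.conj_mem' inferInstance _ hm _) (inv_mem hm)

end Cfsg.Agent.H91
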