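import Cfsg.Agent.FusionSys.Saturated

/-!
A weak form of Alperin's theorem, with a lower bound on the orders of the sources: automorphisms of the
fully normalized centric subgroups of order at least `n` generate all maps on sources of order at least `n`.
-/

set_option autoImplicit false

namespace Cfsg.Agent.H91

open Cfsg Cfsg.FusionSystem Cfsg.Agent.FusionSys

variable {Ω : Type*} [Group Ω] {S : Subgroup Ω} [Finite S] {p : ℕ} [Fact p.Prime]

theorem lt_normalizerIn (hS : IsPGroup p S) {P : Subgroup Ω} (hP : P ≤ S) (hne : P ≠ S) :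
    P < normalizerIn S P := by
  refine lt_of_le_of_ne (le_normalizerIn_self hP) fun heq => hne ?_
  haveI := IsPGroup.isNilpotent hS
  have hnc := normalizerCondition_of_isNilpotent (G := S)
  by_contra hPS
  have hlt : P.subgroupOf S < ⊤ :=
    lt_top_iff_ne_top.2 fun h => hPS (le_antisymm hP (Subgroup.subgroupOf_eq_top.1 h))
  obtain ⟨x, hx, hxP⟩ := SetLike.exists_of_lt (hnc _ hlt)
  refine hxP ?_
  rw [Subgroup.mem_subgroupOf, heq]
  refine mem_normalizerIn.2 ⟨x.2, fun y => ?_⟩
  rw [Subgroup.mem_set_normalizer_iff] at hx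
  by_cases hy : y ∈ S
  · exact hx ⟨y, hy⟩
  · refine ⟨fun h => absurd (hP h) hy, fun h => absurd ?_ hy⟩
    have h2 := S.mul_mem (S.mul_mem (S.inv_mem x.2) (hP h)) x.2
    simpa [mul_assoc] using h2

theorem normalizerIn_self (S : Subgroup Ω) : normalizerIn S S = S :=
  le_antisymm normalizerIn_le (le_normalizerIn_self le_rfl)

theorem isFullyNormalized_top (F : FusionSystem S) : F.IsFullyNormalized S :=
  ⟨le_rfl, fun Q _ => by rw [normalizerIn_self]; exact Subgroup.card_le_of_le normalizerIn_le⟩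

theorem eq_S_of_isConj {F : FusionSystem S} {Q : Subgroup Ω} (h : F.IsConj S Q) : Q = S :=
  Subgroup.eq_of_le_of_card_ge (le_of_isConj_right h) (card_eq_of_isConj h).le

theorem isCentric_top (F : FusionSystem S) : F.IsCentric S :=
  ⟨le_rfl, fun Q hQ => eq_S_of_isConj hQ ▸ centralizerIn_le⟩

theorem isCentric_of_isConj {F : FusionSystem S} {P Q : Subgroup Ω} (hP : F.IsCentric P)
    (h : F.IsConj P Q) : F.IsCentric Q :=
  ⟨le_of_isConj_right h, fun R hR => hP.2 R (isConj_trans h hR)⟩

/-- A fully centralized subgroup containing its centralizer is centric. -/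
theorem isCentric_of_centralizer_le {F : FusionSystem S} {Q : Subgroup Ω}
    (hQ : F.IsFullyCentralized Q) (h : centralizerIn S Q ≤ Q) : F.IsCentric Q := by
  refine ⟨hQ.1, fun R hR => ?_⟩
  obtain ⟨f, hf⟩ := isConj_iff.1 hR
  haveI := finite_of_le hQ.1
  haveI := finite_of_le (centralizerIn_le (S := S) (P := R))
  -- the image of the centre of `Q` fills `C_S(R)`
  intro z hz
  obtain ⟨c, hc, rfl⟩ := exists_preimage_of_card (P := centralizerIn S Q) hf.isMap h
    (fun c hc => hf.mem_centralizerIn_of_extends hf.isMap le_rfl (fun _ _ => rfl) (h hc) hc)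
    (hQ.2 R hR) hz
  exact hf.mem (h hc)

theorem isMap_of_aut (F E : FusionSystem S) (hS : IsPGroup p S) (hF : F.IsSaturated p) (n : ℕ)
    (h : ∀ Q : Subgroup Ω, F.IsFullyNormalized Q → F.IsCentric Q → n ≤ Nat.card Q →
      F.autGroup Q ≤ E.autGroup Q) :
    ∀ (P : Subgroup Ω) (f : Ω → Ω), n ≤ Nat.card P → IsMap F P f → IsMap E P f := by
  suffices ∀ (k : ℕ) (P : Subgroup Ω) (f : Ω → Ω), Nat.card S ≤ Nat.card P + k → n ≤ Nat.card P →
      IsMap F P f → IsMap E P f from fun P f => this (Nat.card S) P f (Nat.le_add_left _ _)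
  intro k
  induction k using Nat.strong_induction_on with
  | _ k ih =>
  intro P f hk hn hf
  have hPS := hf.le
  haveI := finite_of_le hPS
  by_cases hPeq : P = S
  · subst hPeq
    have himg : imgSub f P = P := eq_S_of_isConj hf.isIso.isConj
    have hiso : IsIso F P P f := by simpa [himg] using hf.isIso
    obtain ⟨α, hα, he⟩ := hiso.exists_aut
    have := (mem_autGroup_iff le_rfl).1 (h P (isFullyNormalized_top F) (isCentric_top F) hn hα)
    exact this.congr fun x hx => (he x hx).symm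
  have big : ∀ (R : Subgroup Ω) (g : Ω → Ω), Nat.card P < Nat.card R → IsMap F R g → IsMap E R g := by
    intro R g hR hg
    have h1 : Nat.card R ≤ Nat.card S := Subgroup.card_le_of_le hg.le
    exact ih (k - (Nat.card R - Nat.card P)) (by omega) R g (by omega) (by omega) hg
  obtain ⟨Q, hPQ, hQn⟩ := exists_isFullyNormalized F hPS
  have hcard := card_eq_of_isConj hPQ
  have toQ : ∀ R, F.IsConj R Q → ∃ g, IsMap E R g ∧ IsIso F R Q g := by
    intro R hRQ
    obtain ⟨g, hg, hgi, -⟩ := exists_map_to_fullyNormalized hS hF hQn hRQ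
    have hRS := le_of_isConj_left hRQ
    have hne : R ≠ S := fun hRS' => by
      subst hRS'
      have h1 : Nat.card P = Nat.card R := hcard.trans (card_eq_of_isConj hRQ).symm
      exact hPeq (Subgroup.eq_of_le_of_card_ge hPS h1.ge)
    haveI := finite_of_le (normalizerIn_le (S := S) (P := R))
    haveI := finite_of_le hRS
    refine ⟨g, (big _ g ?_ hg).mono (le_normalizerIn_self hRS), hgi⟩
    rw [hcard, ← card_eq_of_isConj hRQ]
    exact Set.ncard_lt_ncard (lt_normalizerIn hS hRS hne) (Set.toFinite _) |>.trans_eq rfl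
  obtain ⟨g₁, hg₁E, hg₁⟩ := toQ P hPQ
  have hP'Q : F.IsConj (imgSub f P) Q := isConj_trans (isConj_symm hf.isIso.isConj) hPQ
  obtain ⟨g₂, hg₂E, hg₂⟩ := toQ _ hP'Q
  obtain ⟨i₁, hi₁, hi₁l, -⟩ := hg₁.exists_symm
  have ha : IsIso F Q Q (g₂ ∘ f ∘ i₁) := (hi₁.comp hf.isIso).comp hg₂
  have haE : IsMap E Q (g₂ ∘ f ∘ i₁) := by
    obtain ⟨α, hα, he⟩ := ha.exists_aut
    by_cases hQc : F.IsCentric Q
    · have := (mem_autGroup_iff hQn.1).1 (h Q hQn hQc (hcard ▸ hn) hα)
      exact this.congr fun x hx => (he x hx).symm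
    · have hfc := isFullyCentralized_of_isFullyNormalized hS hF hQn
      have hnle : ¬ centralizerIn S Q ≤ Q := fun hle => hQc (isCentric_of_centralizer_le hfc hle)
      obtain ⟨g, hg, hge⟩ := receptive_extend (receptive_of_isFullyNormalized hS hF hQn) ha
        (N := centralizerIn S Q) fun x hx => ha.isMap.inExt_of_centralizes hx
      haveI := finite_of_le hQn.1
      haveI := finite_of_le hg.le
      have hlt : Q < centralizerIn S Q ⊔ Q := lt_of_le_of_ne le_sup_right fun he =>
        hnle (le_sup_left.trans he.ge)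
      refine ((big _ g ?_ hg).mono le_sup_right).congr fun x hx => (hge x hx).symm
      rw [hcard]
      exact Set.ncard_lt_ncard hlt (Set.toFinite _) |>.trans_eq rfl
  have hg₂' : IsIso E (imgSub f P) Q g₂ := ⟨hg₂E, hg₂.image_eq⟩
  obtain ⟨i₂, hi₂, hi₂l, -⟩ := hg₂'.exists_symm
  have hg₁' : IsIso E P Q g₁ := ⟨hg₁E, hg₁.image_eq⟩
  refine (hg₁'.isMap.comp (haE.comp hi₂.isMap fun x hx => ha.mem hx) fun x hx => hg₁'.mem hx).congr
    fun x hx => ?_
  simp only [Function.comp_apply]
  rw [hi₁l x hx, hi₂l (f x) (hf.mem_imgSub.2 ⟨x, hx, rfl⟩)]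

theorem le_of_aut (F E : FusionSystem S) (hS : IsPGroup p S) (hF : F.IsSaturated p)
    (h : ∀ Q : Subgroup Ω, F.IsFullyNormalized Q → F.IsCentric Q → F.autGroup Q ≤ E.autGroup Q) :
    F ≤ E :=
  le_iff_isMap.2 fun P f hf =>
    isMap_of_aut F E hS hF 0 (fun Q h1 h2 _ => h Q h1 h2) P f (Nat.zero_le _) hf

end Cfsg.Agent.H91
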