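import Cfsg.Agent.FusionSys.Saturated
import Cfsg.Agent.H91.Alperin
import Mathlib.Algebra.Group.Action.End

/-!
Maps of a fusion system fixing a given element of `Z(S)`: the subsystem they form, and the action of
automorphism groups on the centre.
-/

set_option autoImplicit false

namespace Cfsg.Agent.H91

open Cfsg Cfsg.FusionSystem Cfsg.Agent.FusionSys

variable {Ω : Type*} [Group Ω] {S : Subgroup Ω}

/-- The centre is a commutative group. -/
instance centerCommGroup {Q : Type*} [Group Q] : CommGroup (Subgroup.center Q) :=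
  { (inferInstance : Group (Subgroup.center Q)) with
    mul_comm := fun a b => Subtype.ext (Subgroup.mem_center_iff.1 b.2 a) }

/-- A group of automorphisms acts on the centre. -/
instance centerAction {Q : Type*} [Group Q] (H : Subgroup (MulAut Q)) :
    MulDistribMulAction H (Subgroup.center Q) where
  smul a z := ⟨(a : MulAut Q) z, Subgroup.mem_center_iff.2 fun y => by
    have h := congrArg (a : MulAut Q) (Subgroup.mem_center_iff.1 z.2 ((a : MulAut Q).symm y))
    simpa using h⟩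
  one_smul _ := Subtype.ext rfl
  mul_smul _ _ _ := Subtype.ext rfl
  smul_mul a _ _ := Subtype.ext (map_mul (a : MulAut Q) _ _)
  smul_one a := Subtype.ext (map_one (a : MulAut Q))

theorem coe_smul_center {Q : Type*} [Group Q] (H : Subgroup (MulAut Q)) (a : H) (z : Subgroup.center Q) :
    ((a • z : Subgroup.center Q) : Q) = (a : MulAut Q) z := rfl

theorem smul_center_autMap {Q : Subgroup Ω} (H : Subgroup (MulAut Q)) (a : H)
    (z : Subgroup.center Q) :
    (((a • z : Subgroup.center Q) : Q) : Ω) = autMap (a : MulAut Q) ((z : Q) : Ω) :=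
  (autMap_coe (a : MulAut Q) (z : Q)).symm

theorem isMap_zpow {F : FusionSystem S} {P : Subgroup Ω} {f : Ω → Ω} (h : IsMap F P f) {x : Ω}
    (hx : x ∈ P) (i : ℤ) : f (x ^ i) = f x ^ i := by
  obtain ⟨φ, -, hf⟩ := h
  rw [← hf ⟨x, hx⟩, ← hf ⟨x ^ i, P.zpow_mem hx i⟩, ← map_zpow]
  rfl

theorem mem_sup_zpowers {P : Subgroup Ω} {x : Ω} (hc : ∀ a ∈ P, Commute a x) {y : Ω} :
    y ∈ P ⊔ Subgroup.zpowers x ↔ ∃ a ∈ P, ∃ i : ℤ, y = a * x ^ i := by
  constructor
  · intro hy
    have hn : Subgroup.zpowers x ≤ Subgroup.normalizer (P : Set Ω) :=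
      Subgroup.zpowers_le.2 (Subgroup.centralizer_le_normalizer _
        (Subgroup.mem_centralizer_iff.2 fun a ha => (hc a ha).eq))
    rw [← SetLike.mem_coe, Subgroup.coe_mul_of_right_le_normalizer_left P _ hn] at hy
    obtain ⟨a, ha, _, ⟨i, rfl⟩, rfl⟩ := hy
    exact ⟨a, ha, i, rfl⟩
  · rintro ⟨a, ha, i, rfl⟩
    exact mul_mem (Subgroup.mem_sup_left ha) (Subgroup.mem_sup_right (zpow_mem (Subgroup.mem_zpowers x) i))

/-- An isomorphism defined on `P` and fixing `x` extends to `P⟨x⟩`. -/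
theorem isIso_sup_zpowers {F : FusionSystem S} {P Q : Subgroup Ω} {f : Ω → Ω} {x : Ω}
    (hxS : x ∈ S) (hxc : ∀ s ∈ S, Commute s x) (h : IsMap F (P ⊔ Subgroup.zpowers x) f)
    (hi : IsIso F P Q f) (hx : f x = x) :
    IsIso F (P ⊔ Subgroup.zpowers x) (Q ⊔ Subgroup.zpowers x) f := by
  refine ⟨h, Set.ext fun y => ?_⟩
  rw [SetLike.mem_coe, mem_sup_zpowers fun a ha => hxc a (hi.target_le ha)]
  have key : ∀ a ∈ P, ∀ i : ℤ, f (a * x ^ i) = f a * x ^ i := fun a ha i => by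
    rw [h.map_mul (Subgroup.mem_sup_left ha) (Subgroup.mem_sup_right (zpow_mem (Subgroup.mem_zpowers x) i)),
      isMap_zpow h (Subgroup.mem_sup_right (Subgroup.mem_zpowers x)) i, hx]
  constructor
  · rintro ⟨z, hz, rfl⟩
    obtain ⟨a, ha, i, rfl⟩ := (mem_sup_zpowers fun a ha => hxc a (hi.source_le ha)).1 hz
    exact ⟨f a, hi.mem ha, i, key a ha i⟩
  · rintro ⟨b, hb, i, rfl⟩
    obtain ⟨a, ha, rfl⟩ := hi.exists_preimage hb
    exact ⟨a * x ^ i, (mem_sup_zpowers fun a ha => hxc a (hi.source_le ha)).2 ⟨a, ha, i, rfl⟩, key a ha i⟩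

/-- The maps of `F` that extend to maps fixing `x`. -/
def fixSystem (F : FusionSystem S) {x : Ω} (hxS : x ∈ S) (hxc : ∀ s ∈ S, Commute s x) :
    FusionSystem S where
  Hom P := {φ | φ ∈ F.Hom P ∧
    ∃ g, IsMap F (P ⊔ Subgroup.zpowers x) g ∧ (∀ y : P, g y = φ y) ∧ g x = x}
  le_of_mem h := F.le_of_mem h.1
  injective_of_mem h := F.injective_of_mem h.1
  conj_mem := by
    intro P g hP hg
    refine ⟨F.conj_mem hP hg, conjMap g, isMap_conj F (sup_le hP (Subgroup.zpowers_le.2 hxS)) hg,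
      fun _ => rfl, ?_⟩
    rw [conjMap_apply, (hxc g hg).eq, mul_inv_cancel_right]
  comp_mem := by
    rintro P Q φ ψ ⟨hφ, g, hg, hge, hgx⟩ ⟨hψ, k, hk, hke, hkx⟩ h
    refine ⟨F.comp_mem hφ hψ h, k ∘ g, hg.comp hk ?_, fun y => ?_, by simp [hgx, hkx]⟩
    · intro y hy
      obtain ⟨a, ha, i, rfl⟩ := (mem_sup_zpowers fun a ha => hxc a ((F.le_of_mem hφ).1 ha)).1 hy
      rw [hg.map_mul (Subgroup.mem_sup_left ha) (Subgroup.mem_sup_right (zpow_mem (Subgroup.mem_zpowers x) i)),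
        isMap_zpow hg (Subgroup.mem_sup_right (Subgroup.mem_zpowers x)) i, hgx, hge ⟨a, ha⟩]
      exact mul_mem (Subgroup.mem_sup_left (h ⟨a, ha⟩))
        (Subgroup.mem_sup_right (zpow_mem (Subgroup.mem_zpowers x) i))
    · show k (g y) = ψ (φ.codRestrict Q h y)
      rw [hge]
      exact hke ⟨φ y, h y⟩
  inv_mem := by
    rintro P φ ⟨hφ, g, hg, hge, hgx⟩
    obtain ⟨ψ, hψ, hinv⟩ := F.inv_mem hφ
    refine ⟨ψ, ⟨hψ, ?_⟩, hinv⟩
    have hgP : IsIso F P φ.range g := ⟨hg.mono le_sup_left, Set.ext fun y =>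
      ⟨fun ⟨a, ha, he⟩ => ⟨⟨a, ha⟩, (hge _).symm.trans he⟩, fun ⟨a, he⟩ => ⟨a, a.2, (hge a).trans he⟩⟩⟩
    obtain ⟨i, hi, hil, -⟩ := (isIso_sup_zpowers hxS hxc hg hgP hgx).exists_symm
    refine ⟨i, hi.isMap, fun y => ?_, ?_⟩
    · obtain ⟨_, a, rfl⟩ := y
      show i (φ a) = _
      exact ((congrArg i (hge a).symm).trans (hil a (Subgroup.mem_sup_left a.2))).trans (hinv a).symm
    · conv_lhs => rw [← hgx]
      exact hil x (Subgroup.mem_sup_right (Subgroup.mem_zpowers x))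

variable {F : FusionSystem S} {x : Ω} {hxS : x ∈ S} {hxc : ∀ s ∈ S, Commute s x}

theorem fixes_of_fixSystem {P : Subgroup Ω} {f : Ω → Ω} (hf : IsMap (fixSystem F hxS hxc) P f)
    (hx : x ∈ P) : f x = x := by
  obtain ⟨φ, ⟨-, g, -, hge, hgx⟩, hφf⟩ := hf
  exact ((hφf ⟨x, hx⟩).symm.trans (hge ⟨x, hx⟩).symm).trans hgx

theorem mem_centric (hxS : x ∈ S) (hxc : ∀ s ∈ S, Commute s x) {Q : Subgroup Ω}
    (hQ : F.IsCentric Q) : x ∈ Q :=
  hQ.2 Q (isConj_refl F hQ.1) (FusionSys.mem_centralizerIn.2 ⟨hxS, fun y hy => (hxc y (hQ.1 hy)).eq⟩)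

theorem aut_le_fixSystem (hxS : x ∈ S) (hxc : ∀ s ∈ S, Commute s x) {Q : Subgroup Ω}
    (hQ : F.IsCentric Q) (h : ∀ α ∈ F.autGroup Q, autMap α x = x) :
    F.autGroup Q ≤ (fixSystem F hxS hxc).autGroup Q := by
  intro α hα
  have hxQ := mem_centric hxS hxc hQ
  refine Subgroup.subset_closure ?_
  have hm := (mem_autGroup_iff hQ.1).1 hα
  refine ⟨mem_hom_of_isMap hm fun y => (autMap_coe α y).symm, autMap α, ?_, fun y => autMap_coe α y,
    h α hα⟩
  rwa [sup_eq_left.2 (Subgroup.zpowers_le.2 hxQ)]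

variable [Finite S] {p : ℕ} [Fact p.Prime]

/-- If the automorphism groups of the fully normalized centric subgroups of order at least `n` fix `x`, so
does every map on a source of order at least `n`. -/
theorem map_fixes (hS : IsPGroup p S) (hF : F.IsSaturated p) (hxS : x ∈ S)
    (hxc : ∀ s ∈ S, Commute s x) (n : ℕ)
    (h : ∀ Q : Subgroup Ω, F.IsFullyNormalized Q → F.IsCentric Q → n ≤ Nat.card Q →
      ∀ α ∈ F.autGroup Q, autMap α x = x)
    {P : Subgroup Ω} {f : Ω → Ω} (hn : n ≤ Nat.card P) (hf : IsMap F P f) (hx : x ∈ P) : f x = x :=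
  fixes_of_fixSystem (isMap_of_aut F (fixSystem F hxS hxc) hS hF n
    (fun Q h1 h2 h3 => aut_le_fixSystem hxS hxc h2 (h Q h1 h2 h3)) P f hn hf) hx

/-- If the fully normalized centric subgroups' automorphism groups fix `x`, then `x` lies in `Z(F)`. -/
theorem mem_center_of_fixes (hS : IsPGroup p S) (hF : F.IsSaturated p) (hxS : x ∈ S)
    (hxc : ∀ s ∈ S, Commute s x)
    (h : ∀ Q : Subgroup Ω, F.IsFullyNormalized Q → F.IsCentric Q → ∀ α ∈ F.autGroup Q, autMap α x = x) :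
    x ∈ F.center := by
  refine (le_sSup ?_ : Subgroup.zpowers x ≤ F.center) (Subgroup.mem_zpowers x)
  refine isCentral_iff.2 ⟨Subgroup.zpowers_le.2 hxS, fun P f hf => ?_⟩
  obtain ⟨φ, ⟨-, g, hg, hge, hgx⟩, hφf⟩ :=
    le_iff_isMap.1 (le_of_aut F (fixSystem F hxS hxc) hS hF
      fun Q h1 h2 => aut_le_fixSystem hxS hxc h2 (h Q h1 h2)) P f hf
  refine ⟨g, hg, fun y hy => (hge ⟨y, hy⟩).trans (hφf ⟨y, hy⟩), ?_⟩
  rintro _ ⟨i, rfl⟩
  rw [isMap_zpow hg (Subgroup.mem_sup_right (Subgroup.mem_zpowers x)) i, hgx]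

/-- An automorphism of a centric subgroup fixes `x` if those of the fully normalized conjugates do and
maps on large sources do. -/
theorem iso_fixes (hS : IsPGroup p S) (hF : F.IsSaturated p) (hxS : x ∈ S)
    (hxc : ∀ s ∈ S, Commute s x) (n : ℕ)
    (hbig : ∀ (P : Subgroup Ω) (f : Ω → Ω), n ≤ Nat.card P → IsMap F P f → x ∈ P → f x = x)
    {R : Subgroup Ω} (hRc : F.IsCentric R) (hR : n ≤ Nat.card (normalizerIn S R))
    (hgood : ∀ R' : Subgroup Ω, F.IsFullyNormalized R' → F.IsCentric R' →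
      Nat.card (normalizerIn S R) ≤ Nat.card (normalizerIn S R') → Nat.card R' = Nat.card R →
      ∀ α ∈ F.autGroup R', autMap α x = x)
    {β : Ω → Ω} (hβ : IsIso F R R β) : β x = x := by
  obtain ⟨R', hc, hn⟩ := exists_isFullyNormalized F hRc.1
  obtain ⟨g, hg, hgi, -⟩ := exists_map_to_fullyNormalized hS hF hn hc
  have hxR : x ∈ R := mem_centric hxS hxc hRc
  have hRN : R ≤ normalizerIn S R := le_normalizerIn_self hRc.1
  have hgx : g x = x := hbig _ g hR hg (hRN hxR)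
  obtain ⟨i, hi, hil, -⟩ := hgi.exists_symm
  obtain ⟨α, hα, he⟩ := ((hi.comp hβ).comp hgi).exists_aut
  have hxR' : x ∈ R' := mem_centric hxS hxc (isCentric_of_isConj hRc hc)
  have h1 := hgood R' hn (isCentric_of_isConj hRc hc) (hn.2 R (isConj_symm hc))
    (card_eq_of_isConj hc).symm α hα
  rw [he x hxR'] at h1
  have hix : i x = x := by
    conv_lhs => rw [← hgx]
    exact hil x hxR
  simp only [Function.comp_apply, hix] at h1
  exact hg.injOn (hRN (hβ.mem hxR)) (hRN hxR) (h1.trans hgx.symm)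

omit [Finite S] in
theorem normalizerIn_le_sup_centralizerIn (W : Subgroup Ω) :
    normalizerIn S W ≤ normalizerIn S (W ⊔ centralizerIn S W) := by
  intro t ht
  have key : ∀ t ∈ normalizerIn S W, ∀ y ∈ W ⊔ centralizerIn S W, t * y * t⁻¹ ∈ W ⊔ centralizerIn S W := by
    intro t ht y hy
    have hle : W ⊔ centralizerIn S W ≤ (W ⊔ centralizerIn S W).comap (MulAut.conj t).toMonoidHom := by
      refine sup_le (fun w hw => Subgroup.mem_sup_left (conj_mem_of_mem_normalizerIn ht hw))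
        fun c hc => Subgroup.mem_sup_right (FusionSys.mem_centralizerIn.2
          ⟨S.mul_mem (S.mul_mem ht.1 hc.1) (S.inv_mem ht.1), fun w hw => ?_⟩)
      have h2 := (FusionSys.mem_centralizerIn.1 hc).2 _ (conj_symm_mem_of_mem_normalizerIn ht hw)
      show w * (t * c * t⁻¹) = t * c * t⁻¹ * w
      calc w * (t * c * t⁻¹) = t * (t⁻¹ * w * t * c) * t⁻¹ := by group
        _ = t * (c * (t⁻¹ * w * t)) * t⁻¹ := by rw [h2]
        _ = t * c * t⁻¹ * w := by group
    exact hle hy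
  refine ⟨ht.1, Subgroup.mem_normalizer_iff.2 fun y => ⟨key t ht y, fun hy => ?_⟩⟩
  have := key t⁻¹ (inv_mem ht) _ hy
  simpa [mul_assoc] using this

theorem isCentric_sup_centralizerIn {W : Subgroup Ω} (hW : F.IsFullyCentralized W) :
    F.IsCentric (W ⊔ centralizerIn S W) := by
  refine ⟨sup_le hW.1 centralizerIn_le, fun R hR => ?_⟩
  obtain ⟨f, hf⟩ := isConj_iff.1 hR
  have hfW := (hf.isMap.mono (le_sup_left (b := centralizerIn S W))).isIso
  haveI := finite_of_le hfW.target_le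
  haveI := finite_of_le (centralizerIn_le (S := S) (P := imgSub f W))
  intro z hz
  have hWR : imgSub f W ≤ R := fun y hy => by
    obtain ⟨a, ha, rfl⟩ := hfW.exists_preimage hy
    exact hf.mem (Subgroup.mem_sup_left ha)
  have hz' : z ∈ centralizerIn S (imgSub f W) :=
    FusionSys.mem_centralizerIn.2 ⟨hz.1, fun y hy => (FusionSys.mem_centralizerIn.1 hz).2 y (hWR hy)⟩
  obtain ⟨c, hc, rfl⟩ := exists_preimage_of_card (P := centralizerIn S W) hf.isMap le_sup_right
    (fun c hc => hfW.mem_centralizerIn_of_extends hf.isMap le_sup_left (fun _ _ => rfl)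
      (Subgroup.mem_sup_right hc) hc)
    (hW.2 _ hfW.isConj) hz'
  exact hf.mem (Subgroup.mem_sup_right hc)

end Cfsg.Agent.H91
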