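import Cfsg.Agent.FusionSys.Centric

/-!
The normalizer system of a centric subgroup `L` normal in `S` is saturated, constrained, and has the same
automizer on `L`.
-/

set_option autoImplicit false

namespace Cfsg.Agent.H91

open Cfsg Cfsg.FusionSystem Cfsg.Agent.FusionSys

universe u

variable {Ω : Type u} [Group Ω] {S : Subgroup Ω}

/-- The automorphisms of `U` stabilizing the trace of `V`. -/
def traceStab (U V : Subgroup Ω) : Subgroup (MulAut U) where
  carrier := {γ | ∀ x : U, ((γ x : U) : Ω) ∈ V ↔ (x : Ω) ∈ V}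
  one_mem' _ := Iff.rfl
  mul_mem' {a b} ha hb x := (ha (b x)).trans (hb x)
  inv_mem' {a} ha x := by
    have h := ha (a⁻¹ x)
    rw [show a (a⁻¹ x) = x from a.apply_symm_apply x] at h
    exact h.symm

theorem autMap_mem_of_stab {U V : Subgroup Ω} {γ : MulAut U} (hγ : γ ∈ traceStab U V) (hVU : V ≤ U)
    {x : Ω} (hx : x ∈ V) : autMap γ x ∈ V := by
  rw [autMap_apply γ (hVU hx)]
  exact (hγ ⟨x, hVU hx⟩).2 hx

theorem mem_traceStab {U V : Subgroup Ω} [Finite V] (hVU : V ≤ U) {γ : MulAut U}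
    (h : ∀ x ∈ V, autMap γ x ∈ V) : γ ∈ traceStab U V := by
  intro x
  refine ⟨fun hx => ?_, fun hx => autMap_coe γ x ▸ h x hx⟩
  let k : V → V := fun y => ⟨autMap γ y, h y y.2⟩
  have hk : Function.Injective k := fun a b hab => by
    have e : autMap γ a = autMap γ b := congrArg Subtype.val hab
    rw [autMap_apply γ (hVU a.2), autMap_apply γ (hVU b.2)] at e
    have e' := γ.injective (Subtype.ext e)
    exact Subtype.ext (congrArg (fun z : U => (z : Ω)) e')
  obtain ⟨y, hy⟩ := (Finite.injective_iff_surjective.1 hk) ⟨_, hx⟩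
  have e : autMap γ y = (γ x : Ω) := congrArg Subtype.val hy
  rw [autMap_apply γ (hVU y.2)] at e
  have e' := congrArg Subtype.val (γ.injective (Subtype.ext e))
  exact e' ▸ y.2

/-- Restriction to `V` of the automorphisms of `U` stabilizing it. -/
noncomputable def traceRes {U V : Subgroup Ω} (hVU : V ≤ U) : traceStab U V →* MulAut V :=
  MonoidHom.mk'
    (fun γ =>
      { toFun := fun x => ⟨autMap (γ : MulAut U) x, autMap_mem_of_stab γ.2 hVU x.2⟩
        invFun := fun x => ⟨autMap (γ⁻¹ : traceStab U V) x, autMap_mem_of_stab (γ⁻¹).2 hVU x.2⟩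
        left_inv := fun x => Subtype.ext (by
          show autMap ((γ : MulAut U)⁻¹) (autMap (γ : MulAut U) x) = x
          rw [← autMap_mul _ _ (hVU x.2), inv_mul_cancel, autMap_apply _ (hVU x.2)]
          rfl)
        right_inv := fun x => Subtype.ext (autMap_inv_apply (γ : MulAut U) (hVU x.2))
        map_mul' := fun x y => Subtype.ext (by
          show autMap (γ : MulAut U) ((x : Ω) * y) = autMap (γ : MulAut U) x * autMap (γ : MulAut U) y
          rw [autMap_apply _ (hVU x.2), autMap_apply _ (hVU y.2), autMap_apply _ (U.mul_mem (hVU x.2) (hVU y.2))]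
          exact congrArg Subtype.val (map_mul (γ : MulAut U) ⟨x, hVU x.2⟩ ⟨y, hVU y.2⟩)) })
    fun a b => MulEquiv.ext fun x => Subtype.ext (autMap_mul (a : MulAut U) b (hVU x.2))

theorem autMap_traceRes {U V : Subgroup Ω} (hVU : V ≤ U) (γ : traceStab U V) {x : Ω} (hx : x ∈ V) :
    autMap (traceRes hVU γ) x = autMap (γ : MulAut U) x := by
  rw [autMap_apply _ hx]; rfl

/-- A Sylow subgroup meeting every fibre of a `p`-subgroup can take a conjugate of it by the kernel. -/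
theorem exists_ker_conj {G H : Type*} [Group G] [Group H] [Finite G] {p : ℕ} [Fact p.Prime]
    (res : G →* H) (T : Sylow p G) {D : Subgroup G} (hD : IsPGroup p D)
    (h : ∀ d ∈ D, ∃ t ∈ (T : Subgroup G), res d = res t) :
    ∃ k, res k = 1 ∧ ∀ d ∈ D, k * d * k⁻¹ ∈ (T : Subgroup G) := by
  set M := ((T : Subgroup G).map res).comap res with hM
  have hTM : (T : Subgroup G) ≤ M := Subgroup.le_comap_map _ _
  have hDM : D ≤ M := fun d hd => by
    obtain ⟨t, ht, he⟩ := h d hd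
    exact ⟨t, ht, he.symm⟩
  obtain ⟨D', hD'⟩ := (hD.comap_of_injective M.subtype M.subtype_injective).exists_le_sylow
  obtain ⟨m, hm⟩ := MulAction.exists_smul_eq M D' (T.subtype hTM)
  obtain ⟨t, ht, he⟩ := m.2
  refine ⟨t⁻¹ * m, by rw [map_mul, map_inv, he, inv_mul_cancel], fun d hd => ?_⟩
  have h1 : m * ⟨d, hDM hd⟩ * m⁻¹ ∈ ((m • D' : Sylow p M) : Subgroup M) := by
    rw [Sylow.coe_subgroup_smul]
    exact ⟨_, hD' (show (⟨d, hDM hd⟩ : M) ∈ D.comap M.subtype from hd), rfl⟩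
  rw [hm] at h1
  have h2 : (m : G) * d * (m : G)⁻¹ ∈ (T : Subgroup G) := h1
  have e : t⁻¹ * m * d * (t⁻¹ * m)⁻¹ = t⁻¹ * ((m : G) * d * (m : G)⁻¹) * t := by group
  rw [e]
  exact mul_mem (mul_mem (inv_mem ht) h2) ht

theorem normalizer_sup {F : FusionSystem S} [Finite S] {P L : Subgroup Ω} (hP : P ≤ S) (hL : L ≤ S) {x : Ω}
    (hx : x ∈ S) (h1 : x ∈ Subgroup.normalizer (P : Set Ω)) (h2 : x ∈ Subgroup.normalizer (L : Set Ω)) :
    x ∈ Subgroup.normalizer ((P ⊔ L : Subgroup Ω) : Set Ω) :=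
  haveI := finite_of_le (sup_le hP hL)
  mem_normalizer_of_maps fun y hy => (isMap_conj F (sup_le hP hL) hx).mapsTo_sup
    (fun a ha => Subgroup.mem_sup_left ((Subgroup.mem_normalizer_iff.1 h1 a).1 ha))
    (fun a ha => Subgroup.mem_sup_right ((Subgroup.mem_normalizer_iff.1 h2 a).1 ha)) hy

theorem imgSub_sup {F : FusionSystem S} {P L : Subgroup Ω} {f : Ω → Ω} (hf : IsMap F (P ⊔ L) f) :
    imgSub f (P ⊔ L) = imgSub f P ⊔ imgSub f L := by
  refine le_antisymm (fun y hy => ?_) (sup_le ?_ ?_)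
  · obtain ⟨x, hx, rfl⟩ := hf.mem_imgSub.1 hy
    exact hf.mapsTo_sup (fun a ha => Subgroup.mem_sup_left (show f a ∈ imgSub f P from Subgroup.subset_closure ⟨a, ha, rfl⟩))
      (fun a ha => Subgroup.mem_sup_right (show f a ∈ imgSub f L from Subgroup.subset_closure ⟨a, ha, rfl⟩)) hx
  · exact Subgroup.closure_mono (Set.image_mono (le_sup_left : P ≤ P ⊔ L))
  · exact Subgroup.closure_mono (Set.image_mono (le_sup_right : L ≤ P ⊔ L))

section

variable [Finite S] {p : ℕ} [Fact p.Prime] {F : FusionSystem S} {L : Subgroup Ω} [Finite L]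

theorem isMap_normSys (hLS : L ≤ S) (hn : S ≤ Subgroup.normalizer (L : Set Ω)) {P : Subgroup Ω} {f : Ω → Ω} :
    IsMap (normSys F L hLS hn) P f ↔
      ∃ g, IsMap F (P ⊔ L) g ∧ (∀ x ∈ P, g x = f x) ∧ ∀ x ∈ L, g x ∈ L := by
  constructor
  · rintro ⟨φ, ⟨-, g, hg, he, hm⟩, hf⟩
    exact ⟨g, hg, fun x hx => ((he x hx).trans (homFun_mem φ hx)).trans (hf ⟨x, hx⟩), hm⟩
  · rintro ⟨g, hg, he, hm⟩
    obtain ⟨φ, hφ, hf⟩ := (hg.mono le_sup_left).congr fun x hx => (he x hx).symm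
    exact ⟨φ, ⟨hφ, g, hg, fun x hx => (he x hx).trans ((homFun_mem φ hx).trans (hf ⟨x, hx⟩)).symm, hm⟩, hf⟩

theorem normSys_le (hLS : L ≤ S) (hn : S ≤ Subgroup.normalizer (L : Set Ω)) :
    normSys F L hLS hn ≤ F := fun _ _ h => h.1

theorem isMap_of_normSys (hLS : L ≤ S) (hn : S ≤ Subgroup.normalizer (L : Set Ω)) {P : Subgroup Ω}
    {f : Ω → Ω} (h : IsMap (normSys F L hLS hn) P f) : IsMap F P f :=
  le_iff_isMap.1 (normSys_le hLS hn) P f h

theorem normSys_isNormal (hLS : L ≤ S) (hn : S ≤ Subgroup.normalizer (L : Set Ω)) :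
    (normSys F L hLS hn).IsNormal L := by
  refine isNormal_iff.2 ⟨hLS, fun P f hf => ?_⟩
  obtain ⟨g, hg, he, hm⟩ := (isMap_normSys hLS hn).1 hf
  exact ⟨g, (isMap_normSys hLS hn).2 ⟨g, hg.mono (sup_le le_rfl le_sup_right), fun _ _ => rfl, hm⟩, he,
    (hg.mono le_sup_right).image_eq_of_mapsTo hm⟩

theorem normSys_isCentric (hL : F.IsCentric L) (hn : S ≤ Subgroup.normalizer (L : Set Ω)) :
    (normSys F L hL.1 hn).IsCentric L := by
  refine ⟨hL.1, fun Q hQ => hL.2 Q ?_⟩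
  obtain ⟨f, hf⟩ := isConj_iff.1 hQ
  exact (IsIso.mk (isMap_of_normSys hL.1 hn hf.isMap) hf.image_eq).isConj

theorem normSys_autGroup_self (hLS : L ≤ S) (hn : S ≤ Subgroup.normalizer (L : Set Ω)) :
    (normSys F L hLS hn).autGroup L = F.autGroup L := by
  refine le_antisymm (fun α hα => mem_autGroup_of_isMap
    (isMap_of_normSys hLS hn ((mem_autGroup_iff hLS).1 hα))) fun α hα => ?_
  refine mem_autGroup_of_isMap ((isMap_normSys hLS hn).2
    ⟨autMap α, ((mem_autGroup_iff hLS).1 hα).mono (by rw [sup_idem]), fun _ _ => rfl,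
      fun x hx => autMap_mem α hx⟩)

theorem normSys_isSaturated (hS : IsPGroup p S) (hF : F.IsSaturated p) (hL : F.IsCentric L)
    (hn : S ≤ Subgroup.normalizer (L : Set Ω)) : (normSys F L hL.1 hn).IsSaturated p := by
  classical
  set E := normSys F L hL.1 hn with hE
  have hLS := hL.1
  have hLN : normalizerIn S L = S := le_antisymm normalizerIn_le fun s hs => ⟨hs, hn hs⟩
  have hLfn : F.IsFullyNormalized L :=
    ⟨hLS, fun Q _ => by rw [hLN]; exact Subgroup.card_le_of_le normalizerIn_le⟩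
  have hLR := receptive_of_isFullyNormalized hS hF hLfn
  obtain ⟨-, SL, hSL⟩ := isFullyAutomized_of_isFullyNormalized hS hF hLfn
  haveI := finite_autGroup F hLS
  intro P₀ hP₀
  -- the groups `G_Q` and `T_Q`
  let G : ∀ Q : Subgroup Ω, Subgroup (MulAut (Q ⊔ L : Subgroup Ω)) := fun Q =>
    F.autGroup (Q ⊔ L) ⊓ (traceStab (Q ⊔ L) L ⊓ traceStab (Q ⊔ L) Q)
  let T : ∀ Q : Subgroup Ω, Subgroup (MulAut (Q ⊔ L : Subgroup Ω)) := fun Q =>
    autInducedBy (normalizerIn S Q) (Q ⊔ L)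
  have hTG : ∀ Q : Subgroup Ω, Q ≤ S → T Q ≤ G Q := by
    intro Q hQ α hα
    obtain ⟨x, hx, hxn, rfl⟩ := mem_autInducedBy.1 hα
    haveI := finite_of_le hQ
    refine ⟨conjAut_mem_autGroup F (sup_le hQ hLS) ⟨hx.1, hxn⟩, mem_traceStab le_sup_right fun y hy => ?_,
      mem_traceStab le_sup_left fun y hy => ?_⟩
    · rw [autMap_conjAut hxn (Subgroup.mem_sup_right hy)]
      exact (Subgroup.mem_normalizer_iff.1 (hn hx.1) y).1 hy
    · rw [autMap_conjAut hxn (Subgroup.mem_sup_left hy)]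
      exact conj_mem_of_mem_normalizerIn hx hy
  have hTmem : ∀ Q : Subgroup Ω, Q ≤ S → ∀ x ∈ normalizerIn S Q,
      ∃ hxn : x ∈ Subgroup.normalizer ((Q ⊔ L : Subgroup Ω) : Set Ω), conjAut hxn ∈ T Q := by
    intro Q hQ x hx
    have hxn := normalizer_sup (F := F) hQ hLS hx.1 hx.2 (hn hx.1)
    exact ⟨hxn, mem_autInducedBy.2 ⟨x, hx, hxn, rfl⟩⟩
  have hTp : ∀ Q : Subgroup Ω, IsPGroup p (T Q) := fun Q =>
    (isPGroup_autInducedBy hS (Q ⊔ L)).to_le fun α hα => by
      obtain ⟨x, hx, hxn, rfl⟩ := mem_autInducedBy.1 hα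
      exact mem_autInducedBy.2 ⟨x, hx.1, hxn, rfl⟩
  -- choose the conjugate
  haveI : Finite {Q : Subgroup Ω // Q ≤ S} :=
    Finite.of_equiv _ (Subgroup.MapSubtype.orderIso S).toEquiv
  haveI : Finite {Q : Subgroup Ω // E.IsConj P₀ Q} := Finite.of_injective
    (fun Q => (⟨Q.1, le_of_isConj_right Q.2⟩ : {Q : Subgroup Ω // Q ≤ S}))
    fun a b h => Subtype.ext (congrArg Subtype.val h :)
  haveI : Nonempty {Q : Subgroup Ω // E.IsConj P₀ Q} := ⟨⟨P₀, isConj_refl E hP₀⟩⟩
  obtain ⟨⟨Q, hQc⟩, hmax⟩ := Finite.exists_max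
    fun Q : {Q : Subgroup Ω // E.IsConj P₀ Q} => Nat.card (T Q.1)
  have hQS : Q ≤ S := le_of_isConj_right hQc
  have hU : Q ⊔ L ≤ S := sup_le hQS hLS
  haveI := finite_of_le hQS
  haveI := finite_of_le hU
  haveI := finite_mulAut_of_le hU
  let rL : G Q →* MulAut L := (traceRes (U := Q ⊔ L) (V := L) le_sup_right).comp (Subgroup.inclusion fun γ hγ => hγ.2.1)
  let rQ : G Q →* MulAut Q := (traceRes (U := Q ⊔ L) (V := Q) le_sup_left).comp (Subgroup.inclusion fun γ hγ => hγ.2.2)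
  have hrL : ∀ (γ : G Q) (x : Ω), x ∈ L → autMap (rL γ) x = autMap (γ : MulAut (Q ⊔ L : Subgroup Ω)) x :=
    fun γ x hx => autMap_traceRes le_sup_right _ hx
  have hrQ : ∀ (γ : G Q) (x : Ω), x ∈ Q → autMap (rQ γ) x = autMap (γ : MulAut (Q ⊔ L : Subgroup Ω)) x :=
    fun γ x hx => autMap_traceRes le_sup_left _ hx
  -- `T_Q` is a Sylow subgroup of `G_Q`
  obtain ⟨R, hR⟩ := ((hTp Q).comap_of_injective (G Q).subtype (G Q).subtype_injective).exists_le_sylow
  have hRT : (R : Subgroup (G Q)) = (T Q).subgroupOf (G Q) := by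
    have hBA : ∀ γ : G Q, rL γ ∈ F.autGroup L := fun γ =>
      mem_autGroup_of_isMap ((((mem_autGroup_iff hU).1 γ.2.1).mono le_sup_right).congr fun x hx => hrL γ x hx)
    obtain ⟨SL', hSL'⟩ := (R.2.map (rL.codRestrict _ hBA)).exists_le_sylow
    obtain ⟨β, hβ⟩ := MulAction.exists_smul_eq (F.autGroup L) SL' SL
    have hconj : ∀ r ∈ (R : Subgroup (G Q)),
        (β : MulAut L) * rL r * (β : MulAut L)⁻¹ ∈ autInducedBy S L := by
      intro r hr
      have h2 : β * ⟨rL r, hBA r⟩ * β⁻¹ ∈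
          ((β • SL' : Sylow p (F.autGroup L)) : Subgroup (F.autGroup L)) := by
        rw [Sylow.coe_subgroup_smul]
        exact ⟨_, hSL' ⟨r, hr, rfl⟩, rfl⟩
      rw [hβ, hSL] at h2
      exact h2
    have hbi : IsIso F L L (autMap (β : MulAut L)) := isIso_autMap hLS β.2
    have hbeq : ∀ (r : G Q), r ∈ (R : Subgroup (G Q)) → ∀ s : Ω, ∀ hs : s ∈ Subgroup.normalizer (L : Set Ω),
        (β : MulAut L) * rL r * (β : MulAut L)⁻¹ = conjAut hs → ∀ y ∈ L,
        autMap (β : MulAut L) (autMap (r : MulAut (Q ⊔ L : Subgroup Ω)) y) =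
          s * autMap (β : MulAut L) y * s⁻¹ := by
      intro r _ s hs he y hy
      have := congrArg (fun a : MulAut L => autMap a (autMap (β : MulAut L) y)) he
      rw [autMap_mul _ _ (autMap_mem _ hy), autMap_mul _ _ (autMap_mem _ (autMap_mem _ hy)),
        ← autMap_mul _ _ hy, inv_mul_cancel, show autMap (1 : MulAut L) y = y by
          rw [autMap_apply _ hy]; rfl, hrL r y hy, autMap_conjAut hs (autMap_mem _ hy)] at this
      exact this
    obtain ⟨g, hg, hge⟩ := receptive_extend hLR hbi (N := Q) fun x hx => by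
      obtain ⟨hxn, hxT⟩ := hTmem Q hQS x (le_normalizerIn_self hQS hx)
      have hxG := hTG Q hQS hxT
      obtain ⟨s, hs, hsn, hse⟩ := mem_autInducedBy.1
        (hconj ⟨_, hxG⟩ (hR (show (⟨_, hxG⟩ : G Q) ∈ (T Q).comap (G Q).subtype from hxT)))
      refine ⟨hQS hx, hn (hQS hx), s, hs, fun y hy => ?_⟩
      have := hbeq ⟨_, hxG⟩ (hR (show (⟨_, hxG⟩ : G Q) ∈ (T Q).comap (G Q).subtype from hxT)) s hsn hse y hy
      rwa [autMap_conjAut hxn (Subgroup.mem_sup_right hy)] at this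
    have hgL : ∀ x ∈ L, g x ∈ L := fun x hx => hge x hx ▸ autMap_mem _ hx
    set Q' := imgSub g Q with hQ'
    have hQiso : IsIso F Q Q' g := (hg.mono le_sup_left).isIso
    have hLiso : IsIso F L L g := isIso_of_mapsTo (hg.mono le_sup_right) hgL
    have hU' : IsIso F (Q ⊔ L) (Q' ⊔ L) g := by
      have h := hg.isIso
      rwa [imgSub_sup hg, ← hLiso.eq_imgSub] at h
    have hQ'c : E.IsConj P₀ Q' := isConj_trans hQc
      (IsIso.mk ((isMap_normSys hLS hn).2 ⟨g, hg, fun _ _ => rfl, hgL⟩) hQiso.image_eq).isConj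
    have hQ'S : Q' ≤ S := hQiso.target_le
    have hU'S : Q' ⊔ L ≤ S := hU'.target_le
    haveI := finite_of_le hQ'S
    haveI := finite_of_le hU'S
    haveI := finite_mulAut_of_le hU'S
    have key : ((R : Subgroup (G Q)).map (G Q).subtype).map hU'.autEquiv.toMonoidHom ≤ T Q' := by
      rintro _ ⟨_, ⟨r, hr, rfl⟩, rfl⟩
      obtain ⟨s, hs, hsn, hse⟩ := mem_autInducedBy.1 (hconj r hr)
      set r' := hU'.autEquiv (r : MulAut (Q ⊔ L : Subgroup Ω)) with hr'
      have hr'F : r' ∈ F.autGroup (Q' ⊔ L) := hU'.autEquiv_mem_autGroup r.2.1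
      have hr'L : ∀ y ∈ L, autMap r' y = s * y * s⁻¹ := by
        intro y hy
        obtain ⟨x, hx, rfl⟩ := hLiso.exists_preimage hy
        rw [hr', hU'.autMap_autEquiv _ (Subgroup.mem_sup_right hx),
          hge _ (autMap_mem_of_stab r.2.2.1 le_sup_right hx), hbeq r hr s hsn hse x hx, hge x hx]
      have hr'Q : ∀ y ∈ Q', autMap r' y ∈ Q' := by
        intro y hy
        obtain ⟨x, hx, rfl⟩ := hQiso.exists_preimage hy
        rw [hr', hU'.autMap_autEquiv _ (Subgroup.mem_sup_left hx)]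
        exact hQiso.mem (autMap_mem_of_stab r.2.2.2 le_sup_left hx)
      have hr'm := (mem_autGroup_iff hU'S).1 hr'F
      have hsU : s ∈ Subgroup.normalizer ((Q' ⊔ L : Subgroup Ω) : Set Ω) := by
        refine mem_normalizer_of_maps fun u hu => ?_
        have hw := autMap_mem r' hu
        have hc : (autMap r' u)⁻¹ * (s * u * s⁻¹) ∈ L := hL.2 L (isConj_refl F hLS)
          (FusionSys.mem_centralizerIn.2 ⟨S.mul_mem (S.inv_mem (hU'S hw))
            (S.mul_mem (S.mul_mem hs (hU'S hu)) (S.inv_mem hs)), fun y hy => by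
            have hy' : s⁻¹ * y * s ∈ L := conj_symm_mem_of_mem_normalizerIn
              (show s ∈ normalizerIn S L from ⟨hs, hsn⟩) hy
            have huy : u * (s⁻¹ * y * s) * u⁻¹ ∈ L :=
              (Subgroup.mem_normalizer_iff.1 (hn (hU'S hu)) _).1 hy'
            have e := hr'm.map_conj hu (Subgroup.mem_sup_right hy')
            rw [hr'L _ huy, hr'L _ hy'] at e
            generalize autMap r' u = w at e ⊢
            have e' : s * u * (s⁻¹ * y * s) * u⁻¹ * s⁻¹ = w * y * w⁻¹ := by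
              simpa [mul_assoc] using e
            calc y * (w⁻¹ * (s * u * s⁻¹)) = w⁻¹ * (w * y * w⁻¹) * (s * u * s⁻¹) := by group
              _ = w⁻¹ * (s * u * (s⁻¹ * y * s) * u⁻¹ * s⁻¹) * (s * u * s⁻¹) := by rw [e']
              _ = w⁻¹ * (s * u * s⁻¹) * y := by group⟩)
        have := Subgroup.mul_mem _ hw (Subgroup.mem_sup_right (S := Q') hc)
        rwa [mul_inv_cancel_left] at this
      obtain ⟨z, hz, -, hze⟩ := exists_center_twist hS hF (le_sup_right : L ≤ Q' ⊔ L) hL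
        (isMap_conj F hU'S hs) hr'm fun y hy => (hr'L y hy).symm
      have het : ∀ y ∈ Q' ⊔ L, autMap r' y = (s * z) * y * (s * z)⁻¹ := fun y hy => by
        rw [hze y hy, conjMap_apply]; group
      have htN : s * z ∈ normalizerIn S Q' := ⟨S.mul_mem hs (hLS hz),
        mem_normalizer_of_maps fun y hy => het y (Subgroup.mem_sup_left hy) ▸ hr'Q y hy⟩
      obtain ⟨htn, htT⟩ := hTmem Q' hQ'S _ htN
      show r' ∈ T Q'
      rwa [show r' = conjAut htn from aut_ext fun y hy => by rw [het y hy, autMap_conjAut htn hy]; rfl]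
    symm
    refine Subgroup.eq_of_le_of_card_ge (fun a ha => hR ha) ?_
    have h1 := Subgroup.card_le_of_le key
    rw [Subgroup.card_map_of_injective hU'.autEquiv.injective,
      Subgroup.card_map_of_injective (G Q).subtype_injective] at h1
    refine (h1.trans (hmax ⟨Q', hQ'c⟩)).trans (le_of_eq ?_)
    exact (Nat.card_congr (Subgroup.subgroupOfEquivOfLe (hTG Q hQS)).toEquiv).symm
  have hRsurj : ∀ r ∈ (R : Subgroup (G Q)), rQ r ∈ autInducedBy S Q := by
    intro r hr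
    rw [hRT] at hr
    obtain ⟨x, hx, hxn, hxe⟩ := mem_autInducedBy.1 (Subgroup.mem_subgroupOf.1 hr)
    refine mem_autInducedBy.2 ⟨x, hx.1, hx.2, aut_ext fun y hy => ?_⟩
    rw [hrQ r y hy, hxe, autMap_conjAut hxn (Subgroup.mem_sup_left hy), autMap_conjAut hx.2 hy]
  refine ⟨Q, hQc, ?_, ?_⟩
  · -- fully automized
    have hmemE : ∀ γ : G Q, rQ γ ∈ E.autGroup Q := fun γ =>
      mem_autGroup_of_isMap ((isMap_normSys hLS hn).2 ⟨_, (mem_autGroup_iff hU).1 γ.2.1,
        fun x hx => (hrQ γ x hx).symm, fun x hx => autMap_mem_of_stab γ.2.2.1 le_sup_right hx⟩)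
    have hsurj : Function.Surjective (rQ.codRestrict _ hmemE) := by
      rintro ⟨α, hα⟩
      obtain ⟨g, hg, hge, hgm⟩ := (isMap_normSys hLS hn).1 ((mem_autGroup_iff hQS).1 hα)
      obtain ⟨γ, hγ, hγe⟩ := (isIso_of_mapsTo hg fun x hx => hg.mapsTo_sup
        (fun a ha => Subgroup.mem_sup_left (hge a ha ▸ autMap_mem α ha))
        (fun a ha => Subgroup.mem_sup_right (hgm a ha)) hx).exists_aut
      have hγG : γ ∈ G Q := ⟨hγ, mem_traceStab le_sup_right fun y hy => by
          rw [hγe y (Subgroup.mem_sup_right hy)]; exact hgm y hy,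
        mem_traceStab le_sup_left fun y hy => by
          rw [hγe y (Subgroup.mem_sup_left hy), hge y hy]; exact autMap_mem α hy⟩
      refine ⟨⟨γ, hγG⟩, Subtype.ext (aut_ext fun y hy => ?_)⟩
      show autMap (rQ ⟨γ, hγG⟩) y = autMap α y
      rw [hrQ _ y hy, hγe y (Subgroup.mem_sup_left hy), hge y hy]
    rw [isFullyAutomized_iff hS]
    refine ⟨hQS, fun hdvd => R.not_dvd_index ?_⟩
    refine (hdvd.trans (Subgroup.index_dvd_of_le ?_)).trans
      (Subgroup.index_map_dvd (R : Subgroup (G Q)) hsurj)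
    rintro _ ⟨r, hr, rfl⟩
    exact hRsurj r hr
  · -- receptive
    refine receptive_of_extend hQS fun P f N hf hPN hN => ?_
    obtain ⟨g, hg, hge, hgm⟩ := (isMap_normSys hLS hn).1 hf.isMap
    have hPS : P ≤ S := hf.source_le
    have hLiso : IsIso F L L g := isIso_of_mapsTo (hg.mono le_sup_right) hgm
    have hPQ : imgSub g P = Q := by
      have h := (hg.mono le_sup_left).isIso
      exact (IsIso.mk (F := F) h.isMap (by rw [Set.image_congr hge]; exact hf.image_eq)).eq_imgSub.symm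
    have hU' : IsIso F (P ⊔ L) (Q ⊔ L) g := by
      have h := hg.isIso
      rwa [imgSub_sup hg, ← hLiso.eq_imgSub, hPQ] at h
    have hNS : N ≤ normalizerIn S P := fun x hx => ⟨((hN x).1 hx).1, ((hN x).1 hx).2.1⟩
    have hNn : N ≤ normalizerIn S (P ⊔ L) := fun x hx =>
      ⟨(hNS hx).1, normalizer_sup (F := F) hPS hLS (hNS hx).1 (hNS hx).2 (hn (hNS hx).1)⟩
    let δ₀ : N →* MulAut (Q ⊔ L : Subgroup Ω) :=
      hU'.autEquiv.toMonoidHom.comp ((conjAutIn S (P ⊔ L)).comp (Subgroup.inclusion hNn))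
    have hδ : ∀ (x : N) (y : Ω), y ∈ P ⊔ L → autMap (δ₀ x) (g y) = g ((x : Ω) * y * (x : Ω)⁻¹) := by
      intro x y hy
      show autMap (hU'.autEquiv (conjAut (hNn x.2).2)) (g y) = _
      rw [hU'.autMap_autEquiv _ hy, autMap_conjAut _ hy]
      rfl
    have hδG : ∀ x : N, δ₀ x ∈ G Q := by
      intro x
      refine ⟨hU'.autEquiv_mem_autGroup (conjAut_mem_autGroup F (sup_le hPS hLS) (hNn x.2)),
        mem_traceStab le_sup_right fun y hy => ?_, mem_traceStab le_sup_left fun y hy => ?_⟩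
      · obtain ⟨w, hw, rfl⟩ := hLiso.exists_preimage hy
        rw [hδ x w (Subgroup.mem_sup_right hw)]
        exact hgm _ ((Subgroup.mem_normalizer_iff.1 (hn (hNS x.2).1) w).1 hw)
      · obtain ⟨w, hw, rfl⟩ := hf.exists_preimage hy
        have hw' := conj_mem_of_mem_normalizerIn (hNS x.2) hw
        rw [← hge w hw, hδ x w (Subgroup.mem_sup_left hw), hge _ hw']
        exact hf.mem hw'
    let δ : N →* G Q := δ₀.codRestrict _ hδG
    have hδp : IsPGroup p δ.range :=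
      (hS.to_le fun x hx => (hNS hx).1).of_surjective δ.rangeRestrict δ.rangeRestrict_surjective
    obtain ⟨k, hk, hkc⟩ := exists_ker_conj rQ R hδp (by
      rintro _ ⟨x, rfl⟩
      obtain ⟨-, hxn, h, hh, hhe⟩ := (hN x).1 x.2
      have hhQ : h ∈ normalizerIn S Q := ⟨hh, mem_normalizer_of_maps fun y hy => by
        obtain ⟨w, hw, rfl⟩ := hf.exists_preimage hy
        exact hhe w hw ▸ hf.mem ((Subgroup.mem_normalizer_iff.1 hxn w).1 hw)⟩
      obtain ⟨hhn, hhT⟩ := hTmem Q hQS h hhQ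
      refine ⟨⟨_, hTG Q hQS hhT⟩, hRT ▸ Subgroup.mem_subgroupOf.2 hhT, aut_ext fun y hy => ?_⟩
      obtain ⟨w, hw, rfl⟩ := hf.exists_preimage hy
      rw [hrQ _ _ hy, hrQ _ _ hy, autMap_conjAut hhn (Subgroup.mem_sup_left hy), conjMap_apply, ← hhe w hw,
        ← hge _ ((Subgroup.mem_normalizer_iff.1 hxn w).1 hw), ← hge w hw]
      exact hδ x w (Subgroup.mem_sup_left hw))
    set φ := autMap (k : MulAut (Q ⊔ L : Subgroup Ω)) ∘ g with hφ
    have hφi : IsIso F (P ⊔ L) (Q ⊔ L) φ := hU'.comp (isIso_autMap hU k.2.1)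
    have hφP : ∀ y ∈ P, φ y = f y := by
      intro y hy
      have h1 : autMap (rQ k) (f y) = f y := by rw [hk, autMap_apply _ (hf.mem hy)]; rfl
      rw [hrQ k _ (hf.mem hy)] at h1
      show autMap _ (g y) = f y
      rw [hge y hy]
      exact h1
    have hφLm : ∀ y ∈ L, φ y ∈ L := fun y hy => autMap_mem_of_stab k.2.2.1 le_sup_right (hgm y hy)
    have hφL : IsIso F L L φ := isIso_of_mapsTo (hφi.isMap.mono le_sup_right) hφLm
    obtain ⟨a, ha, hae⟩ := receptive_extend hLR hφL (N := N) fun x hx => by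
      obtain ⟨h, hh, hhn, hhe⟩ := mem_autInducedBy.1
        (Subgroup.mem_subgroupOf.1 (hRT ▸ hkc _ ⟨⟨x, hx⟩, rfl⟩))
      refine ⟨(hNS hx).1, hn (hNS hx).1, h, hh.1, fun y hy => ?_⟩
      have hgy : g y ∈ Q ⊔ L := hU'.mem (Subgroup.mem_sup_right hy)
      have e := congrArg (fun b : MulAut (Q ⊔ L : Subgroup Ω) => autMap b (φ y))
        (show (k : MulAut (Q ⊔ L : Subgroup Ω)) * δ₀ ⟨x, hx⟩ * (k : MulAut (Q ⊔ L : Subgroup Ω))⁻¹ =
          conjAut hhn from hhe)
      rw [autMap_mul _ _ (hφi.mem (Subgroup.mem_sup_right hy)),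
        autMap_mul _ _ (autMap_mem _ (hφi.mem (Subgroup.mem_sup_right hy))),
        autMap_conjAut hhn (hφi.mem (Subgroup.mem_sup_right hy))] at e
      rw [hφ, Function.comp_apply, ← autMap_mul _ _ hgy, inv_mul_cancel,
        show autMap (1 : MulAut (Q ⊔ L : Subgroup Ω)) (g y) = g y by rw [autMap_apply _ hgy]; rfl,
        hδ ⟨x, hx⟩ y (Subgroup.mem_sup_right hy)] at e
      exact e
    have hle : P ⊔ L ≤ N ⊔ L := sup_le_sup_right hPN L
    obtain ⟨z, hz, -, hze⟩ := exists_center_twist hS hF (le_sup_right : L ≤ P ⊔ L) hL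
      (ha.mono hle) hφi.isMap hae
    have hNL : N ⊔ L ≤ S := ha.le
    refine ⟨a ∘ conjMap z, (isMap_normSys hLS hn).2 ⟨_, (isMap_conj F hNL (hLS hz)).comp ha fun y hy =>
      Subgroup.mul_mem _ (Subgroup.mul_mem _ (Subgroup.mem_sup_right hz) hy)
        (Subgroup.inv_mem _ (Subgroup.mem_sup_right hz)), fun _ _ => rfl, fun y hy => ?_⟩, fun y hy => ?_⟩
    · show a (z * y * z⁻¹) ∈ L
      rw [hae _ (L.mul_mem (L.mul_mem hz hy) (L.inv_mem hz))]
      exact hφLm _ (L.mul_mem (L.mul_mem hz hy) (L.inv_mem hz))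
    · show a (z * y * z⁻¹) = f y
      rw [← hze y (Subgroup.mem_sup_left hy), hφP y hy]

end

end Cfsg.Agent.H91
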