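import Cfsg.Agent.H91.Elem
import Cfsg.Agent.H90.Odd
import Mathlib.GroupTheory.Nilpotent

/-!
The upper central series of a subgroup inside the ambient group, and a lemma on coprime automorphisms of a
`p`-group fixing a largest elementary abelian subgroup (odd prime).
-/

set_option autoImplicit false

namespace Cfsg.Agent.H91

universe u

variable {Ω : Type u} [Group Ω]

/-- The upper central series of `T`, as subgroups of the ambient group. -/
def upperSeries (T : Subgroup Ω) (i : ℕ) : Subgroup Ω :=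
  (Subgroup.upperCentralSeries T i).map T.subtype

theorem upperSeries_le (T : Subgroup Ω) (i : ℕ) : upperSeries T i ≤ T := Subgroup.map_subtype_le _

theorem upperSeries_zero (T : Subgroup Ω) : upperSeries T 0 = ⊥ := by
  rw [upperSeries, Subgroup.upperCentralSeries_zero, Subgroup.map_bot]

theorem mem_upperSeries {T : Subgroup Ω} {i : ℕ} {x : T} :
    (x : Ω) ∈ upperSeries T i ↔ x ∈ Subgroup.upperCentralSeries T i :=
  Subgroup.mem_map_iff_mem T.subtype_injective

theorem comm_mem_upperSeries {T : Subgroup Ω} {i : ℕ} {x t : Ω} (hx : x ∈ upperSeries T (i + 1))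
    (ht : t ∈ T) : x * t * x⁻¹ * t⁻¹ ∈ upperSeries T i := by
  obtain ⟨x', hx', rfl⟩ := hx
  exact ⟨_, (Subgroup.mem_upperCentralSeries_succ_iff (G := T)).1 hx' ⟨t, ht⟩, rfl⟩

theorem conj_mem_upperSeries {T : Subgroup Ω} {i : ℕ} {x t : Ω} (hx : x ∈ upperSeries T i)
    (ht : t ∈ T) : t * x * t⁻¹ ∈ upperSeries T i := by
  obtain ⟨x', hx', rfl⟩ := hx
  exact ⟨_, Subgroup.Normal.conj_mem inferInstance x' hx' ⟨t, ht⟩, rfl⟩

/-- A displacement fixed by an automorphism of order prime to `p` is trivial. -/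
theorem eq_one_of_fixed_diff {X : Type*} [Group X] {p m : ℕ} (hm : Nat.Coprime m p) {f : X → X}
    {D : Subgroup X} {z d : X}
    (hiter : f^[m] z = z) (hz : f z = z * d) (hd : d ∈ D)
    (hmul : ∀ e ∈ D, f (z * e) = f z * f e) (hfd : ∀ e ∈ D, f e = e) (hdp : ∃ k, d ^ p ^ k = 1) :
    d = 1 := by
  have hi : ∀ n : ℕ, f^[n] z = z * d ^ n := by
    intro n
    induction n with
    | zero => simp
    | succ n ih =>
      rw [Function.iterate_succ_apply', ih, hmul _ (pow_mem hd n), hz, hfd _ (pow_mem hd n), mul_assoc,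
        ← pow_succ']
  have h1 : d ^ m = 1 := by
    have := hi m
    rw [hiter] at this
    exact mul_eq_left.1 this.symm
  obtain ⟨k, hk⟩ := hdp
  exact orderOf_eq_one_iff.1 (Nat.eq_one_of_dvd_coprimes (Nat.Coprime.pow_right k hm)
    (orderOf_dvd_of_pow_eq_one h1) (orderOf_dvd_of_pow_eq_one hk))

theorem iterate_mulAut {X : Type*} [Group X] (β : MulAut X) (n : ℕ) (x : X) :
    (fun y => β y)^[n] x = (β ^ n) x := by
  induction n with
  | zero => rfl
  | succ n ih => rw [Function.iterate_succ_apply', ih, pow_succ']; rfl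

/-- An automorphism of order prime to `p` of a finite `p`-group (`p` odd) fixing the Thompson subgroup
elementwise is trivial. -/
theorem eq_one_of_fix_thompson {X : Type u} [Group X] [Finite X] {p : ℕ} [Fact p.Prime] (hp : p ≠ 2)
    (hX : IsPGroup p X) {β : MulAut X} (hβ : (orderOf β).Coprime p)
    (hfix : ∀ x ∈ Cfsg.thompsonSubgroup p X, β x = x) : β = 1 := by
  obtain ⟨A, -, hA, hmax⟩ := exists_maxElem p (⊤ : Subgroup X)
  have hAmax : A ∈ Cfsg.maxElementaryAbelianSubgroups p X := ⟨hA, fun B hB => hmax B le_top hB⟩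
  have hAfix : ∀ a ∈ A, β a = a := fun a ha => hfix a (le_sSup (s := Cfsg.maxElementaryAbelianSubgroups p X) hAmax ha)
  set D := Subgroup.centralizer (A : Set X) with hD
  have hmaps : ∀ d ∈ D, β d ∈ D := fun d hd => Subgroup.mem_centralizer_iff.2 fun a ha => by
    have := congrArg β (Subgroup.mem_centralizer_iff.1 hd a ha)
    rwa [map_mul, map_mul, hAfix a ha] at this
  have hAD : A ≤ D := fun a ha => Subgroup.mem_centralizer_iff.2 fun b hb =>
    congrArg Subtype.val (hA.1.is_comm.comm ⟨b, hb⟩ ⟨a, ha⟩)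
  let βD : MulAut D := MulEquiv.ofBijective
    ((β.toMonoidHom.comp D.subtype).codRestrict D fun d => hmaps d d.2)
    (Finite.injective_iff_bijective.1 fun a b hab => Subtype.ext (β.injective (congrArg Subtype.val hab)))
  have hcoe : ∀ d : D, ((βD d : D) : X) = β d := fun d => rfl
  have hpow : ∀ (n : ℕ) (d : D), (((βD ^ n) d : D) : X) = (β ^ n) d := by
    intro n
    induction n with
    | zero => intro d; rfl
    | succ n ih => intro d; rw [pow_succ', pow_succ', MulAut.mul_apply, MulAut.mul_apply, hcoe, ih]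
  have hβD : (orderOf βD).Coprime p := by
    refine Nat.Coprime.coprime_dvd_left (orderOf_dvd_of_pow_eq_one ?_) hβ
    ext d
    rw [hpow, pow_orderOf_eq_one]
    rfl
  have hDfix : ∀ d ∈ D, β d = d := by
    intro d hd
    have := Cfsg.Agent.H90.fix_of_fix_order_p hp (hX.to_subgroup D) βD hβD (fun y hy => ?_) ⟨d, hd⟩
    · exact congrArg Subtype.val this
    · refine Subtype.ext ((hcoe y).trans (hAfix _ ?_))
      have hy' : ((y : X)) ^ p = 1 := by simpa using congrArg Subtype.val hy
      by_contra hyA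
      set B := A ⊔ Subgroup.zpowers (y : X) with hB
      have hyA' : ∀ a ∈ A, Commute a (y : X) := fun a ha => Subgroup.mem_centralizer_iff.1 y.2 a ha
      have hn : Subgroup.zpowers (y : X) ≤ Subgroup.normalizer (A : Set X) :=
        Subgroup.zpowers_le.2 (Subgroup.centralizer_le_normalizer _ y.2)
      have hBe : Cfsg.IsElementaryAbelian p B := by
        have hm : ∀ b ∈ B, ∃ a ∈ A, ∃ j : ℤ, b = a * (y : X) ^ j := by
          intro b hb
          rw [hB, ← SetLike.mem_coe, Subgroup.coe_mul_of_right_le_normalizer_left A _ hn] at hb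
          obtain ⟨a, ha, _, ⟨j, rfl⟩, rfl⟩ := hb
          exact ⟨a, ha, j, rfl⟩
        refine ⟨⟨⟨fun b c => Subtype.ext ?_⟩⟩, fun b hb => ?_⟩
        · obtain ⟨a, ha, j, hb⟩ := hm b b.2
          obtain ⟨a', ha', j', hc⟩ := hm c c.2
          show (b : X) * c = c * b
          rw [hb, hc]
          have h1 : Commute a a' := congrArg Subtype.val (hA.1.is_comm.comm ⟨a, ha⟩ ⟨a', ha'⟩)
          exact ((h1.mul_right ((hyA' a ha).zpow_right j')).mul_left
            (((hyA' a' ha').zpow_right j).symm.mul_right ((Commute.refl (y : X)).zpow_zpow j j'))).eq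
        · obtain ⟨a, ha, j, rfl⟩ := hm b hb
          rw [((hyA' a ha).zpow_right j).mul_pow, hA.2 a ha, one_mul, ← zpow_natCast, ← zpow_mul,
            mul_comm, zpow_mul, zpow_natCast, hy', one_zpow]
      have : A = B := Subgroup.eq_of_le_of_card_ge le_sup_left (hmax B le_top hBe)
      exact hyA (this.symm ▸ Subgroup.mem_sup_right (Subgroup.mem_zpowers _))
  let F0 : Subgroup X := β.toMonoidHom.eqLocus (MonoidHom.id X)
  have hF0 : F0 = ⊤ := by
    by_contra hne
    haveI := IsPGroup.isNilpotent hX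
    obtain ⟨x, hx, hxF⟩ := SetLike.exists_of_lt
      (normalizerCondition_of_isNilpotent (G := X) F0 (lt_top_iff_ne_top.2 hne))
    refine hxF (show β x = x from ?_)
    set d := x⁻¹ * β x with hd
    have hdD : d ∈ D := Subgroup.mem_centralizer_iff.2 fun a ha => by
      have h1 : β (x * a * x⁻¹) = x * a * x⁻¹ :=
      (Subgroup.mem_set_normalizer_iff.1 hx a).1 (show a ∈ F0 from hAfix a ha)
      rw [map_mul, map_mul, map_inv, hAfix a ha] at h1
      show a * d = d * a
      calc a * d = x⁻¹ * (x * a * x⁻¹) * β x := by rw [hd]; group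
      _ = x⁻¹ * (β x * a * (β x)⁻¹) * β x := by rw [h1]
      _ = d * a := by rw [hd]; group
    have : d = 1 := eq_one_of_fixed_diff (f := fun y => β y) hβ
      (by rw [iterate_mulAut, pow_orderOf_eq_one]; rfl) (mul_inv_cancel_left x (β x)).symm hdD
      (fun e _ => map_mul β x e) hDfix (hX d)
    exact (inv_mul_eq_one.1 this).symm
  ext x
  exact (hF0.ge (Subgroup.mem_top x) : β x = x)

end Cfsg.Agent.H91
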