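import Cfsg.Agent.H91.SmallCore
import Cfsg.Agent.H91.FixBasic
import Cfsg.Agent.H91.NormSat
import Cfsg.Agent.H91.UpperSeries
import Cfsg.Agent.H90.Normal
import Cfsg.Agent.Cores.Residual
import Cfsg.Agent.H90.Tate

/-!
Automorphisms of order prime to `p` and the small elements of the focal or hyperfocal subgroup.
-/

set_option autoImplicit false

namespace Cfsg.Agent.H91

open Cfsg Cfsg.FusionSystem Cfsg.Agent.FusionSys

universe u

variable {Ω : Type u} [Group Ω] {S : Subgroup Ω} [Finite S] {p : ℕ} [Fact p.Prime] {F : FusionSystem S}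

/-- `C` is a faithful small subgroup of `P ⊓ H`. -/
structure IsSmallCore (p : ℕ) (P H C : Subgroup Ω) : Prop where
  le : C ≤ P ⊓ H
  small : ∀ x ∈ C, IsSmall p x
  invariant : ∀ α ∈ traceStab P (P ⊓ H), ∀ x ∈ C, autMap α x ∈ C
  faithful : ∀ α : MulAut P, (orderOf α).Coprime p → (∀ x ∈ P, x⁻¹ * autMap α x ∈ H) →
    (∀ x ∈ C, autMap α x = x) → α = 1

theorem mem_traceStab_of_diff {P H : Subgroup Ω} [Finite (P ⊓ H : Subgroup Ω)] {α : MulAut P}
    (h : ∀ x ∈ P, x⁻¹ * autMap α x ∈ H) : α ∈ traceStab P (P ⊓ H) :=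
  mem_traceStab inf_le_left fun x hx => ⟨autMap_mem α hx.1, by
    have := H.mul_mem hx.2 (h x hx.1)
    rwa [mul_inv_cancel_left] at this⟩

theorem exists_isSmallCore (hS : IsPGroup p S) {P : Subgroup Ω} (hP : P ≤ S) (H : Subgroup Ω) :
    ∃ C : Subgroup Ω, IsSmallCore p P H C := by
  haveI := finite_of_le hP
  haveI := finite_of_le (inf_le_left.trans hP : P ⊓ H ≤ S)
  obtain ⟨C, hinv, hsmall, hfaith⟩ := exists_small_core (hS.to_le (inf_le_left.trans hP : P ⊓ H ≤ S))
  refine ⟨C.map (P ⊓ H).subtype, Subgroup.map_subtype_le _, ?_, ?_, fun α hco hd hfix => ?_⟩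
  · rintro _ ⟨x, hx, rfl⟩
    exact (hsmall x hx).map _
  · rintro α hα _ ⟨x, hx, rfl⟩
    exact ⟨_, hinv (traceRes inf_le_left ⟨α, hα⟩) x hx,
      (autMap_coe (traceRes inf_le_left ⟨α, hα⟩) x).symm.trans (autMap_traceRes inf_le_left ⟨α, hα⟩ x.2)⟩
  · have hα := mem_traceStab_of_diff hd
    have hD : ∀ y ∈ P ⊓ H, autMap α y = y := by
      intro y hy
      have h1 : traceRes inf_le_left (⟨α, hα⟩ : traceStab P (P ⊓ H)) = 1 := by
        refine hfaith _ (Nat.Coprime.coprime_dvd_left ((orderOf_map_dvd _ _).trans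
          (dvd_of_eq (Subgroup.orderOf_mk α hα))) hco) fun x hx => Subtype.ext ?_
        rw [← autMap_coe, autMap_traceRes inf_le_left _ x.2]
        exact hfix x ⟨x, hx, rfl⟩
      rw [← autMap_traceRes inf_le_left ⟨α, hα⟩ hy, h1, autMap_apply _ hy]
      rfl
    refine MulEquiv.ext fun x => ?_
    refine H90.fix_of_fix_diff (hS.to_le hP) α hco x (Subtype.ext ?_)
    rw [← autMap_coe]
    refine hD _ ⟨Subtype.coe_prop _, ?_⟩
    have := hd x x.2
    rwa [autMap_coe] at this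

/-- An automorphism of order prime to `p` acting trivially on the sections cut by the upper central series
fixes `C`. -/
theorem fix_of_chain (hS : IsPGroup p S) {P C : Subgroup Ω} (hP : P ≤ S) (hC : C ≤ P) {α : MulAut P}
    (hco : (orderOf α).Coprime p) (hinv : ∀ x ∈ C, autMap α x ∈ C)
    (hch : ∀ i, ∀ x ∈ C, x ∈ upperSeries S (i + 1) → x⁻¹ * autMap α x ∈ upperSeries S i) :
    ∀ x ∈ C, autMap α x = x := by
  haveI := finite_of_le hP
  have key : ∀ i, ∀ x ∈ C, x ∈ upperSeries S i → autMap α x = x := by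
    intro i
    induction i with
    | zero =>
      intro x hx hx0
      rw [upperSeries_zero, Subgroup.mem_bot] at hx0
      subst hx0
      rw [autMap_apply α P.one_mem]
      exact congrArg Subtype.val (map_one α)
    | succ i ih =>
      intro x hx hxi
      have hfix := ih _ (C.mul_mem (C.inv_mem hx) (hinv x hx)) (hch i x hx hxi)
      have hd : (⟨x, hC hx⟩ : P)⁻¹ * α ⟨x, hC hx⟩ = ⟨x⁻¹ * autMap α x, P.mul_mem (P.inv_mem (hC hx))
          (autMap_mem α (hC hx))⟩ := Subtype.ext (by rw [Subgroup.coe_mul, ← autMap_coe]; rfl)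
      have h1 := H90.fix_of_fix_diff (hS.to_le hP) α hco ⟨x, hC hx⟩ (by
        rw [hd]
        exact Subtype.ext ((autMap_apply α _).symm.trans hfix))
      rw [autMap_apply α (hC hx), h1]
  haveI : Group.IsNilpotent S := IsPGroup.isNilpotent hS
  obtain ⟨n, hn⟩ := Group.IsNilpotent.nilpotent' (G := S)
  intro x hx
  refine key n x hx ⟨⟨x, hP (hC hx)⟩, ?_, rfl⟩
  rw [hn]
  exact Subgroup.mem_top _

theorem comm_mem_upperSeries' {T : Subgroup Ω} {i : ℕ} {x t : Ω} (hx : x ∈ upperSeries T (i + 1))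
    (ht : t ∈ T) : x⁻¹ * (t * x * t⁻¹) ∈ upperSeries T i := by
  have h := comm_mem_upperSeries ((upperSeries T (i + 1)).inv_mem hx) ht
  rwa [inv_inv, mul_assoc x⁻¹ t x, mul_assoc x⁻¹ (t * x) t⁻¹] at h

theorem autMap_upperSeries {γ : MulAut S} {i : ℕ} {x : Ω} (hx : x ∈ upperSeries S i) :
    autMap γ x ∈ upperSeries S i := by
  obtain ⟨y, hy, rfl⟩ := hx
  exact ⟨γ y, (Subgroup.characteristic_iff_map_le.1 inferInstance γ) ⟨y, hy, rfl⟩, (autMap_coe γ y).symm⟩

theorem diff_mem_hyperfocal {P : Subgroup Ω} (hP : P ≤ S) (α : F.autGroup P)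
    (hα : (orderOf α).Coprime p) : ∀ x ∈ P, x⁻¹ * autMap (α : MulAut P) x ∈ F.hyperfocalSubgroup p :=
  fun x hx => by
    rw [autMap_apply _ hx]
    exact H90.mem_hyp F hP (Cores.mem_pResidual_of_coprime hα) ⟨x, hx⟩

theorem diff_mem_focal {P : Subgroup Ω} (hP : P ≤ S) (α : F.autGroup P) :
    ∀ x ∈ P, x⁻¹ * autMap (α : MulAut P) x ∈ F.focalSubgroup := fun x hx => by
  obtain ⟨φ, hφ, hφe⟩ := (mem_autGroup_iff hP).1 α.2
  exact Subgroup.subset_closure ⟨P, φ, ⟨x, hx⟩, hφ, by rw [hφe]⟩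

theorem mem_traceStab_hyperfocal (hS : IsPGroup p S) (hF : F.IsSaturated p) {P : Subgroup Ω}
    (hP : F.IsFullyNormalized P) (α : F.autGroup P) :
    (α : MulAut P) ∈ traceStab P (P ⊓ F.hyperfocalSubgroup p) := by
  haveI := finite_of_le (inf_le_left.trans hP.1 : P ⊓ F.hyperfocalSubgroup p ≤ S)
  haveI := finite_autGroup F hP.1
  obtain ⟨-, T, hT⟩ := isFullyAutomized_of_isFullyNormalized hS hF hP
  set I := (traceStab P (P ⊓ F.hyperfocalSubgroup p)).subgroupOf (F.autGroup P) with hI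
  have h1 : pResidual p (F.autGroup P) ≤ I := Cores.pResidual_le fun β hβ =>
    mem_traceStab_of_diff (diff_mem_hyperfocal hP.1 β hβ)
  have h2 : (T : Subgroup (F.autGroup P)) ≤ I := by
    intro β hβ
    rw [hT] at hβ
    obtain ⟨s, hs, hsn, hse⟩ := mem_autInducedBy.1 (Subgroup.mem_subgroupOf.1 hβ)
    refine mem_traceStab inf_le_left fun x hx => ?_
    rw [show (F.autGroup P).subtype β = conjAut hsn from hse, autMap_conjAut hsn hx.1]
    exact ⟨(Subgroup.mem_normalizer_iff.1 hsn x).1 hx.1, H90.hyp_conj F p hs hx.2⟩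
  obtain ⟨k, hk⟩ := Cores.exists_index_pResidual_eq_pow (G := F.autGroup P) (p := p)
  obtain ⟨j, -, hj⟩ := (Nat.dvd_prime_pow (Fact.out : p.Prime)).1 (hk ▸ Subgroup.index_dvd_of_le h1)
  have hj0 : j = 0 := by
    by_contra h
    exact T.not_dvd_index ((dvd_pow_self p h).trans (hj ▸ Subgroup.index_dvd_of_le h2))
  rw [hj0, pow_zero, Subgroup.index_eq_one] at hj
  have h : α ∈ I := by rw [hj]; exact Subgroup.mem_top α
  exact Subgroup.mem_subgroupOf.1 h

/-- A radical centric `P` with a normal subgroup of `Aut_F(P)` free of elements of order prime to `p` containing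
`Aut_S(P)` is `S`. -/
theorem le_of_radical (hS : IsPGroup p S) {P : Subgroup Ω} (hc : F.IsCentric P) (hr : F.IsRadical p P)
    (M : Subgroup (F.autGroup P)) [M.Normal]
    (hco : ∀ a ∈ M, (orderOf (a : MulAut P)).Coprime p → a = 1)
    (hT : ∀ s : Ω, ∀ hs : s ∈ normalizerIn S P, (⟨conjAut hs.2, conjAut_mem_autGroup F hc.1 hs⟩ : F.autGroup P) ∈ M) :
    S ≤ P := by
  haveI := finite_autGroup F hc.1
  have hMp : IsPGroup p M := H90.isPGroup_of_coprime_eq_one fun a ha =>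
    Subtype.ext (hco a a.2 (by rwa [Subgroup.orderOf_coe, Subgroup.orderOf_coe]))
  by_contra hle
  obtain ⟨s, hs, hsP⟩ := SetLike.exists_of_lt (FusionSys.lt_normalizerIn hS (lt_of_le_not_ge hc.1 hle))
  refine hsP (mem_of_conjAut_mem_inn (centralizerIn_le_of_isCentric hc) hc.1 hs.1 hs.2 ?_)
  rw [← hr.2]
  exact ⟨_, (le_sSup ⟨inferInstance, hMp⟩ : M ≤ pCore p (F.autGroup P)) (hT s hs), rfl⟩

end Cfsg.Agent.H91
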