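import Cfsg.Agent.FusionSys.Basic
import Cfsg.Prelude.Def_Transfer

/-!
The Thompson subgroup `J(P)` (largest elementary abelian subgroups) of a subgroup, under maps of a fusion
system and passage to intermediate subgroups.
-/

set_option autoImplicit false

namespace Cfsg.Agent.H91

open Cfsg.Agent.FusionSys

universe u

variable {Ω : Type u} [Group Ω] {p : ℕ}

theorem isEA_map {Y : Type*} [Group Y] {X : Type*} [Group X] (f : X →* Y) {A : Subgroup X}
    (hA : Cfsg.IsElementaryAbelian p A) : Cfsg.IsElementaryAbelian p (A.map f) := by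
  refine ⟨⟨⟨?_⟩⟩, ?_⟩
  · rintro ⟨_, a, ha, rfl⟩ ⟨_, b, hb, rfl⟩
    have := congrArg Subtype.val (hA.1.is_comm.comm ⟨a, ha⟩ ⟨b, hb⟩)
    exact Subtype.ext (show f a * f b = f b * f a by rw [← map_mul, ← map_mul]; exact congrArg f this)
  · rintro _ ⟨a, ha, rfl⟩
    rw [← map_pow, hA.2 a ha, map_one]

theorem isEA_of_map {Y : Type*} [Group Y] {X : Type*} [Group X] (f : X →* Y)
    (hf : Function.Injective f) {A : Subgroup X} (hA : Cfsg.IsElementaryAbelian p (A.map f)) :
    Cfsg.IsElementaryAbelian p A := by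
  refine ⟨⟨⟨fun a b => Subtype.ext (hf ?_)⟩⟩, fun a ha => hf ?_⟩
  · have := congrArg Subtype.val (hA.1.is_comm.comm ⟨f a, a, a.2, rfl⟩ ⟨f b, b, b.2, rfl⟩)
    simpa using this
  · rw [map_pow, map_one]; exact hA.2 _ ⟨a, ha, rfl⟩

/-- The largest elementary abelian subgroups of `P`, as subgroups of the ambient group. -/
def maxElem (p : ℕ) (P : Subgroup Ω) : Set (Subgroup Ω) :=
  {A | A ≤ P ∧ Cfsg.IsElementaryAbelian p A ∧
    ∀ B : Subgroup Ω, B ≤ P → Cfsg.IsElementaryAbelian p B → Nat.card B ≤ Nat.card A}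

theorem isEA_bot (p : ℕ) : Cfsg.IsElementaryAbelian p (⊥ : Subgroup Ω) :=
  ⟨⟨⟨fun a b => Subsingleton.elim _ _⟩⟩, fun a ha => by
    rw [Subgroup.mem_bot.1 ha, one_pow]⟩

theorem exists_maxElem (p : ℕ) (P : Subgroup Ω) [Finite P] : ∃ A, A ∈ maxElem p P := by
  haveI : Finite {A : Subgroup Ω // A ≤ P} :=
    Finite.of_equiv _ (Subgroup.MapSubtype.orderIso P).toEquiv
  haveI : Nonempty {A : {A : Subgroup Ω // A ≤ P} // Cfsg.IsElementaryAbelian p A.1} :=
    ⟨⟨⟨⊥, bot_le⟩, isEA_bot p⟩⟩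
  obtain ⟨⟨⟨A, hA⟩, hAe⟩, hmax⟩ :=
    Finite.exists_max fun A : {A : {A : Subgroup Ω // A ≤ P} // Cfsg.IsElementaryAbelian p A.1} =>
      Nat.card A.1.1
  exact ⟨A, hA, hAe, fun B hB hBe => hmax ⟨⟨B, hB⟩, hBe⟩⟩

theorem thompson_eq (p : ℕ) (P : Subgroup Ω) :
    Cfsg.thompsonSubgroupOf p P = sSup (maxElem p P) := by
  apply le_antisymm
  · refine Subgroup.map_le_iff_le_comap.2 (sSup_le fun A hA => Subgroup.map_le_iff_le_comap.1 (le_sSup ?_))
    refine ⟨Subgroup.map_subtype_le A, isEA_map _ hA.1, fun B hB hBe => ?_⟩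
    have hB' : (B.subgroupOf P).map P.subtype = B := Subgroup.map_subgroupOf_eq_of_le hB
    rw [Subgroup.card_map_of_injective P.subtype_injective, ← hB',
      Subgroup.card_map_of_injective P.subtype_injective]
    exact hA.2 _ (isEA_of_map P.subtype P.subtype_injective (hB'.symm ▸ hBe))
  · refine sSup_le fun A hA => ?_
    have hA' : (A.subgroupOf P).map P.subtype = A := Subgroup.map_subgroupOf_eq_of_le hA.1
    rw [← hA']
    refine Subgroup.map_mono (le_sSup ⟨isEA_of_map P.subtype P.subtype_injective (hA'.symm ▸ hA.2.1),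
      fun B hB => ?_⟩)
    rw [← Subgroup.card_map_of_injective (K := A.subgroupOf P) P.subtype_injective, hA',
      ← Subgroup.card_map_of_injective (K := B) P.subtype_injective]
    exact hA.2.2 _ (Subgroup.map_subtype_le B) (isEA_map _ hB)

theorem thompson_le (p : ℕ) (P : Subgroup Ω) : Cfsg.thompsonSubgroupOf p P ≤ P :=
  Subgroup.map_subtype_le _

/-- A subgroup between `J(P)` and `P` has the same Thompson subgroup. -/
theorem thompson_eq_of_le {P R : Subgroup Ω} [Finite P] (hRP : R ≤ P)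
    (h : Cfsg.thompsonSubgroupOf p P ≤ R) :
    Cfsg.thompsonSubgroupOf p R = Cfsg.thompsonSubgroupOf p P := by
  rw [thompson_eq] at h ⊢
  rw [thompson_eq]
  obtain ⟨A, hA⟩ := exists_maxElem p P
  have hAR : A ≤ R := (le_sSup hA).trans h
  refine le_antisymm (sSup_le fun B hB => le_sSup ⟨hB.1.trans hRP, hB.2.1, fun C hC hCe => ?_⟩)
    (sSup_le fun B hB => le_sSup ⟨(le_sSup hB).trans h, hB.2.1,
      fun C hC hCe => hB.2.2 C (hC.trans hRP) hCe⟩)
  exact (hA.2.2 C hC hCe).trans (hB.2.2 A hAR hA.2.1)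

/-- An element of order dividing `p` of `P` commuting with `J(P)` lies in `J(P)`. -/
theorem mem_thompson {P : Subgroup Ω} [Finite P] {d : Ω} (hd : d ∈ P) (hdp : d ^ p = 1)
    (hc : ∀ w ∈ Cfsg.thompsonSubgroupOf p P, Commute d w) : d ∈ Cfsg.thompsonSubgroupOf p P := by
  rw [thompson_eq] at hc ⊢
  obtain ⟨A, hA⟩ := exists_maxElem p P
  haveI := finite_of_le (S := P) hA.1
  have hcA : ∀ a ∈ A, Commute a d := fun a ha => (hc a (le_sSup (s := maxElem p P) hA ha)).symm
  set B := Subgroup.closure (insert d (A : Set Ω)) with hB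
  have hBP : B ≤ P := (Subgroup.closure_le P).2 (Set.insert_subset hd fun a ha => hA.1 ha)
  have hcomm : ∀ a ∈ insert d (A : Set Ω), ∀ b ∈ insert d (A : Set Ω), a * b = b * a := by
    rintro a (rfl | ha) b (rfl | hb)
    · rfl
    · exact (hcA b hb).symm.eq
    · exact (hcA a ha).eq
    · exact congrArg Subtype.val (hA.2.1.1.is_comm.comm ⟨a, ha⟩ ⟨b, hb⟩)
  have hcB := Subgroup.isMulCommutative_closure hcomm
  have hBe : Cfsg.IsElementaryAbelian p B := by
    refine ⟨hcB, fun b hb => ?_⟩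
    induction hb using Subgroup.closure_induction with
    | mem a ha =>
      rcases ha with rfl | ha
      · exact hdp
      · exact hA.2.1.2 a ha
    | one => exact one_pow p
    | mul a b ha hb iha ihb =>
      have : Commute a b := congrArg Subtype.val (hcB.is_comm.comm ⟨a, ha⟩ ⟨b, hb⟩)
      rw [this.mul_pow, iha, ihb, one_mul]
    | inv a _ iha => rw [inv_pow, iha, inv_one]
  haveI := finite_of_le (S := P) hBP
  have hAB : A ≤ B := fun a ha => Subgroup.subset_closure (Set.mem_insert_of_mem d ha)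
  have he : A = B := Subgroup.eq_of_le_of_card_ge hAB (hA.2.2 B hBP hBe)
  exact le_sSup (s := maxElem p P) hA (he.symm ▸ Subgroup.subset_closure (Set.mem_insert d _))

theorem thompsonSubgroup_map_equiv {X Y : Type u} [Group X] [Group Y] (e : X ≃* Y) :
    (Cfsg.thompsonSubgroup p X).map e.toMonoidHom = Cfsg.thompsonSubgroup p Y := by
  have key : ∀ {X Y : Type u} [Group X] [Group Y] (e : X ≃* Y),
      (Cfsg.thompsonSubgroup p X).map e.toMonoidHom ≤ Cfsg.thompsonSubgroup p Y := by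
    intro X Y _ _ e
    refine Subgroup.map_le_iff_le_comap.2 (sSup_le fun A hA => Subgroup.map_le_iff_le_comap.1
      (le_sSup ⟨isEA_map _ hA.1, fun B hB => ?_⟩))
    rw [Subgroup.card_map_of_injective (f := e.toMonoidHom) e.injective,
      ← Subgroup.card_map_of_injective (K := B) (f := e.symm.toMonoidHom) e.symm.injective]
    exact hA.2 _ (isEA_map _ hB)
  refine le_antisymm (key e) fun y hy => ⟨e.symm y, key e.symm ⟨y, hy, rfl⟩, e.apply_symm_apply y⟩

variable {S : Subgroup Ω} {F : Cfsg.FusionSystem S}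

/-- Maps of a system carry Thompson subgroups to Thompson subgroups. -/
theorem thompson_image {P Q : Subgroup Ω} {f : Ω → Ω} (h : IsIso F P Q f) :
    IsIso F (Cfsg.thompsonSubgroupOf p P) (Cfsg.thompsonSubgroupOf p Q) f := by
  refine ⟨h.isMap.mono (thompson_le p P), Set.ext fun y => ?_⟩
  constructor
  · rintro ⟨_, ⟨x, hx, rfl⟩, rfl⟩
    exact ⟨h.equiv x, (thompsonSubgroup_map_equiv h.equiv).le ⟨x, hx, rfl⟩, h.coe_equiv x⟩
  · rintro ⟨z, hz, rfl⟩
    obtain ⟨x, hx, rfl⟩ := (thompsonSubgroup_map_equiv h.equiv).ge hz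
    exact ⟨x, ⟨x, hx, rfl⟩, (h.coe_equiv x).symm⟩

/-- The normalizer of `P` in `S` normalizes `J(P)`. -/
theorem normalizerIn_le_thompson [Finite S] (F : Cfsg.FusionSystem S) {P : Subgroup Ω} (hP : P ≤ S) :
    Cfsg.FusionSystem.normalizerIn S P ≤
      Cfsg.FusionSystem.normalizerIn S (Cfsg.thompsonSubgroupOf p P) := by
  intro x hx
  haveI := finite_of_le hP
  haveI := finite_of_le ((thompson_le p P).trans hP)
  refine ⟨hx.1, mem_normalizer_of_maps fun y hy => ?_⟩
  have hi : IsIso F P P (conjMap x) := ⟨isMap_conj F hP hx.1,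
    (isMap_conj F hP hx.1).image_eq_of_mapsTo fun z hz => conj_mem_of_mem_normalizerIn hx hz⟩
  exact (thompson_image hi).mem hy

end Cfsg.Agent.H91
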