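import Mathlib.GroupTheory.PGroup
import Mathlib.GroupTheory.Sylow
import Mathlib.GroupTheory.Nilpotent
import Mathlib.Algebra.BigOperators.Group.Finset.Basic
import Mathlib.Algebra.GroupWithZero.Action.Basic
import Mathlib.GroupTheory.GroupAction.Quotient
import Mathlib.Algebra.BigOperators.Intervals

/-!
Fixed points of a finite group on an abelian group, seen from a Sylow subgroup: the norm map from the
fixed points of a subgroup, and the fixed point theorem for a weakly closed subgroup generated by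
quadratic elements (odd prime).
-/

set_option autoImplicit false

namespace Cfsg.Agent.H91

open MulAction

variable {H V : Type*} [Group H] [CommGroup V] [MulDistribMulAction H V]

section Norm

variable (P : Subgroup H) [Fintype (H ⧸ P)]

/-- The conjugate of a `P`-fixed element attached to a coset of `P`. -/
noncomputable def cosetPt (x : V) (q : H ⧸ P) : V := q.out • x

theorem cosetPt_mk {x : V} (hx : ∀ a ∈ P, a • x = x) (g : H) :
    cosetPt P x (QuotientGroup.mk g) = g • x := by
  obtain ⟨a, ha⟩ := QuotientGroup.mk_out_eq_mul P g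
  rw [cosetPt, ha, mul_smul, hx a a.2]

theorem smul_cosetPt {x : V} (hx : ∀ a ∈ P, a • x = x) (g : H) (q : H ⧸ P) :
    g • cosetPt P x q = cosetPt P x (g • q) := by
  obtain ⟨k, rfl⟩ := QuotientGroup.mk_surjective q
  rw [show g • (QuotientGroup.mk k : H ⧸ P) = QuotientGroup.mk (g * k) from rfl, cosetPt_mk P hx,
    cosetPt_mk P hx, mul_smul]

/-- The norm from `P`-fixed points to `H`-fixed points. -/
noncomputable def normMap (x : V) : V := ∏ q : H ⧸ P, cosetPt P x q

theorem smul_normMap {x : V} (hx : ∀ a ∈ P, a • x = x) (g : H) :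
    g • normMap P x = normMap P x := by
  rw [normMap, Finset.smul_prod']
  simp only [smul_cosetPt P hx]
  exact Equiv.prod_comp (MulAction.toPerm g) (cosetPt P x)

theorem normMap_mul (x y : V) : normMap P (x * y) = normMap P x * normMap P y := by
  simp only [normMap, cosetPt, smul_mul', Finset.prod_mul_distrib]

theorem normMap_one : normMap P (1 : V) = 1 := by
  simp only [normMap, cosetPt, smul_one, Finset.prod_const_one]

theorem normMap_of_fixed {x : V} (hx : ∀ g : H, g • x = x) : normMap P x = x ^ P.index := by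
  simp only [normMap, cosetPt, hx, Finset.prod_const, Finset.card_univ, Subgroup.index,
    Nat.card_eq_fintype_card]

end Norm

theorem fixed_of_pow_fixed {x : V} {n : ℕ} (hn : (orderOf x).Coprime n) {g : H}
    (h : g • x ^ n = x ^ n) : g • x = x := by
  obtain ⟨m, hm⟩ := exists_pow_eq_self_of_coprime hn.symm
  rw [← hm, smul_pow', h]

theorem orderOf_coprime {p n : ℕ} [Fact p.Prime] (hn : ¬ p ∣ n) {x : V} {k : ℕ}
    (hx : x ^ p ^ k = 1) : (orderOf x).Coprime n :=
  Nat.Coprime.coprime_dvd_left (orderOf_dvd_of_pow_eq_one hx)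
    (Nat.Coprime.pow_left k ((Nat.Prime.coprime_iff_not_dvd Fact.out).2 hn))

variable [Finite H]

/-- The `H`-fixed points are a direct factor of the `P`-fixed points, `P` of index prime to `p`, on an
abelian `p`-group. -/
theorem exists_fixed_complement {p : ℕ} [Fact p.Prime] (hV : ∀ x : V, ∃ k, x ^ p ^ k = 1)
    (P : Subgroup H) (hP : ¬ p ∣ P.index) :
    ∃ K : Subgroup V, (∀ x ∈ K, ∀ a ∈ P, a • x = x) ∧
      (∀ x ∈ K, (∀ g : H, g • x = x) → x = 1) ∧
      ∀ x : V, (∀ a ∈ P, a • x = x) → ∃ z : V, (∀ g : H, g • z = z) ∧ x * z⁻¹ ∈ K := by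
  classical
  have := Fintype.ofFinite (H ⧸ P)
  let K : Subgroup V :=
    { carrier := {x | (∀ a ∈ P, a • x = x) ∧ normMap P x = 1}
      one_mem' := ⟨fun a _ => smul_one a, normMap_one P⟩
      mul_mem' := fun {x y} hx hy => ⟨fun a ha => by rw [smul_mul', hx.1 a ha, hy.1 a ha],
        by rw [normMap_mul, hx.2, hy.2, one_mul]⟩
      inv_mem' := fun {x} hx => ⟨fun a ha => by rw [smul_inv', hx.1 a ha], by
        have h := normMap_mul P x⁻¹ x
        rw [inv_mul_cancel, normMap_one, hx.2, mul_one] at h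
        exact h.symm⟩ }
  refine ⟨K, fun x hx => hx.1, fun x hx hfix => ?_, fun x hx => ?_⟩
  · obtain ⟨k, hk⟩ := hV x
    have h1 : x ^ P.index = 1 := by rw [← normMap_of_fixed P hfix, hx.2]
    exact orderOf_eq_one_iff.1 (Nat.eq_one_of_dvd_coprimes (orderOf_coprime hP hk) dvd_rfl
      (orderOf_dvd_of_pow_eq_one h1))
  · obtain ⟨k, hk⟩ := hV (normMap P x)
    obtain ⟨m, hm⟩ := exists_pow_eq_self_of_coprime (orderOf_coprime hP hk).symm
    have hz : ∀ g : H, g • normMap P x ^ m = normMap P x ^ m := fun g => by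
      rw [smul_pow', smul_normMap P hx]
    refine ⟨normMap P x ^ m, hz, fun a ha => by rw [smul_mul', smul_inv', hx a ha, hz a], ?_⟩
    have h1 : normMap P (x * (normMap P x ^ m)⁻¹) = normMap P x * ((normMap P x ^ m) ^ P.index)⁻¹ := by
      rw [normMap_mul, normMap_of_fixed P (x := (normMap P x ^ m)⁻¹) (fun g => by rw [smul_inv', hz g]), inv_pow]
    rw [h1, ← pow_mul, mul_comm m, pow_mul, hm, mul_inv_cancel]

/-- An element fixed modulo elements of order `p` by `H` is fixed, provided the elements of order `p`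
fixed by its stabilizer are fixed by `H`, and the stabilizer has index prime to `p`. -/
theorem fixed_of_elementary {p : ℕ} [Fact p.Prime] (P : Subgroup H) (hP : ¬ p ∣ P.index) {x : V}
    (hord : ∃ k, x ^ p ^ k = 1) (hxP : ∀ a ∈ P, a • x = x) (hxp : ∀ g : H, g • x ^ p = x ^ p)
    (hel : ∀ w : V, w ^ p = 1 → (∀ g : H, g • x = x → g • w = w) → ∀ g : H, g • w = w) :
    ∀ g : H, g • x = x := by
  classical
  have := Fintype.ofFinite (H ⧸ P)
  set w := normMap P x * (x ^ P.index)⁻¹ with hw
  have h1 : w ^ p = 1 := by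
    have : normMap P x ^ p = normMap P (x ^ p) := by
      simp only [normMap, cosetPt, smul_pow', Finset.prod_pow]
    rw [hw, mul_pow, this, normMap_of_fixed P hxp, inv_pow, ← pow_mul, ← pow_mul, mul_comm p,
      mul_inv_cancel]
  have h2 : ∀ g : H, g • w = w := hel w h1 fun g hg => by
    rw [hw, smul_mul', smul_inv', smul_pow', smul_normMap P hxP, hg]
  intro g
  obtain ⟨k, hk⟩ := hord
  refine fixed_of_pow_fixed (orderOf_coprime hP hk) ?_
  have h3 : x ^ P.index = w⁻¹ * normMap P x := by
    rw [hw, mul_inv_rev, inv_inv, mul_assoc, inv_mul_cancel, mul_one]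
  rw [h3, smul_mul', smul_inv', h2 g, smul_normMap P hxP]

omit [Finite H] in
theorem smul_prod_range_eq_one {p : ℕ} (hodd : Odd p) {a : H} {y d : V} (hd : a • d = d)
    (hy : a • y = y * d) (hyp : y ^ p = 1) (hdp : d ^ p = 1) :
    ∏ i ∈ Finset.range p, a ^ i • y = 1 := by
  have hi : ∀ i : ℕ, a ^ i • y = y * d ^ i := by
    intro i
    induction i with
    | zero => simp
    | succ i ih => rw [pow_succ', mul_smul, ih, smul_mul', smul_pow', hd, hy, mul_assoc, ← pow_succ']
  simp only [hi, Finset.prod_mul_distrib, Finset.prod_const, Finset.card_range,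
    hyp, one_mul]
  rw [Finset.prod_pow_eq_pow_sum]
  obtain ⟨k, hk⟩ := hodd
  have hsum : ∑ i ∈ Finset.range p, i = p * k := by
    have h2 := Finset.sum_range_id_mul_two p
    have h3 : p * (p - 1) = p * k * 2 := by rw [mul_assoc, hk]; congr 1; omega
    omega
  rw [hsum, pow_mul, hdp, one_pow]

/-- `a` acts quadratically on the elements of order dividing `p`. -/
def IsQuadratic (p : ℕ) (V : Type*) [CommGroup V] [MulDistribMulAction H V] (a : H) : Prop :=
  ∀ y : V, y ^ p = 1 → a • (y⁻¹ * a • y) = y⁻¹ * a • y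

/-- Fixed point theorem: `W ≤ P` is generated by elements of order dividing `p` acting quadratically and
every element conjugating `W` into `P` fixes `w`; then `H` fixes `w` (`p` odd, `P` of index prime to `p`). -/
theorem fixed_of_quadratic {p : ℕ} [Fact p.Prime] (hodd : p ≠ 2) (P : Subgroup H)
    (hP : ¬ p ∣ P.index) (hPp : IsPGroup p P) {w : V} (hwp : w ^ p = 1)
    (hwP : ∀ a ∈ P, a • w = w) (A : Set H) (hAP : A ⊆ P) (hAord : ∀ a ∈ A, a ^ p = 1)
    (hAq : ∀ a ∈ A, IsQuadratic p V a)
    (hctrl : ∀ g : H, (∀ a ∈ A, g⁻¹ * a * g ∈ P) → g • w = w) :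
    ∀ g : H, g • w = w := by
  classical
  have := Fintype.ofFinite (H ⧸ P)
  let W := Subgroup.closure A
  have hWP : W ≤ P := (Subgroup.closure_le P).2 hAP
  have hWp : IsPGroup p W := hPp.to_le hWP
  have hpodd : Odd p := (Fact.out : p.Prime).odd_of_ne_two hodd
  have := Fintype.ofFinite (orbitRel.Quotient W (H ⧸ P))
  -- the points moved by `W` contribute trivially
  have hpt : ∀ q, (cosetPt P w q) ^ p = 1 := fun q => by rw [cosetPt, ← smul_pow', hwp, smul_one]
  have horb : ∀ q : H ⧸ P, q ∉ fixedPoints W (H ⧸ P) →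
      ∏ r ∈ (MulAction.orbit W q).toFinset, cosetPt P w r = 1 := by
    intro q hq
    obtain ⟨U, hU, hstab⟩ : ∃ U : Subgroup W, IsCoatom U ∧ stabilizer W q ≤ U := by
      have hne : stabilizer W q ≠ ⊤ := fun h => hq fun v => MulAction.mem_stabilizer_iff.1 (h.symm ▸ Subgroup.mem_top v)
      obtain ⟨U, hU, hle⟩ := (eq_top_or_exists_le_coatom (stabilizer W q)).resolve_left hne
      exact ⟨U, hU, hle⟩
    have hUn : U.Normal :=
      haveI := IsPGroup.isNilpotent hWp
      Subgroup.NormalizerCondition.normal_of_coatom U normalizerCondition_of_isNilpotent hU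
    obtain ⟨a, haA, haU⟩ : ∃ a, ∃ ha : a ∈ A, (⟨a, Subgroup.subset_closure ha⟩ : W) ∉ U := by
      by_contra hcon
      push Not at hcon
      refine hU.1 (eq_top_iff.2 fun v _ => ?_)
      have : W ≤ U.map W.subtype :=
        (Subgroup.closure_le _).2 fun a ha => ⟨_, hcon a ha, rfl⟩
      obtain ⟨u, hu, he⟩ := this v.2
      exact Subtype.ext he ▸ hu
    set a' : W := ⟨a, Subgroup.subset_closure haA⟩ with ha'
    have hap : a' ^ p = 1 := Subtype.ext (hAord a haA)
    have hcard : orderOf (QuotientGroup.mk' U a') = p := by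
      refine orderOf_eq_prime ?_ ?_
      · rw [← map_pow, hap, map_one]
      · rwa [Ne, QuotientGroup.mk'_apply, QuotientGroup.eq_one_iff]
    -- decompose the orbit along powers of `a'`
    have hgen : ∀ v : W, ∃ i < p, (a' ^ i)⁻¹ * v ∈ U := by
      intro v
      have hsup : Subgroup.zpowers a' ⊔ U = ⊤ :=
        hU.2 _ (lt_of_le_of_ne le_sup_right fun h => haU (h.symm ▸ Subgroup.mem_sup_left
          (Subgroup.mem_zpowers a')))
      obtain ⟨b, hb, u, hu, rfl⟩ := Subgroup.mem_sup_of_normal_right.1 (hsup ▸ Subgroup.mem_top v)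
      obtain ⟨i, rfl⟩ := (isOfFinOrder_of_finite a').mem_zpowers_iff_mem_range_orderOf.1 hb |>
        fun h => (by simpa using h : ∃ i, i < orderOf a' ∧ a' ^ i = b) |>
        fun ⟨i, _, h⟩ => (⟨i, h.symm⟩ : ∃ i, b = a' ^ i)
      refine ⟨i % p, Nat.mod_lt _ (Fact.out : p.Prime).pos, ?_⟩
      rw [show a' ^ (i % p) = a' ^ i from (pow_eq_pow_mod i hap).symm, inv_mul_cancel_left]
      exact hu
    set O := (MulAction.orbit U q).toFinset with hO
    have hdec : (MulAction.orbit W q).toFinset =
        (Finset.range p).biUnion fun i => O.image fun r => a' ^ i • r := by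
      ext r
      simp only [Set.mem_toFinset, Finset.mem_biUnion, Finset.mem_image, Finset.mem_range, hO]
      constructor
      · rintro ⟨v, rfl⟩
        obtain ⟨i, hi, hu⟩ := hgen v
        refine ⟨i, hi, ((a' ^ i)⁻¹ * v) • q, ⟨⟨_, hu⟩, rfl⟩, ?_⟩
        show a' ^ i • ((a' ^ i)⁻¹ * v) • q = v • q
        rw [← mul_smul, mul_inv_cancel_left]
      · rintro ⟨i, -, _, ⟨u, rfl⟩, rfl⟩
        exact ⟨a' ^ i * u.1, mul_smul _ _ _⟩
    have hdisj : Set.PairwiseDisjoint (Finset.range p : Set ℕ) fun i => O.image fun r => a' ^ i • r := by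
      intro i hi j hj hij
      rw [Function.onFun, Finset.disjoint_left]
      intro r hr1 hr2
      simp only [Finset.mem_image, hO, Set.mem_toFinset] at hr1 hr2
      obtain ⟨_, ⟨u1, rfl⟩, h1⟩ := hr1
      obtain ⟨_, ⟨u2, rfl⟩, h2⟩ := hr2
      have h3 : ((a' ^ i * u1.1)⁻¹ * (a' ^ j * u2.1)) • q = q := by
        rw [mul_smul, inv_smul_eq_iff, mul_smul, mul_smul]
        exact h2.trans h1.symm
      have h4 := hstab h3
      have h5 : QuotientGroup.mk' U a' ^ i = QuotientGroup.mk' U a' ^ j := by
        have h6 : QuotientGroup.mk' U ((a' ^ i * u1.1)⁻¹ * (a' ^ j * u2.1)) = 1 :=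
          (QuotientGroup.eq_one_iff _).2 h4
        have hu1 : QuotientGroup.mk' U u1.1 = 1 := (QuotientGroup.eq_one_iff _).2 u1.2
        have hu2 : QuotientGroup.mk' U u2.1 = 1 := (QuotientGroup.eq_one_iff _).2 u2.2
        rw [map_mul, map_inv, map_mul, map_mul, hu1, hu2, mul_one, mul_one, map_pow, map_pow,
          inv_mul_eq_one] at h6
        exact h6
      rw [pow_eq_pow_iff_modEq, hcard] at h5
      simp only [Finset.coe_range, Set.mem_Iio] at hi hj
      exact hij (Nat.ModEq.eq_of_lt_of_lt h5 hi hj)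
    set y := ∏ r ∈ O, cosetPt P w r with hy
    have hterm : ∀ i, ∏ r ∈ O.image (fun r => a' ^ i • r), cosetPt P w r = a ^ i • y := by
      intro i
      rw [Finset.prod_image fun r _ s _ h => smul_left_cancel _ h, hy, Finset.smul_prod']
      exact Finset.prod_congr rfl fun r _ => (smul_cosetPt P hwP _ r).symm
    rw [hdec, Finset.prod_biUnion hdisj, Finset.prod_congr rfl fun i _ => hterm i]
    have hyp : y ^ p = 1 := by rw [hy, ← Finset.prod_pow]; simp [hpt]
    refine smul_prod_range_eq_one hpodd (hAq a haA y hyp) (mul_inv_cancel_left _ _).symm hyp ?_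
    rw [mul_pow, inv_pow, ← smul_pow', hyp, smul_one, inv_one, one_mul]
  have hfix : ∀ q ∈ fixedPoints W (H ⧸ P), cosetPt P w q = w := by
    intro q hq
    obtain ⟨g, rfl⟩ := QuotientGroup.mk_surjective q
    rw [cosetPt_mk P hwP]
    refine hctrl g fun a ha => ?_
    have h : (QuotientGroup.mk (a * g) : H ⧸ P) = QuotientGroup.mk g :=
      hq (⟨a, Subgroup.subset_closure ha⟩ : W)
    have := QuotientGroup.eq.1 h.symm
    rwa [← mul_assoc] at this
  have hnorm : normMap P w = w ^ (fixedPoints W (H ⧸ P)).toFinset.card := by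
    rw [normMap, ← Finset.prod_filter_mul_prod_filter_not Finset.univ (fun q => q ∈ fixedPoints W (H ⧸ P))]
    have e1 : Finset.univ.filter (fun q => q ∈ fixedPoints W (H ⧸ P)) = (fixedPoints W (H ⧸ P)).toFinset := by
      ext; simp
    rw [e1, Finset.prod_congr rfl fun q hq => hfix q (Set.mem_toFinset.1 hq), Finset.prod_const]
    convert mul_one _
    rw [← Finset.prod_fiberwise (Finset.univ.filter fun q => q ∉ fixedPoints W (H ⧸ P))
      (fun q => (Quotient.mk'' q : orbitRel.Quotient W (H ⧸ P)))]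
    refine Finset.prod_eq_one fun o _ => ?_
    induction o using Quotient.inductionOn' with
    | h q =>
      by_cases hq : q ∈ fixedPoints W (H ⧸ P)
      · refine Finset.prod_eq_one fun r hr => absurd hq ?_
        simp only [Finset.mem_filter, Finset.mem_univ, true_and] at hr
        intro hq'
        obtain ⟨v, rfl⟩ : r ∈ MulAction.orbit W q := Quotient.eq''.1 hr.2
        exact hr.1 (by simpa [hq' v] using hq')
      · rw [← horb q hq]
        refine Finset.prod_congr ?_ fun _ _ => rfl
        ext r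
        simp only [Finset.mem_filter, Finset.mem_univ, true_and, Set.mem_toFinset]
        refine ⟨fun h => Quotient.eq''.1 h.2, fun h => ⟨?_, Quotient.eq''.2 h⟩⟩
        obtain ⟨v, rfl⟩ := h
        intro hr
        have h2 := hr v⁻¹
        rw [inv_smul_smul] at h2
        exact hq (h2.symm ▸ hr)
  have hcop : ¬ p ∣ (fixedPoints W (H ⧸ P)).toFinset.card := by
    have := hWp.card_modEq_card_fixedPoints (H ⧸ P)
    rw [Set.toFinset_card, ← Nat.card_eq_fintype_card]
    intro hd
    exact hP (Nat.modEq_zero_iff_dvd.1 (this.trans (Nat.modEq_zero_iff_dvd.2 hd)))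
  intro g
  refine fixed_of_pow_fixed (orderOf_coprime hcop (k := 1) (by rwa [pow_one])) ?_
  rw [← hnorm, smul_normMap P hwP]

end Cfsg.Agent.H91
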