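import Cfsg.Agent.FusionSys.Alperin

/-!
Saturated fusion systems on abelian `p`-groups.
-/

set_option autoImplicit false

namespace Cfsg.Agent.H91

open Cfsg Cfsg.FusionSystem Cfsg.Agent.FusionSys

variable {Ω : Type*} [Group Ω] {S : Subgroup Ω} [Finite S] {p : ℕ} [Fact p.Prime] {F : FusionSystem S}

/-- Over an abelian group every map is the restriction of an automorphism of `S`. -/
theorem exists_aut_of_abelian (hS : IsPGroup p S) (hF : F.IsSaturated p)
    (hab : ∀ x ∈ S, ∀ y ∈ S, x * y = y * x) {P : Subgroup Ω} {f : Ω → Ω} (hf : IsMap F P f) :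
    ∃ α ∈ F.autGroup S, ∀ x ∈ P, autMap α x = f x := by
  have hC : ∀ Q : Subgroup Ω, Q ≤ S → centralizerIn S Q = S := fun Q hQ =>
    le_antisymm centralizerIn_le fun x hx =>
      FusionSys.mem_centralizerIn.2 ⟨hx, fun y hy => hab y (hQ hy) x hx⟩
  have hQ : imgSub f P ≤ S := hf.imgSub_le
  have hfc : F.IsFullyCentralized (imgSub f P) :=
    ⟨hQ, fun R hR => by rw [hC _ hQ, hC _ (le_of_isConj_right hR)]⟩
  obtain ⟨g, hg, he⟩ := receptive_extend (receptive_of_isFullyCentralized hS hF hfc) hf.isIso (N := S)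
    fun x hx => hf.inExt_of_centralizes (show x ∈ centralizerIn S P by rw [hC P hf.le]; exact hx)
  rw [sup_eq_left.2 hf.le] at hg
  obtain ⟨α, hα, hαe⟩ := (IsIso.mk hg (hg.image_eq_of_mapsTo fun x hx => hg.mem_S hx)).exists_aut
  exact ⟨α, hα, fun x hx => by rw [hαe x (hf.le hx), he x hx]⟩

/-- The automorphism group of an abelian `S` has order prime to `p`. -/
theorem coprime_card_autGroup_of_abelian (hS : IsPGroup p S) (hF : F.IsSaturated p)
    (hab : ∀ x ∈ S, ∀ y ∈ S, x * y = y * x) : (Nat.card (F.autGroup S)).Coprime p := by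
  haveI := finite_autGroup F (le_refl S)
  obtain ⟨-, T, hT⟩ := isFullyAutomized_of_isFullyNormalized hS hF (isFullyNormalized_S F)
  refine (Fact.out : p.Prime).coprime_iff_not_dvd.2 (fun h => ?_) |>.symm
  have hb : (T : Subgroup (F.autGroup S)) = ⊥ := by
    refine (Subgroup.eq_bot_iff_forall _).2 fun β hβ => ?_
    rw [hT] at hβ
    obtain ⟨s, hs, hsn, hse⟩ := mem_autInducedBy.1 (Subgroup.mem_subgroupOf.1 hβ)
    refine Subtype.ext (aut_ext fun y hy => ?_)
    rw [hse, autMap_conjAut hsn hy, conjMap_apply, hab s hs y hy, mul_inv_cancel_right,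
      Subgroup.coe_one, autMap_apply _ hy]
    rfl
  exact T.not_dvd_index (by rwa [hb, Subgroup.index_bot])

end Cfsg.Agent.H91
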