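import Cfsg.Prelude.Def_TwoFusion
import Cfsg.Agent.H91.CentFocal.Basic

/-!
The subsystems on a strongly closed direct factor of a saturated fusion system.
-/

set_option autoImplicit false
set_option linter.style.haveILetI false

namespace Cfsg.Agent.H91.DirectSys

open Cfsg Cfsg.FusionSystem Cfsg.Agent.FusionSys Cfsg.Agent.H91.CentFocal
open Cfsg.FusionSystem (centralizerIn normalizerIn)

variable {Ω : Type*} [Group Ω] {S S₁ S₂ C : Subgroup Ω} {F : FusionSystem S} {p : ℕ}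

theorem isMap_iff_of_hom {D : FusionSystem C} {R : FusionSystem S₁}
    (hR : ∀ P : Subgroup Ω, P ≤ S₁ → R.Hom P = D.Hom P) {P : Subgroup Ω} {f : Ω → Ω} :
    IsMap R P f ↔ P ≤ S₁ ∧ IsMap D P f := by
  constructor
  · intro h
    obtain ⟨φ, hφ, hf⟩ := h
    have hP : P ≤ S₁ := (R.le_of_mem hφ).1
    exact ⟨hP, φ, hR P hP ▸ hφ, hf⟩
  · rintro ⟨hP, φ, hφ, hf⟩
    exact ⟨φ, (hR P hP).symm ▸ hφ, hf⟩

theorem restrict_saturated [Finite C] [Fact p.Prime] (hC : IsPGroup p C) {D : FusionSystem C}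
    (hD : D.IsSaturated p) {R : FusionSystem S₁} (hR : ∀ P : Subgroup Ω, P ≤ S₁ → R.Hom P = D.Hom P)
    (h₁ : D.StronglyClosed S₁)
    (hdec : ∀ c ∈ C, ∃ a ∈ S₁, ∃ b ∈ C, (∀ x ∈ S₁, b * x = x * b) ∧ c = a * b) :
    R.IsSaturated p := by
  intro P hP
  obtain ⟨Q, hPQ, hQn⟩ := exists_isFullyNormalized D (hP.trans h₁.1)
  obtain ⟨u, hu⟩ := isConj_iff.1 hPQ
  have hQ : Q ≤ S₁ := target_le_of_closed h₁ hP hu
  refine ⟨Q, isConj_iff.2 ⟨u, (isMap_iff_of_hom hR).2 ⟨hP, hu.isMap⟩, hu.image_eq⟩, ?_, ?_⟩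
  · have haut : R.autGroup Q = D.autGroup Q := by
      ext α
      rw [mem_autGroup_iff hQ, mem_autGroup_iff hQn.1, isMap_iff_of_hom hR]
      exact and_iff_right hQ
    have hind : autInducedBy S₁ Q = autInducedBy C Q := by
      refine _root_.le_antisymm (fun α hα => ?_) (fun α hα => ?_)
      · obtain ⟨x, hx, hxn, rfl⟩ := mem_autInducedBy.1 hα
        exact mem_autInducedBy.2 ⟨x, h₁.1 hx, hxn, rfl⟩
      · obtain ⟨x, hx, hxn, rfl⟩ := mem_autInducedBy.1 hα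
        obtain ⟨a, ha, b, -, hbc, rfl⟩ := hdec x hx
        haveI : Finite Q := finite_of_le (S := C) hQn.1
        have hconj : ∀ y ∈ Q, a * y * a⁻¹ = a * b * y * (a * b)⁻¹ := fun y hy => by
          rw [mul_assoc a b y, hbc y (hQ hy)]; group
        have han : a ∈ Subgroup.normalizer (Q : Set Ω) := mem_normalizer_of_maps fun y hy =>
          (hconj y hy).symm ▸ (Subgroup.mem_normalizer_iff.1 hxn y).1 hy
        refine mem_autInducedBy.2 ⟨a, ha, han, aut_ext fun y hy => ?_⟩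
        rw [autMap_conjAut _ hy, autMap_conjAut _ hy, conjMap_apply, conjMap_apply, hconj y hy]
    obtain ⟨hQC, Sy, hSy⟩ := isFullyAutomized_of_isFullyNormalized hC hD hQn
    refine ⟨hQ, ?_⟩
    rw [haut, hind]
    exact ⟨Sy, hSy⟩
  · refine receptive_of_extend hQ fun A f N hf hAN hN => ?_
    have hfD : IsIso D A Q f := ⟨((isMap_iff_of_hom hR).1 hf.isMap).2, hf.image_eq⟩
    obtain ⟨g, hg, hge⟩ := receptive_extend (receptive_of_isFullyNormalized hC hD hQn) hfD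
      (N := N) fun x hx => by
        obtain ⟨hx1, hx2, h, hh, he⟩ := (hN x).1 hx
        exact ⟨h₁.1 hx1, hx2, h, h₁.1 hh, he⟩
    exact ⟨g, (isMap_iff_of_hom hR).2 ⟨fun x hx => ((hN x).1 hx).1, hg.mono le_sup_left⟩, hge⟩

variable [Finite S] [Fact p.Prime] (hS : IsPGroup p S) (hF : F.IsSaturated p)
  (hprod : Cfsg.IsInternalDirectProduct S₁ S₂ S) (h₁ : F.StronglyClosed S₁) (h₂ : F.StronglyClosed S₂)

include hprod in
omit [Finite S] in
theorem exists_dec {c : Ω} (hc : c ∈ S) : ∃ a ∈ S₁, ∃ b ∈ S₂, c = a * b := by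
  obtain ⟨-, -, hcomm, -, hsup⟩ := hprod
  have hn : S₁ ≤ Subgroup.normalizer (S₂ : Set Ω) := fun a ha =>
    Subgroup.mem_normalizer_iff.2 fun b => by
      refine ⟨fun hb => ?_, fun hb => ?_⟩
      · rwa [hcomm a ha b hb, mul_inv_cancel_right]
      · have h := hcomm a ha _ hb
        have : b = a * b * a⁻¹ :=
          calc b = a⁻¹ * (a * b * a⁻¹ * a) := by group
            _ = a⁻¹ * (a * (a * b * a⁻¹)) := by rw [h]
            _ = _ := by group
        rwa [this]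
  rw [← hsup, ← SetLike.mem_coe, Subgroup.coe_mul_of_left_le_normalizer_right _ _ hn] at hc
  obtain ⟨a, ha, b, hb, rfl⟩ := Set.mem_mul.1 hc
  exact ⟨a, ha, b, hb, rfl⟩

include hprod in
omit [Finite S] in
theorem le_centralizer_right : S₁ ≤ centralizerIn S S₂ := fun a ha =>
  FusionSys.mem_centralizerIn.2 ⟨hprod.1 ha, fun b hb => (hprod.2.2.1 a ha b hb).symm⟩

include hS hF hprod h₁ h₂ in
theorem main (R R' : FusionSystem S₁) (hR : ∀ P : Subgroup Ω, P ≤ S₁ → R.Hom P = F.Hom P)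
    (hR' : ∀ P : Subgroup Ω, P ≤ S₁ → R'.Hom P = F.centralizerHom S₂ P) :
    R.IsSaturated p ∧ R'.IsSaturated p ∧ R'.IsNormalIn F p ∧ R'.IsNormalIn R p ∧
      R.IsWeaklyNormalIn F p := by
  obtain ⟨hS₁, hS₂, hcomm, hinf, hsup⟩ := id hprod
  haveI : Finite S₁ := finite_of_le hS₁
  haveI : Finite S₂ := finite_of_le hS₂
  haveI : Finite (centralizerIn S S₂) := finite_of_le centralizerIn_le
  have hS₂c : F.IsFullyCentralized S₂ := by
    refine ⟨hS₂, fun Q hQ => ?_⟩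
    obtain ⟨f, hf⟩ := isConj_iff.1 hQ
    rw [Subgroup.eq_of_le_of_card_ge (target_le_of_closed h₂ le_rfl hf) hf.card_eq.le]
  have hS₁c : F.IsFullyCentralized S₁ := by
    refine ⟨hS₁, fun Q hQ => ?_⟩
    obtain ⟨f, hf⟩ := isConj_iff.1 hQ
    rw [Subgroup.eq_of_le_of_card_ge (target_le_of_closed h₁ le_rfl hf) hf.card_eq.le]
  set D := centSys F hS₂ with hDdef
  have hDs : D.IsSaturated p :=
    isSaturated_centralizer hS hF hS₂c (isCentralizerSystem_centSys F hS₂)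
  have hR'D : ∀ P : Subgroup Ω, P ≤ S₁ → R'.Hom P = D.Hom P := hR'
  have hDF : ∀ {P : Subgroup Ω} {f : Ω → Ω}, IsMap D P f → IsMap F P f := by
    rintro P f ⟨φ, hφ, hf⟩
    exact ⟨φ, hφ.1, hf⟩
  have hcl : ∀ {P : Subgroup Ω} {f : Ω → Ω}, IsMap F P f → P ≤ S₁ → ∀ x ∈ P, f x ∈ S₁ :=
    fun hf hP => (stronglyClosed_iff.1 h₁).2 _ _ hP hf
  have hDcl : D.StronglyClosed S₁ := stronglyClosed_iff.2
    ⟨le_centralizer_right hprod, fun A f hA hf => hcl (hDF hf) hA⟩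
  have hRs : R.IsSaturated p := restrict_saturated hS hF hR h₁ fun c hc => by
    obtain ⟨a, ha, b, hb, rfl⟩ := exists_dec hprod hc
    exact ⟨a, ha, b, hS₂ hb, fun x hx => (hcomm x hx b hb).symm, rfl⟩
  have hR's : R'.IsSaturated p := restrict_saturated (hS.to_le centralizerIn_le) hDs hR'D hDcl
    fun c hc => by
      obtain ⟨a, ha, b, hb, rfl⟩ := exists_dec hprod (centralizerIn_le hc)
      refine ⟨a, ha, b, ?_, fun x hx => (hcomm x hx b hb).symm, rfl⟩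
      have := mul_mem (inv_mem (le_centralizer_right hprod ha)) hc
      rwa [inv_mul_cancel_left] at this
  have hR'R : R'.IsSubsystemOf R := fun P φ hφ => by
    have hP := (R'.le_of_mem hφ).1
    rw [hR P hP]
    rw [hR' P hP] at hφ
    exact hφ.1
  have hR'F : R'.IsSubsystemOf F := fun P φ hφ => by
    have hP := (R'.le_of_mem hφ).1
    rw [hR' P hP] at hφ
    exact hφ.1
  have hRF : R.IsSubsystemOf F := fun P φ hφ => by
    have hP := (R.le_of_mem hφ).1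
    rwa [hR P hP] at hφ
  have hautR : ∀ α, α ∈ R.autGroup S₁ ↔ α ∈ F.autGroup S₁ := fun α => by
    rw [mem_autGroup_iff le_rfl, mem_autGroup_iff hS₁, isMap_iff_of_hom hR]
    exact and_iff_right le_rfl
  -- maps of `F` on subgroups of a factor extend to the product with the other factor
  have ext₁ : ∀ (α : MulAut S₁), α ∈ F.autGroup S₁ →
      ∃ g, IsMap F S g ∧ (∀ x ∈ S₁, g x = autMap α x) := by
    intro α hα
    obtain ⟨g, hg, hge⟩ := receptive_extend (receptive_of_isFullyCentralized hS hF hS₁c)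
      (isIso_autMap hS₁ hα) (N := S₂) fun b hb => (isIso_autMap hS₁ hα).isMap.inExt_of_centralizes
        (FusionSys.mem_centralizerIn.2 ⟨hS₂ hb, fun a ha => hcomm a ha b hb⟩)
    rw [sup_comm, hsup] at hg
    exact ⟨g, hg, hge⟩
  -- invariance of `R'`
  have inv' : ∀ (P : Subgroup Ω) (hPT : P ≤ S₁) (φ : P →* Ω), φ ∈ R'.Hom P → ∀ α ∈ F.autGroup S₁,
      ∃ χ ∈ R'.Hom ((P.subgroupOf S₁).map (S₁.subtype.comp α.toMonoidHom)),
        ∀ (x : P) (hφx : φ x ∈ S₁)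
          (hαx : ((α ⟨x, hPT x.2⟩ : S₁) : Ω) ∈ (P.subgroupOf S₁).map (S₁.subtype.comp α.toMonoidHom)),
          χ ⟨(α ⟨x, hPT x.2⟩ : S₁), hαx⟩ = ((α ⟨φ x, hφx⟩ : S₁) : Ω) := by
    intro P hPT φ hφ α hα
    have hf := ((isMap_iff_of_hom hR'D).1 (isMap_of_mem hφ)).2
    obtain ⟨-, hfC, g, hg, hge, hgb⟩ := (isMap_centSys_iff hS₂).1 hf
    obtain ⟨a, ha, hae⟩ := ext₁ α hα
    have ha₂ : ∀ b ∈ S₂, a b ∈ S₂ :=
      (stronglyClosed_iff.1 h₂).2 S₂ a le_rfl (ha.mono hS₂)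
    obtain ⟨v, hv, hva, -⟩ := (ha.mono hS₂).isIso.exists_symm
    have hS₂a : imgSub a S₂ = S₂ := (isIso_of_mapsTo (ha.mono hS₂) ha₂).eq_imgSub.symm
    obtain ⟨w, hw, hwa⟩ := ha.exists_inv
    set P' := (P.subgroupOf S₁).map (S₁.subtype.comp α.toMonoidHom) with hP'
    have hP'mem : ∀ y ∈ P', ∃ x ∈ P, a x = y := by
      rintro _ ⟨z, hz, rfl⟩
      exact ⟨z, hz, (hae z z.2).trans (autMap_coe α z)⟩
    have hP'T : P' ≤ S₁ := by
      rintro _ ⟨z, -, rfl⟩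
      exact (α z).2
    have hle : P' ⊔ S₂ ≤ imgSub a S := sup_le (fun y hy => by
        obtain ⟨x, hx, rfl⟩ := hP'mem y hy
        exact ha.mem_imgSub.2 ⟨x, hS₁ (hPT hx), rfl⟩)
      fun b hb => by
        rw [← hS₂a] at hb
        obtain ⟨b', hb', rfl⟩ := (ha.mono hS₂).mem_imgSub.1 hb
        exact ha.mem_imgSub.2 ⟨b', hS₂ hb', rfl⟩
    have hwim : ∀ y ∈ P' ⊔ S₂, w y ∈ P ⊔ S₂ := fun y hy => (hw.mono hle).mapsTo_sup
      (fun y hy => by
        obtain ⟨x, hx, rfl⟩ := hP'mem y hy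
        exact Subgroup.mem_sup_left ((hwa x (hS₁ (hPT hx))).symm ▸ hx))
      (fun b hb => by
        rw [← hS₂a] at hb
        obtain ⟨b', hb', rfl⟩ := (ha.mono hS₂).mem_imgSub.1 hb
        exact Subgroup.mem_sup_right ((hwa b' (hS₂ hb')).symm ▸ hb')) hy
    have hG : IsMap F (P' ⊔ S₂) (a ∘ (g ∘ w)) :=
      ((hw.mono hle).comp hg hwim).comp ha fun y hy => hg.mem_S (hwim y hy)
    have hval : ∀ x ∈ P, (a ∘ (g ∘ w)) (a x) = autMap α (homFun φ x) := fun x hx => by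
      have hφx : homFun φ x ∈ S₁ := (isMap_of_mem hφ).mem_S hx
      rw [Function.comp_apply, Function.comp_apply, hwa x (hS₁ (hPT hx)), hge x hx, hae _ hφx]
    have hχ : IsMap R' P' (a ∘ (g ∘ w)) := (isMap_iff_of_hom hR'D).2 ⟨hP'T,
      (isMap_centSys_iff hS₂).2 ⟨hP'T.trans (le_centralizer_right hprod),
        fun y hy => le_centralizer_right hprod (hcl (hG.mono le_sup_left) hP'T y hy),
        _, hG, fun _ _ => rfl, fun b hb => by
          rw [← hS₂a] at hb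
          obtain ⟨b', hb', rfl⟩ := (ha.mono hS₂).mem_imgSub.1 hb
          rw [Function.comp_apply, Function.comp_apply, hwa b' (hS₂ hb'), hgb b' hb']⟩⟩
    obtain ⟨χ, hχ', hχe⟩ := hχ
    refine ⟨χ, hχ', fun x hφx hαx => ?_⟩
    rw [hχe]
    show (a ∘ (g ∘ w)) ((α ⟨(x : Ω), hPT x.2⟩ : S₁) : Ω) = _
    rw [← autMap_apply α (hPT x.2), ← hae _ (hPT x.2), hval _ x.2, homFun_coe, autMap_apply α hφx]
  have fr' : ∀ (P : Subgroup Ω), P ≤ S₁ → ∀ (φ : P →* Ω), φ ∈ F.Hom P →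
      ∃ α ∈ F.autGroup S₁, ∃ φ₀ ∈ R'.Hom P, ∀ (x : P) (hx : φ₀ x ∈ S₁),
        φ x = ((α ⟨φ₀ x, hx⟩ : S₁) : Ω) := by
    intro P hP φ hφ
    have hf := isMap_of_mem hφ
    obtain ⟨Q, hQ, hQn⟩ := exists_isFullyNormalized F (hP.trans hS₁)
    obtain ⟨u, hu, hui, -⟩ := exists_map_to_fullyNormalized hS hF hQn hQ
    obtain ⟨u', hu', hu'i, -⟩ := exists_map_to_fullyNormalized hS hF hQn
      (isConj_trans (isConj_symm hf.isIso.isConj) hQ)
    have hS₂N : ∀ {A : Subgroup Ω}, A ≤ S₁ → S₂ ≤ centralizerIn S A := fun hA b hb =>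
      FusionSys.mem_centralizerIn.2 ⟨hS₂ hb, fun a ha => hcomm a (hA ha) b hb⟩
    have hQ₁ : Q ≤ S₁ := target_le_of_closed h₁ hP hui
    -- extend `φ` to `P ⊔ S₂`
    obtain ⟨k, hk, hke⟩ := receptive_extend (receptive_of_isFullyNormalized hS hF hQn)
      (hf.isIso.comp hu'i) (N := S₂)
      fun b hb => (hf.isIso.comp hu'i).isMap.inExt_of_centralizes (hS₂N hP hb)
    obtain ⟨v', hv', hv'u⟩ := hu'.exists_inv
    have hfP₁ : imgSub (homFun φ) P ≤ S₁ := target_le_of_closed h₁ hP hf.isIso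
    have hNu : imgSub (homFun φ) P ⊔ S₂ ≤ normalizerIn S (imgSub (homFun φ) P) :=
      sup_le (le_normalizerIn_self hf.imgSub_le) ((hS₂N hfP₁).trans centralizerIn_le_normalizerIn)
    have hu'₂ : imgSub u' S₂ = S₂ := (isIso_of_mapsTo (hu'.mono (le_sup_right.trans hNu))
      ((stronglyClosed_iff.1 h₂).2 S₂ u' le_rfl (hu'.mono (le_sup_right.trans hNu)))).eq_imgSub.symm
    have hle : Q ⊔ S₂ ≤ imgSub u' (normalizerIn S (imgSub (homFun φ) P)) := sup_le (fun y hy => by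
        obtain ⟨x, hx, rfl⟩ := hu'i.exists_preimage hy
        exact hu'.mem_imgSub.2 ⟨x, hNu (Subgroup.mem_sup_left hx), rfl⟩) fun b hb => by
      rw [← hu'₂] at hb
      obtain ⟨b', hb', rfl⟩ := (hu'.mono (le_sup_right.trans hNu)).mem_imgSub.1 hb
      exact hu'.mem_imgSub.2 ⟨b', hNu (Subgroup.mem_sup_right hb'), rfl⟩
    have hk' : IsMap F (P ⊔ S₂) k := sup_comm S₂ P ▸ hk
    have hkim : ∀ y ∈ P ⊔ S₂, k y ∈ Q ⊔ S₂ := fun y hy => hk'.mapsTo_sup
      (fun x hx => Subgroup.mem_sup_left ((hke x hx).symm ▸ (hf.isIso.comp hu'i).mem hx))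
      (fun b hb => Subgroup.mem_sup_right
        ((stronglyClosed_iff.1 h₂).2 S₂ k le_rfl (hk'.mono le_sup_right) b hb)) hy
    have hG : IsMap F (P ⊔ S₂) (v' ∘ k) := hk'.comp (hv'.mono hle) hkim
    have hGφ : ∀ x ∈ P, (v' ∘ k) x = homFun φ x := fun x hx => by
      rw [Function.comp_apply, hke x hx]
      exact hv'u _ (hNu (Subgroup.mem_sup_left (hf.isIso.mem hx)))
    -- split off the action on `S₂`
    have hG₂ := (stronglyClosed_iff.1 h₂).2 S₂ _ le_rfl (hG.mono le_sup_right)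
    obtain ⟨β, hβ, hβe⟩ := (isIso_of_mapsTo (hG.mono le_sup_right) hG₂).exists_aut
    obtain ⟨e, he, hee⟩ := receptive_extend (receptive_of_isFullyCentralized hS hF hS₂c)
      (isIso_autMap hS₂ (Subgroup.inv_mem _ hβ)) (N := S₁) fun a ha =>
        (isIso_autMap hS₂ (Subgroup.inv_mem _ hβ)).isMap.inExt_of_centralizes
          (le_centralizer_right hprod ha)
    rw [hsup] at he
    obtain ⟨a, ha, hae⟩ := he.exists_inv
    have he₁ : ∀ x ∈ S₁, e x ∈ S₁ := hcl (he.mono hS₁) le_rfl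
    obtain ⟨w, hw, hwe, hew⟩ := (isIso_of_mapsTo (he.mono hS₁) he₁).exists_symm
    obtain ⟨α, hα, hαe⟩ := hw.exists_aut
    have hH : IsMap F (P ⊔ S₂) (e ∘ (v' ∘ k)) := hG.comp he fun y hy => hG.mem_S hy
    have hHR : IsMap R' P (e ∘ (v' ∘ k)) := (isMap_iff_of_hom hR'D).2 ⟨hP,
      (isMap_centSys_iff hS₂).2 ⟨hP.trans (le_centralizer_right hprod),
        fun y hy => le_centralizer_right hprod (hcl (hH.mono le_sup_left) hP y hy),
        _, hH, fun _ _ => rfl, fun b hb => by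
          rw [Function.comp_apply, hee _ (hG₂ b hb), ← hβe b hb, ← autMap_mul _ _ hb, inv_mul_cancel,
            autMap_apply _ hb]
          rfl⟩⟩
    obtain ⟨φ₀, hφ₀, hφ₀e⟩ := hHR
    refine ⟨α, hα, φ₀, hφ₀, fun x hx => ?_⟩
    rw [← autMap_apply α hx, hαe _ hx, hφ₀e x, Function.comp_apply, hGφ x x.2, homFun_coe,
      hwe _ (by have := hcl hf hP x x.2; rwa [homFun_coe] at this)]
  have ext' : ∀ α ∈ R'.autGroup S₁, ∃ g, IsMap F S g ∧ (∀ x ∈ S₁, g x = autMap α x) ∧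
      ∀ b ∈ S₂, g b = b := by
    intro α hα
    obtain ⟨-, -, g, hg, hge, hgb⟩ := (isMap_centSys_iff hS₂).1
      ((isMap_iff_of_hom hR'D).1 ((mem_autGroup_iff le_rfl).1 hα)).2
    exact ⟨g, hsup ▸ hg, hge, hgb⟩
  refine ⟨hRs, hR's, ⟨⟨hR's, hF, hR'F, h₁, inv', fr'⟩, fun α hα => ?_⟩,
    ⟨⟨hR's, hRs, hR'R, ⟨le_rfl, fun A hA ψ hψ x => (R.le_of_mem hψ).2 x⟩, ?_, ?_⟩, fun α hα => ?_⟩,
    ⟨hRs, hF, hRF, h₁, ?_, ?_⟩⟩
  · obtain ⟨g, hg, hge, hgb⟩ := ext' α hα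
    have hX : S₁ ⊔ centralizerIn S S₁ = S :=
      _root_.le_antisymm (sup_le hS₁ centralizerIn_le) (hsup.ge.trans (sup_le_sup_left
        (fun b hb => FusionSys.mem_centralizerIn.2 ⟨hS₂ hb, fun a ha => hcomm a ha b hb⟩) _))
    replace hg : IsMap F (S₁ ⊔ centralizerIn S S₁) g := hg.mono hX.le
    have hgS : ∀ x ∈ S₁ ⊔ centralizerIn S S₁, g x ∈ S₁ ⊔ centralizerIn S S₁ := fun x hx => by
      rw [hX]
      exact hg.mem_S hx
    haveI : Finite (S₁ ⊔ centralizerIn S S₁ : Subgroup Ω) := finite_of_le hg.le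
    obtain ⟨β, hβ, hβe⟩ := (isIso_of_mapsTo hg hgS).exists_aut
    refine ⟨β, hβ, fun x => ?_, fun c hc => ?_⟩
    · rw [← autMap_coe β, Subgroup.coe_inclusion, hβe _ (Subgroup.mem_sup_left x.2)]
      exact (hge x x.2).trans (autMap_coe α x)
    · rw [← autMap_coe β, hβe _ c.2]
      obtain ⟨a, ha, b, hb, hab⟩ := exists_dec hprod (centralizerIn_le hc)
      obtain ⟨-, hcc⟩ := FusionSys.mem_centralizerIn.1 hc
      have haz : ∀ y ∈ S₁, y * a = a * y := fun y hy => by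
        have h := hcc y hy
        rw [hab] at h
        refine mul_right_cancel (b := b) ?_
        rw [mul_assoc a y b, hcomm y hy b hb, ← mul_assoc a b y, ← h, mul_assoc]
      have hgc : g (c : Ω) = autMap α a * b := by
        rw [hab, hg.map_mul (Subgroup.mem_sup_left ha) (hX.symm ▸ hS₂ hb), hge a ha, hgb b hb]
      have hac : ∀ y ∈ S₁, y * autMap α a = autMap α a * y := fun y hy => by
        obtain ⟨y₀, hy₀, rfl⟩ := (isIso_autMap le_rfl hα).exists_preimage hy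
        rw [← (isIso_autMap le_rfl hα).isMap.map_mul hy₀ ha,
          ← (isIso_autMap le_rfl hα).isMap.map_mul ha hy₀, haz y₀ hy₀]
      have hkey : (c : Ω)⁻¹ * g c = a⁻¹ * autMap α a := by
        have h1 := hcomm _ (S₁.mul_mem (S₁.inv_mem ha) (autMap_mem α ha)) b hb
        rw [hgc, hab]
        calc (a * b)⁻¹ * (autMap α a * b) = b⁻¹ * (a⁻¹ * autMap α a * b) := by group
          _ = b⁻¹ * (b * (a⁻¹ * autMap α a)) := by rw [h1]
          _ = _ := by group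
      rw [hkey]
      refine Subgroup.mem_inf.2 ⟨S₁.mul_mem (S₁.inv_mem ha) (autMap_mem α ha), ?_⟩
      exact Subgroup.mul_mem _ (Subgroup.inv_mem _ (fun y hy => haz y hy)) (fun y hy => hac y hy)
  · exact fun P hPT φ hφ α hα => inv' P hPT φ hφ α ((hautR α).1 hα)
  · intro P hP φ hφ
    obtain ⟨α, hα, h⟩ := fr' P hP φ (hRF P hφ)
    exact ⟨α, (hautR α).2 hα, h⟩
  · obtain ⟨g, hg, hge, -⟩ := ext' α hα
    have hZ : centralizerIn S₁ S₁ ≤ S₁ := centralizerIn_le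
    have hX : S₁ ⊔ centralizerIn S₁ S₁ = S₁ := sup_eq_left.2 hZ
    have hgX : ∀ x ∈ S₁ ⊔ centralizerIn S₁ S₁, g x ∈ S₁ ⊔ centralizerIn S₁ S₁ := fun x hx => by
      rw [hX] at hx ⊢
      exact hcl (hg.mono hS₁) le_rfl x hx
    have hgR : IsMap R (S₁ ⊔ centralizerIn S₁ S₁) g :=
      (isMap_iff_of_hom hR).2 ⟨hX.le, hg.mono (hX.le.trans hS₁)⟩
    haveI : Finite (S₁ ⊔ centralizerIn S₁ S₁ : Subgroup Ω) := finite_of_le (S := S₁) hX.le
    obtain ⟨β, hβ, hβe⟩ := (isIso_of_mapsTo hgR hgX).exists_aut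
    refine ⟨β, hβ, fun x => ?_, fun c hc => ?_⟩
    · rw [← autMap_coe β, Subgroup.coe_inclusion, hβe _ (Subgroup.mem_sup_left x.2)]
      exact (hge x x.2).trans (autMap_coe α x)
    · rw [← autMap_coe β, hβe _ c.2, hge _ (hZ hc)]
      refine Subgroup.mem_inf.2 ⟨S₁.mul_mem (S₁.inv_mem (hZ hc)) (autMap_mem α (hZ hc)), ?_⟩
      obtain ⟨-, hcc⟩ := FusionSys.mem_centralizerIn.1 hc
      refine Subgroup.mul_mem _ (Subgroup.inv_mem _ (fun y hy => hcc y hy)) fun y hy => ?_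
      obtain ⟨y₀, hy₀, rfl⟩ := (isIso_autMap le_rfl hα).exists_preimage hy
      rw [← (isIso_autMap le_rfl hα).isMap.map_mul hy₀ (hZ hc),
        ← (isIso_autMap le_rfl hα).isMap.map_mul (hZ hc) hy₀, hcc y₀ hy₀]
  · intro P hPT φ hφ α hα
    rw [hR P hPT] at hφ
    set P' := (P.subgroupOf S₁).map (S₁.subtype.comp α.toMonoidHom) with hP'
    have hP'T : P' ≤ S₁ := by
      rintro _ ⟨z, -, rfl⟩
      exact (α z).2
    obtain ⟨v, hv, hva⟩ := ((mem_autGroup_iff hS₁).1 hα).exists_inv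
    have hmem : ∀ y ∈ P', ∃ x ∈ P, autMap α x = y := by
      rintro _ ⟨z, hz, rfl⟩
      exact ⟨z, hz, autMap_coe α z⟩
    have hle : P' ≤ imgSub (autMap α) S₁ := fun y hy => by
      obtain ⟨x, hx, rfl⟩ := hmem y hy
      exact ((mem_autGroup_iff hS₁).1 hα).mem_imgSub.2 ⟨x, hPT hx, rfl⟩
    have hvim : ∀ y ∈ P', v y ∈ P := fun y hy => by
      obtain ⟨x, hx, rfl⟩ := hmem y hy
      exact (hva x (hPT hx)).symm ▸ hx
    have hm : IsMap F P' (autMap α ∘ (homFun φ ∘ v)) :=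
      ((hv.mono hle).comp (isMap_of_mem hφ) hvim).comp ((mem_autGroup_iff hS₁).1 hα)
        fun y hy => hcl (isMap_of_mem hφ) hPT _ (hvim y hy)
    obtain ⟨χ, hχ, hχe⟩ := hm
    refine ⟨χ, (hR P' hP'T).symm ▸ hχ, fun x hφx hαx => ?_⟩
    rw [hχe]
    show autMap α (homFun φ (v ((α ⟨(x : Ω), hPT x.2⟩ : S₁) : Ω))) = _
    rw [← autMap_apply α (hPT x.2), hva _ (hPT x.2), homFun_coe, autMap_apply α hφx]
  · intro P hP φ hφ
    refine ⟨1, Subgroup.one_mem _, φ, (hR P hP).symm ▸ hφ, fun x hx => rfl⟩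

end Cfsg.Agent.H91.DirectSys
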