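import Cfsg.Agent.H91.Fix
import Cfsg.Agent.H91.UpperSeries

/-!
For an odd prime: if every centric normal subgroup of `S` has only automorphisms induced by `S` in a saturated
system, then so has every fully normalized centric subgroup (so the system is the inner one).
-/

set_option autoImplicit false

namespace Cfsg.Agent.H91

open Cfsg Cfsg.FusionSystem Cfsg.Agent.FusionSys

universe u

variable {Ω : Type u} [Group Ω] {S : Subgroup Ω} [Finite S] {p : ℕ} [Fact p.Prime]
  {F : FusionSystem S}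

theorem iterate_autMap {Q : Subgroup Ω} (α : MulAut Q) (n : ℕ) {z : Ω} (hz : z ∈ Q) :
    (autMap α)^[n] z = autMap (α ^ n) z := by
  induction n with
  | zero => rw [autMap_apply _ hz]; rfl
  | succ n ih => rw [Function.iterate_succ_apply', ih, pow_succ', autMap_mul _ _ hz]

theorem isPGroup_of_no_coprime {H : Type*} [Group H] [Finite H]
    (h : ∀ a : H, (orderOf a).Coprime p → a = 1) : IsPGroup p H := by
  intro a
  obtain ⟨k, m, hm, he⟩ := Nat.exists_eq_pow_mul_and_not_dvd (orderOf_pos a).ne' p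
    (Fact.out : p.Prime).ne_one
  refine ⟨k, h _ ?_⟩
  rw [orderOf_pow_of_dvd (pow_ne_zero k (Fact.out : p.Prime).ne_zero) ⟨m, he⟩, he,
    Nat.mul_div_cancel_left m (pow_pos (Fact.out : p.Prime).pos k)]
  exact ((Nat.Prime.coprime_iff_not_dvd Fact.out).2 hm).symm

theorem le_sylow_of_normal {H : Type*} [Group H] [Finite H] (R : Sylow p H) {N : Subgroup H}
    [hN : N.Normal] (hp : IsPGroup p N) : N ≤ R := by
  obtain ⟨R₂, hR₂⟩ := hp.exists_le_sylow
  obtain ⟨c, hc⟩ := MulAction.exists_smul_eq H R₂ R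
  intro a ha
  have h2 := Subgroup.smul_mem_pointwise_smul _ (MulAut.conj c) _ (hR₂ (hN.conj_mem a ha c⁻¹))
  rw [← hc, Sylow.coe_subgroup_smul]
  simpa [mul_assoc] using h2

/-- All fully normalized centric subgroups have only automorphisms induced by `S`, if the normal ones do. -/
theorem aut_inner_of_normal (hS : IsPGroup p S) (hF : F.IsSaturated p) (hp : p ≠ 2)
    (hnorm : ∀ L : Subgroup Ω, F.IsCentric L → normalizerIn S L = S →
      F.autGroup L ≤ autInducedBy S L) :
    ∀ Q : Subgroup Ω, F.IsFullyNormalized Q → F.IsCentric Q → F.autGroup Q ≤ autInducedBy S Q := by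
  suffices main : ∀ (m : ℕ) (Q : Subgroup Ω),
      (Nat.card S - Nat.card (normalizerIn S Q)) * (Nat.card S + 1) + (Nat.card S - Nat.card Q) = m →
      F.IsFullyNormalized Q → F.IsCentric Q → F.autGroup Q ≤ autInducedBy S Q from
    fun Q => main _ Q rfl
  intro m
  induction m using Nat.strong_induction_on with
  | _ m ih =>
  intro Q hm hQn hQc
  set T := normalizerIn S Q with hT
  have hQS : Q ≤ S := hQn.1
  have hTS : T ≤ S := normalizerIn_le
  by_cases hTeq : T = S
  · exact hnorm Q hQc hTeq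
  haveI := finite_of_le hQS
  haveI := finite_of_le hTS
  haveI := finite_autGroup F hQS
  have hTp : IsPGroup p T := hS.to_le hTS
  have hQp : IsPGroup p Q := hS.to_le hQS
  have hQne : Q ≠ S := fun h => hTeq (by rw [hT, h, normalizerIn_self])
  have hQlt : Q < T := lt_normalizerIn hS hQS hQne
  have hcardlt : Nat.card Q < Nat.card T :=
    (Set.ncard_lt_ncard hQlt (Set.toFinite _)).trans_eq rfl
  have better : ∀ Q' : Subgroup Ω, F.IsFullyNormalized Q' → F.IsCentric Q' →
      (Nat.card T < Nat.card (normalizerIn S Q') ∨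
        (Nat.card T ≤ Nat.card (normalizerIn S Q') ∧ Nat.card Q < Nat.card Q')) →
      F.autGroup Q' ≤ autInducedBy S Q' := by
    intro Q' h1 h2 h3
    refine ih _ ?_ Q' rfl h1 h2
    rw [← hm]
    have a1 : Nat.card (normalizerIn S Q') ≤ Nat.card S := Subgroup.card_le_of_le normalizerIn_le
    have a2 : Nat.card Q' ≤ Nat.card S := Subgroup.card_le_of_le h1.1
    have a3 : Nat.card Q ≤ Nat.card S := Subgroup.card_le_of_le hQS
    have a4 : Nat.card T ≤ Nat.card S := Subgroup.card_le_of_le hTS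
    generalize Nat.card S = N at *
    generalize Nat.card (normalizerIn S Q') = a at *
    generalize Nat.card Q' = b at *
    generalize Nat.card Q = c at *
    generalize Nat.card T = t at *
    rcases h3 with h | ⟨h, h'⟩
    · have : (N - a + 1) * (N + 1) ≤ (N - t) * (N + 1) := Nat.mul_le_mul_right _ (by omega)
      rw [add_mul, one_mul] at this
      omega
    · have : (N - a) * (N + 1) ≤ (N - t) * (N + 1) := Nat.mul_le_mul_right _ (by omega)
      omega
  have hbig : ∀ (P : Subgroup Ω) (f : Ω → Ω), Nat.card T ≤ Nat.card P → IsMap F P f →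
      ∃ s ∈ S, ∀ y ∈ P, f y = s * y * s⁻¹ := fun P f hn hf =>
    (isMap_inner_iff.1 (isMap_of_aut F (innerFusionSystem S) hS hF (Nat.card T) (fun Q' h1 h2 h3 =>
      (better Q' h1 h2 (Or.inr ⟨h3.trans (haveI := finite_of_le (normalizerIn_le (S := S) (P := Q'));
        Subgroup.card_le_of_le (le_normalizerIn_self h1.1)), hcardlt.trans_le h3⟩)).trans
        (autInducedBy_le_autGroup _ h1.1)) P f hn hf)).2
  have hAut : ∀ R : Subgroup Ω, F.IsCentric R → Nat.card T ≤ Nat.card (normalizerIn S R) →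
      (Nat.card T < Nat.card (normalizerIn S R) ∨ Nat.card Q < Nat.card R) →
      ∀ β, IsIso F R R β → ∃ s ∈ S, ∀ y ∈ R, β y = s * y * s⁻¹ := by
    intro R hRc hR hor β hβ
    obtain ⟨R', hc, hn⟩ := exists_isFullyNormalized F hRc.1
    obtain ⟨g, hg, hgi, -⟩ := exists_map_to_fullyNormalized hS hF hn hc
    obtain ⟨s₀, hs₀, hge⟩ := hbig _ g hR hg
    obtain ⟨i, hi, hil, -⟩ := hgi.exists_symm
    obtain ⟨α, hα, he⟩ := ((hi.comp hβ).comp hgi).exists_aut
    have h1 := hn.2 R (isConj_symm hc)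
    have h2 := card_eq_of_isConj hc
    obtain ⟨s, hs, hsn, hse⟩ := mem_autInducedBy.1
      (better R' hn (isCentric_of_isConj hRc hc) (by omega) hα)
    refine ⟨s₀⁻¹ * s * s₀, S.mul_mem (S.mul_mem (S.inv_mem hs₀) hs) hs₀, fun y hy => ?_⟩
    have hRN : R ≤ normalizerIn S R := le_normalizerIn_self hRc.1
    have e := he (g y) (hgi.mem hy)
    rw [hse, autMap_conjAut hsn (hgi.mem hy), conjMap_apply, Function.comp_apply, Function.comp_apply,
      hil y hy, hge _ (hRN hy), hge _ (hRN (hβ.mem hy))] at e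
    calc β y = s₀⁻¹ * (s₀ * β y * s₀⁻¹) * s₀ := by group
      _ = s₀⁻¹ * (s * (s₀ * y * s₀⁻¹) * s⁻¹) * s₀ := by rw [e]
      _ = _ := by group
  by_contra hnot
  -- automorphisms normalizing a group induced by a larger subgroup are induced by `S`
  have hctl : ∀ α : MulAut Q, α ∈ F.autGroup Q → ∀ U : Subgroup (MulAut Q), U ≤ autInducedBy S Q →
      (∀ v ∈ U, α * v * α⁻¹ ∈ U) → (∀ a ∈ autInducedBy S Q, ∀ v ∈ U, a * v * a⁻¹ ∈ U) →
      (∃ t, ∃ ht : t ∈ normalizerIn S Q, t ∉ Q ∧ conjAutIn S Q ⟨t, ht⟩ ∈ U) → α ∈ autInducedBy S Q := by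
    intro α hα U h1 h2 h3 h4
    obtain ⟨R, g, hlt, hn, hRc, hgi, hge⟩ := stable_extend hS hF hQn hQc hα U h1 h2 h3 h4
    haveI := finite_of_le hRc.1
    haveI := finite_of_le (normalizerIn_le (S := S) (P := R))
    obtain ⟨s, hs, hse⟩ := hAut R hRc (Subgroup.card_le_of_le hn)
      (Or.inr ((Set.ncard_lt_ncard hlt (Set.toFinite _)).trans_eq rfl)) g hgi
    have he : ∀ y ∈ Q, autMap α y = s * y * s⁻¹ := fun y hy => by rw [← hge y hy, hse y (hlt.le hy)]
    exact mem_autInducedBy.2 ⟨s, hs, mem_normalizer_of_maps fun y hy => he y hy ▸ autMap_mem α hy,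
      MulEquiv.ext fun y => Subtype.ext ((autMap_coe α y).symm.trans (he y y.2))⟩
  obtain ⟨-, R₀, hR₀⟩ := isFullyAutomized_of_isFullyNormalized hS hF hQn
  have hmemP : ∀ a : F.autGroup Q, a ∈ (R₀ : Subgroup (F.autGroup Q)) ↔ (a : MulAut Q) ∈ autInducedBy S Q :=
    fun a => by rw [hR₀, Subgroup.mem_subgroupOf]
  have hnotP : ¬ ∀ a : F.autGroup Q, a ∈ (R₀ : Subgroup (F.autGroup Q)) :=
    fun h => hnot fun α hα => (hmemP ⟨α, hα⟩).1 (h ⟨α, hα⟩)
  have hrange : ∀ t : T, conjAutIn S Q t ∈ autInducedBy S Q :=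
    fun t => (range_conjAutIn S Q).le ⟨t, rfl⟩
  let cT : T →* F.autGroup Q :=
    (conjAutIn S Q).codRestrict _ fun t => autInducedBy_le_autGroup F hQS (hrange t)
  have hcT : ∀ (t : T) (y : Ω), y ∈ Q → autMap (cT t : MulAut Q) y = (t : Ω) * y * (t : Ω)⁻¹ :=
    fun t y hy => autMap_conjAut t.2.2 hy
  suffices hall : ∀ i, upperSeries T i ≤ Q ∧
      ∀ (α : F.autGroup Q) (j : ℕ), j < i → ∀ z ∈ upperSeries T (j + 1),
        z⁻¹ * autMap (α : MulAut Q) z ∈ upperSeries T j by
    haveI : Group.IsNilpotent T := IsPGroup.isNilpotent hTp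
    obtain ⟨n, hn⟩ := Group.IsNilpotent.nilpotent' (G := T)
    refine hQlt.not_ge fun t ht => (hall n).1 ⟨⟨t, ht⟩, ?_, rfl⟩
    rw [hn]
    exact Subgroup.mem_top _
  intro i
  induction i with
  | zero => exact ⟨by rw [upperSeries_zero]; exact bot_le, fun α j hj => absurd hj (Nat.not_lt_zero j)⟩
  | succ i hi =>
  obtain ⟨hZQ, hfac⟩ := hi
  set Z := Subgroup.upperCentralSeries T i with hZ
  set Zi := upperSeries T i with hZi
  have hmono : ∀ j, j ≤ i → upperSeries T j ≤ Zi := fun j hj =>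
    Subgroup.map_mono (Subgroup.upperCentralSeries_mono T hj)
  have hinv : ∀ (α : F.autGroup Q) (j : ℕ), j ≤ i → ∀ z ∈ upperSeries T j,
      autMap (α : MulAut Q) z ∈ upperSeries T j := by
    intro α j hj z hz
    cases j with
    | zero =>
      rw [upperSeries_zero, Subgroup.mem_bot] at hz ⊢
      subst hz
      exact ((mem_autGroup_iff hQS).1 α.2).map_one
    | succ j =>
      have h := mul_mem hz (Subgroup.map_mono (Subgroup.upperCentralSeries_mono T (Nat.le_succ j))
        (hfac α j (by omega) z hz))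
      rwa [mul_inv_cancel_left] at h
  have hZfix : ∀ α : F.autGroup Q, (orderOf (α : MulAut Q)).Coprime p →
      ∀ j, j ≤ i → ∀ z ∈ upperSeries T j, autMap (α : MulAut Q) z = z := by
    intro α hα j
    induction j with
    | zero =>
      intro _ z hz
      rw [upperSeries_zero, Subgroup.mem_bot] at hz
      subst hz
      exact ((mem_autGroup_iff hQS).1 α.2).map_one
    | succ j ihj =>
      intro hj z hz
      have hzQ : z ∈ Q := hZQ (hmono _ hj hz)
      have hd : z⁻¹ * autMap (α : MulAut Q) z = 1 := by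
        refine eq_one_of_fixed_diff (f := autMap (α : MulAut Q)) (D := upperSeries T j) hα ?_
          (mul_inv_cancel_left _ _).symm (hfac α j (by omega) z hz)
          (fun e he => ((mem_autGroup_iff hQS).1 α.2).map_mul hzQ (hZQ (hmono j (by omega) he)))
          (fun e he => ihj (by omega) e he) ?_
        · rw [iterate_autMap _ _ hzQ, pow_orderOf_eq_one, autMap_apply _ hzQ]; rfl
        · obtain ⟨k, hk⟩ := hQp ⟨_, mul_mem (inv_mem hzQ) (autMap_mem (α : MulAut Q) hzQ)⟩
          exact ⟨k, by simpa using congrArg Subtype.val hk⟩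
      exact (inv_mul_eq_one.1 hd).symm
  -- the automorphisms acting trivially on `Q` modulo `Z_i(T)` form a normal `p`-subgroup
  let K1 : Subgroup (F.autGroup Q) :=
    { carrier := {a | ∀ q ∈ Q, q⁻¹ * autMap (a : MulAut Q) q ∈ Zi}
      one_mem' := fun q hq => by
        rw [autMap_apply _ hq]
        show q⁻¹ * q ∈ Zi
        rw [inv_mul_cancel]
        exact one_mem Zi
      mul_mem' := fun {a b} ha hb q hq => by
        have h1 := hb q hq
        have e : autMap ((a * b : F.autGroup Q) : MulAut Q) q =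
            autMap (a : MulAut Q) q * autMap (a : MulAut Q) (q⁻¹ * autMap (b : MulAut Q) q) := by
          rw [Subgroup.coe_mul, autMap_mul _ _ hq,
            ← ((mem_autGroup_iff hQS).1 a.2).map_mul hq (hZQ h1), mul_inv_cancel_left]
        rw [e, ← mul_assoc]
        exact mul_mem (ha q hq) (hinv a i le_rfl _ h1)
      inv_mem' := fun {a} ha q hq => by
        set r := autMap ((a⁻¹ : F.autGroup Q) : MulAut Q) q with hr
        have e : autMap (a : MulAut Q) r = q := autMap_inv_apply (a : MulAut Q) hq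
        have h1 := ha r (autMap_mem _ hq)
        rw [e] at h1
        have h2 := inv_mem h1
        rwa [mul_inv_rev, inv_inv] at h2 }
  haveI hK1 : K1.Normal := ⟨fun a ha c q hq => by
    set r := autMap ((c⁻¹ : F.autGroup Q) : MulAut Q) q with hr
    have hrQ : r ∈ Q := autMap_mem _ hq
    have h1 := ha r hrQ
    have hc := (mem_autGroup_iff hQS).1 c.2
    have e : autMap ((c * a * c⁻¹ : F.autGroup Q) : MulAut Q) q =
        q * autMap (c : MulAut Q) (r⁻¹ * autMap (a : MulAut Q) r) := by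
      rw [Subgroup.coe_mul, autMap_mul _ _ hq, Subgroup.coe_mul, autMap_mul _ _ hrQ,
        hc.map_mul (Q.inv_mem hrQ) (autMap_mem _ hrQ), hc.map_inv hrQ,
        show autMap (c : MulAut Q) r = q from autMap_inv_apply (c : MulAut Q) hq, mul_inv_cancel_left]
    rw [e, inv_mul_cancel_left]
    exact hinv c i le_rfl _ h1⟩
  have hK1triv : ∀ a ∈ K1, (orderOf (a : MulAut Q)).Coprime p → a = 1 := by
    intro a ha hco
    refine Subtype.ext (aut_ext fun q hq => ?_)
    have hd : q⁻¹ * autMap (a : MulAut Q) q = 1 := by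
      refine eq_one_of_fixed_diff (f := autMap (a : MulAut Q)) (D := Zi) hco ?_
        (mul_inv_cancel_left _ _).symm (ha q hq)
        (fun e he => ((mem_autGroup_iff hQS).1 a.2).map_mul hq (hZQ he))
        (fun e he => hZfix a hco i le_rfl e he) ?_
      · rw [iterate_autMap _ _ hq, pow_orderOf_eq_one, autMap_apply _ hq]; rfl
      · obtain ⟨k, hk⟩ := hQp ⟨_, mul_mem (inv_mem hq) (autMap_mem (a : MulAut Q) hq)⟩
        exact ⟨k, by simpa using congrArg Subtype.val hk⟩
    rw [← inv_mul_eq_one.1 hd, Subgroup.coe_one, autMap_apply _ hq]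
    rfl
  have hK1p : IsPGroup p K1 := isPGroup_of_no_coprime fun a ha => by
    refine Subtype.ext (hK1triv a a.2 ?_)
    rwa [Subgroup.orderOf_coe, Subgroup.orderOf_coe]
  have hK1R : K1 ≤ (R₀ : Subgroup (F.autGroup Q)) := le_sylow_of_normal R₀ hK1p
  have hmap : ∀ B : Subgroup (F.autGroup Q), B ≤ (R₀ : Subgroup (F.autGroup Q)) →
      B.map (F.autGroup Q).subtype ≤ autInducedBy S Q := by
    rintro B hB _ ⟨b, hb, rfl⟩
    exact (hmemP b).1 (hB hb)
  -- stable subgroups of the Sylow subgroup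
  have hctl' : ∀ (a : F.autGroup Q) (B : Subgroup (F.autGroup Q)), B ≤ (R₀ : Subgroup (F.autGroup Q)) →
      (∀ v ∈ B, a * v * a⁻¹ ∈ B) →
      (∀ c ∈ (R₀ : Subgroup (F.autGroup Q)), ∀ v ∈ B, c * v * c⁻¹ ∈ B) →
      (∃ t : T, (t : Ω) ∉ Q ∧ cT t ∈ B) → a ∈ (R₀ : Subgroup (F.autGroup Q)) := by
    intro a B hB h1 h2 ⟨t, htQ, htB⟩
    refine (hmemP a).2 (hctl a a.2 (B.map (F.autGroup Q).subtype) (hmap B hB) ?_ ?_
      ⟨t, t.2, htQ, cT t, htB, rfl⟩)
    · rintro _ ⟨v, hv, rfl⟩
      exact ⟨a * v * a⁻¹, h1 v hv, by simp⟩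
    · rintro c hc _ ⟨v, hv, rfl⟩
      exact ⟨⟨c, autInducedBy_le_autGroup F hQS hc⟩ * v * ⟨c, autInducedBy_le_autGroup F hQS hc⟩⁻¹,
        h2 _ ((hmemP _).2 hc) v hv, by simp⟩
  have htQ : ∀ t : T, cT t ∈ K1 → (t : Ω) ∈ Q := by
    intro t ht
    by_contra htn
    exact hnotP fun a => hctl' a K1 hK1R (fun v hv => hK1.conj_mem v hv a)
      (fun c _ v hv => hK1.conj_mem v hv c) ⟨t, htn, ht⟩
  have hZ1Q : upperSeries T (i + 1) ≤ Q := by
    intro z hz
    refine htQ ⟨z, upperSeries_le T _ hz⟩ fun q hq => ?_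
    rw [hcT _ q hq]
    have h1 := conj_mem_upperSeries (comm_mem_upperSeries hz (hQlt.le hq)) (T.inv_mem (hQlt.le hq))
    simpa [mul_assoc] using h1
  refine ⟨hZ1Q, fun α j hj z hz => ?_⟩
  rcases Nat.lt_succ_iff_lt_or_eq.1 hj with hj' | rfl
  · exact hfac α j hj' z hz
  -- the action on `Q/Z_i(T)`
  set N : Subgroup Q := Zi.subgroupOf Q with hN
  have hNn : N.Normal := ⟨fun n hn q => conj_mem_upperSeries hn (hQlt.le q.2)⟩
  have hNmap : ∀ a : F.autGroup Q, N.map ((a : MulAut Q) : Q ≃* Q).toMonoidHom = N := by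
    intro a
    refine Subgroup.eq_of_le_of_card_ge ?_ ?_
    · rintro _ ⟨n, hn, rfl⟩
      show (((a : MulAut Q) n : Q) : Ω) ∈ Zi
      rw [← autMap_coe (a : MulAut Q) n]
      exact hinv a j le_rfl _ hn
    · exact le_of_eq (Subgroup.card_map_of_injective (f := ((a : MulAut Q) : Q ≃* Q).toMonoidHom)
        (MulEquiv.injective _)).symm
  let ρ : F.autGroup Q →* MulAut (Q ⧸ N) := MonoidHom.mk'
    (fun a => QuotientGroup.congr N N (a : MulAut Q) (hNmap a)) fun a b =>
      MulEquiv.ext fun y => QuotientGroup.induction_on y fun q => rfl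
  have hρ : ∀ (a : F.autGroup Q) (q : Q),
      ρ a (QuotientGroup.mk q) = QuotientGroup.mk ((a : MulAut Q) q) := fun a q => rfl
  have hker : ∀ a, ρ a = 1 → a ∈ K1 := by
    intro a ha q hq
    have h1 : (QuotientGroup.mk ((a : MulAut Q) ⟨q, hq⟩) : Q ⧸ N) = QuotientGroup.mk ⟨q, hq⟩ := by
      rw [← hρ, ha]; rfl
    have h2 := QuotientGroup.eq.1 h1.symm
    rw [autMap_apply (a : MulAut Q) hq]
    exact h2
  let H := ρ.range
  let Pb : Sylow p H := R₀.mapSurjective ρ.rangeRestrict_surjective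
  have hPb : ∀ b : H, b ∈ (Pb : Subgroup H) ↔ ∃ a ∈ (R₀ : Subgroup (F.autGroup Q)), ρ a = b := by
    intro b
    show b ∈ ((R₀ : Subgroup (F.autGroup Q)).map ρ.rangeRestrict) ↔ _
    exact ⟨fun ⟨a, ha, he⟩ => ⟨a, ha, congrArg Subtype.val he⟩, fun ⟨a, ha, he⟩ => ⟨a, ha, Subtype.ext he⟩⟩
  suffices hall : ∀ (k : ℕ) (x : Subgroup.center (Q ⧸ N)), (∀ b ∈ (Pb : Subgroup H), b • x = x) →
      x ^ p ^ k = 1 → ∀ b : H, b • x = x by
    have hzQ : z ∈ Q := hZ1Q hz
    have hcomm : ∀ q : Q, (⟨z, hzQ⟩ : Q)⁻¹ * q⁻¹ * ⟨z, hzQ⟩ * q ∈ N := by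
      intro q
      show z⁻¹ * (q : Ω)⁻¹ * z * q ∈ Zi
      have h1 := conj_mem_upperSeries (comm_mem_upperSeries hz (T.inv_mem (hQlt.le q.2)))
        (T.inv_mem (upperSeries_le T _ hz))
      have h2 : z⁻¹ * (z * (q : Ω)⁻¹ * z⁻¹ * (q : Ω)⁻¹⁻¹) * z⁻¹⁻¹ = (q : Ω)⁻¹ * z⁻¹ * q * z := by group
      rw [h2] at h1
      have h3 := conj_mem_upperSeries (inv_mem h1) (T.one_mem)
      simpa [mul_assoc] using h3
    let x : Subgroup.center (Q ⧸ N) := ⟨QuotientGroup.mk ⟨z, hzQ⟩, Subgroup.mem_center_iff.2 fun y =>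
      QuotientGroup.induction_on y fun q => by
        refine (QuotientGroup.eq.2 ?_)
        simpa [mul_assoc] using hcomm q⟩
    obtain ⟨k, hk⟩ := hQp ⟨z, hzQ⟩
    have hx := hall k x (fun b hb => ?_)
      (Subtype.ext (by show (QuotientGroup.mk ⟨z, hzQ⟩ : Q ⧸ N) ^ p ^ k = 1
                       rw [← QuotientGroup.mk_pow, hk]; rfl)) ⟨ρ α, α, rfl⟩
    · have h1 : ρ α (QuotientGroup.mk ⟨z, hzQ⟩) = QuotientGroup.mk ⟨z, hzQ⟩ := congrArg Subtype.val hx
      rw [hρ] at h1
      have h2 := QuotientGroup.eq.1 h1.symm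
      rw [autMap_apply (α : MulAut Q) hzQ]
      exact h2
    · obtain ⟨a, ha, hab⟩ := (hPb b).1 hb
      obtain ⟨s, hs, hsn, hse⟩ := mem_autInducedBy.1 ((hmemP a).1 ha)
      refine Subtype.ext ?_
      show (b : MulAut (Q ⧸ N)) (QuotientGroup.mk ⟨z, hzQ⟩) = QuotientGroup.mk ⟨z, hzQ⟩
      rw [← hab, hρ]
      refine (QuotientGroup.eq.2 ?_).symm
      show z⁻¹ * (((a : MulAut Q) ⟨z, hzQ⟩ : Q) : Ω) ∈ Zi
      rw [← autMap_apply (a : MulAut Q) hzQ, hse, autMap_conjAut hsn hzQ, conjMap_apply]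
      have h1 := conj_mem_upperSeries (inv_mem (comm_mem_upperSeries hz (show s ∈ T from ⟨hs, hsn⟩)))
        (T.inv_mem (upperSeries_le T _ hz))
      simpa [mul_assoc] using h1
  intro k
  induction k with
  | zero => exact fun x _ hx b => by rw [pow_zero, pow_one] at hx; rw [hx, smul_one]
  | succ k ihk =>
  intro x hxP hxk
  refine fixed_of_elementary (V := Subgroup.center (Q ⧸ N)) (Pb : Subgroup H) Pb.not_dvd_index ⟨k + 1, hxk⟩
    hxP (ihk (x ^ p) (fun b hb => by rw [smul_pow', hxP b hb]) (by rw [← pow_mul, ← pow_succ', hxk]))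
    (fun w hwp hwstab b => ?_)
  have hwP : ∀ b ∈ (Pb : Subgroup H), b • w = w := fun b hb => hwstab b (hxP b hb)
  have hzero : ∀ t : Ω, t ∈ Zi → t ∈ T := fun t ht => upperSeries_le T _ ht
  -- the image of `Q` in `T/Z_i(T)`
  let ι : Q ⧸ N →* T ⧸ Z := QuotientGroup.map N Z (Subgroup.inclusion hQlt.le)
    fun n hn => mem_upperSeries.1 hn
  have hιinj : Function.Injective ι := by
    rw [injective_iff_map_eq_one]
    intro y
    refine QuotientGroup.induction_on y fun q hq => ?_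
    rw [QuotientGroup.eq_one_iff]
    exact mem_upperSeries.2 ((QuotientGroup.eq_one_iff _).1 hq)
  have hιc : ∀ (t : T) (y : Q ⧸ N),
      ι (ρ (cT t) y) = QuotientGroup.mk' Z t * ι y * (QuotientGroup.mk' Z t)⁻¹ :=
    fun t y => QuotientGroup.induction_on y fun q => rfl
  haveI : Group.IsNilpotent (T ⧸ Z) := IsPGroup.isNilpotent (hTp.to_quotient Z)
  set V1 := omegaCenter p (⊤ : Subgroup (Q ⧸ N)) with hV1
  have hV1mem : ∀ y ∈ V1, y ∈ Subgroup.center (Q ⧸ N) := fun y hy =>
    Subgroup.mem_center_iff.2 fun q => (hy.2.1 q (Subgroup.mem_top q)).eq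
  haveI hVn : (V1.map ι).Normal := by
    refine ⟨?_⟩
    rintro _ ⟨y, hy, rfl⟩ g
    obtain ⟨t, rfl⟩ := QuotientGroup.mk'_surjective Z g
    refine ⟨ρ (cT t) y, ⟨Subgroup.mem_top _, fun q _ => ?_, by rw [← map_pow, hy.2.2, map_one]⟩, hιc t y⟩
    have h1 := (hy.2.1 ((ρ (cT t)).symm q) (Subgroup.mem_top _)).map (ρ (cT t)).toMonoidHom
    simpa using h1
  by_cases hcase : ∃ t : T, (t : Ω) ∉ Q ∧ cT t ^ p ∈ K1 ∧ (ρ (cT t)) ^ p = 1 ∧
      IsQuadratic p (Subgroup.center (Q ⧸ N)) (⟨ρ (cT t), cT t, rfl⟩ : H)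
  · set A : Set H := {a | a ∈ (Pb : Subgroup H) ∧ a ^ p = 1 ∧ IsQuadratic p (Subgroup.center (Q ⧸ N)) a}
      with hA
    refine fixed_of_quadratic hp (Pb : Subgroup H) Pb.not_dvd_index Pb.2 hwp hwP A
      (fun a ha => ha.1) (fun a ha => ha.2.1) (fun a ha => ha.2.2) (fun h hh => ?_) b
    have hAh : ∀ a ∈ A, h⁻¹ * a * h ∈ A := fun a ha => ⟨hh a ha, by
      have e : (h⁻¹ * a * h) ^ p = h⁻¹ * a ^ p * h := by
        conv_lhs => rw [show h⁻¹ * a * h = h⁻¹ * a * h⁻¹⁻¹ by rw [inv_inv], conj_pow, inv_inv]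
      rw [e, ha.2.1, mul_one, inv_mul_cancel], isQuadratic_conj ha.2.2⟩
    obtain ⟨h', hh'⟩ : ∃ a : F.autGroup Q, ρ.rangeRestrict a = h := ρ.rangeRestrict_surjective h
    set B := (Subgroup.closure A).comap ρ.rangeRestrict with hB
    have hBP : B ≤ (R₀ : Subgroup (F.autGroup Q)) := by
      intro v hv
      obtain ⟨a, ha, he⟩ := (hPb _).1 ((Subgroup.closure_le (Pb : Subgroup H)).2 (fun a ha => ha.1) hv)
      have : a⁻¹ * v ∈ (R₀ : Subgroup (F.autGroup Q)) := hK1R (hker _ (by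
        rw [map_mul, map_inv, he]; exact inv_mul_cancel _))
      have := Subgroup.mul_mem _ ha this
      rwa [mul_inv_cancel_left] at this
    have hres : h'⁻¹ ∈ (R₀ : Subgroup (F.autGroup Q)) := by
      obtain ⟨t, htQ, -, ht2, ht3⟩ := hcase
      refine hctl' _ B hBP (fun v hv => ?_) (fun c hc v hv => ?_) ⟨t, htQ, Subgroup.subset_closure
        ⟨(hPb _).2 ⟨cT t, (hmemP _).2 (hrange t), rfl⟩, Subtype.ext ht2, ht3⟩⟩
      · rw [hB, Subgroup.mem_comap]
        simp only [map_mul, map_inv, hh']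
        exact conj_mem_closure (fun a ha => by rw [inv_inv]; exact hAh a ha) _ hv
      · rw [hB, Subgroup.mem_comap]
        simp only [map_mul, map_inv]
        refine conj_mem_closure (A := A) (fun a ha => ⟨?_, ?_, ?_⟩) _ hv
        · have hcP : ρ.rangeRestrict c ∈ (Pb : Subgroup H) := (hPb _).2 ⟨c, hc, rfl⟩
          exact Subgroup.mul_mem _ (Subgroup.mul_mem _ hcP ha.1) (Subgroup.inv_mem _ hcP)
        · rw [conj_pow, ha.2.1, mul_one, mul_inv_cancel]
        · have := isQuadratic_conj (g := (ρ.rangeRestrict c)⁻¹) ha.2.2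
          rwa [inv_inv] at this
    have hh'' : h'⁻¹⁻¹ ∈ (R₀ : Subgroup (F.autGroup Q)) := Subgroup.inv_mem _ hres
    rw [inv_inv] at hh''
    exact hwP h ((hPb h).2 ⟨h', hh'', congrArg Subtype.val hh'⟩)
  · have hJC : Cfsg.thompsonSubgroupOf p (⊤ : Subgroup (T ⧸ Z)) ≤
        Subgroup.centralizer ((V1.map ι : Subgroup (T ⧸ Z)) : Set (T ⧸ Z)) := by
      rw [thompson_eq]
      refine sSup_le fun A hA => ?_
      by_contra hne
      have hVe : Cfsg.IsElementaryAbelian p (V1.map ι) := isEA_map ι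
        ⟨⟨⟨fun a b => Subtype.ext (b.2.2.1 _ (Subgroup.mem_top _)).eq⟩⟩, fun a ha => ha.2.2⟩
      obtain ⟨g, hgA, hgc, hgq⟩ := exists_quadratic hVe hA.2.1 (fun B hB => hA.2.2 B le_top hB) hne
      obtain ⟨t, rfl⟩ := QuotientGroup.mk'_surjective Z g
      have htp : ρ (cT t) ^ p = 1 := by
        rw [← map_pow, ← map_pow]
        refine MulEquiv.ext fun y => hιinj ?_
        rw [hιc, map_pow, hA.2.1.2 _ hgA]
        simp
      refine hcase ⟨t, fun htQ' => hgc (Subgroup.mem_centralizer_iff.2 ?_), hker _ (by rw [map_pow, htp]),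
        htp, ?_⟩
      · rintro _ ⟨y, hy, rfl⟩
        exact ((hy.2.1 (QuotientGroup.mk ⟨t, htQ'⟩) (Subgroup.mem_top _)).map ι).eq.symm
      · intro y hy
        refine Subtype.ext (hιinj ?_)
        show ι (ρ (cT t) ((y : Q ⧸ N)⁻¹ * ρ (cT t) (y : Q ⧸ N))) = ι ((y : Q ⧸ N)⁻¹ * ρ (cT t) (y : Q ⧸ N))
        have hy1 : (y : Q ⧸ N) ∈ V1 := ⟨Subgroup.mem_top _, fun q _ => Subgroup.mem_center_iff.1 y.2 q,
          congrArg Subtype.val hy⟩
        have hc := (hgq (ι y) ⟨y, hy1, rfl⟩).eq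
        have hvv : Commute (ι y)⁻¹ (QuotientGroup.mk' Z t * ι y * (QuotientGroup.mk' Z t)⁻¹) := by
          rw [← hιc]
          exact ((hy1.2.1 _ (Subgroup.mem_top _)).symm.map ι).inv_left
        rw [hιc, map_mul, map_inv, hιc, hvv.eq]
        exact mul_inv_eq_iff_eq_mul.2 hc
    by_cases hCQ : ∀ t : T, QuotientGroup.mk' Z t ∈
        Subgroup.centralizer ((V1.map ι : Subgroup (T ⧸ Z)) : Set (T ⧸ Z)) → (t : Ω) ∈ Q
    · -- the preimage `W` of the Thompson subgroup lies in `Q`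
      exfalso
      refine hnotP ?_
      have hJle : Cfsg.thompsonSubgroupOf p (⊤ : Subgroup (T ⧸ Z)) ≤ ι.range := by
        intro g hg
        obtain ⟨t, rfl⟩ := QuotientGroup.mk'_surjective Z g
        exact ⟨QuotientGroup.mk ⟨t, hCQ t (hJC hg)⟩, rfl⟩
      have hJeq : (Cfsg.thompsonSubgroup p (Q ⧸ N)).map ι = Cfsg.thompsonSubgroupOf p (⊤ : Subgroup (T ⧸ Z)) := by
        rw [← thompson_eq_of_le le_top hJle, Cfsg.thompsonSubgroupOf,
          ← thompsonSubgroup_map_equiv (MonoidHom.ofInjective hιinj), Subgroup.map_map]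
        rfl
      set W : Subgroup Ω :=
        ((Cfsg.thompsonSubgroup p (Q ⧸ N)).comap (QuotientGroup.mk' N)).map Q.subtype with hW
      have hWQ : W ≤ Q := Subgroup.map_subtype_le _
      haveI := finite_of_le (hWQ.trans hQS)
      have hWinv : ∀ (a : F.autGroup Q), ∀ y ∈ W, autMap (a : MulAut Q) y ∈ W := by
        rintro a _ ⟨q, hq, rfl⟩
        rw [show autMap (a : MulAut Q) (Q.subtype q) = ((a : MulAut Q) q : Q) from autMap_coe _ q]
        refine ⟨_, ?_, rfl⟩
        exact (thompsonSubgroup_map_equiv (ρ a)).le ⟨_, hq, hρ a q⟩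
      have hWN : normalizerIn S T ≤ normalizerIn S W := by
        intro s hs
        refine ⟨hs.1, mem_normalizer_of_maps ?_⟩
        rintro _ ⟨q, hq, rfl⟩
        let e : MulAut T :=
          { toFun := fun y => ⟨s * y * s⁻¹, conj_mem_of_mem_normalizerIn hs y.2⟩
            invFun := fun y => ⟨s⁻¹ * y * s, conj_symm_mem_of_mem_normalizerIn hs y.2⟩
            left_inv := fun y => Subtype.ext (by simp [mul_assoc])
            right_inv := fun y => Subtype.ext (by simp [mul_assoc])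
            map_mul' := fun y z => Subtype.ext (by simp [mul_assoc]) }
        have he : Z.map (e : T ≃* T).toMonoidHom = Z :=
          Subgroup.characteristic_iff_map_eq.1 inferInstance e
        let eb : (T ⧸ Z) ≃* (T ⧸ Z) := QuotientGroup.congr Z Z e he
        set t : T := ⟨(q : Ω), hQlt.le q.2⟩
        have h1 : ι (QuotientGroup.mk q) ∈ Cfsg.thompsonSubgroupOf p (⊤ : Subgroup (T ⧸ Z)) :=
          hJeq ▸ ⟨_, hq, rfl⟩
        have h2 : QuotientGroup.mk' Z (e t) ∈ Cfsg.thompsonSubgroupOf p (⊤ : Subgroup (T ⧸ Z)) := by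
          obtain ⟨⟨g, hg⟩, hg', he'⟩ := h1
          refine ⟨⟨eb g, Subgroup.mem_top _⟩, ?_, ?_⟩
          · exact (thompsonSubgroup_map_equiv
              ((Subgroup.topEquiv.trans eb).trans Subgroup.topEquiv.symm)).le ⟨_, hg', rfl⟩
          · show eb g = QuotientGroup.mk' Z (e t)
            have hgt : g = QuotientGroup.mk' Z t := he'
            rw [hgt]
            rfl
        obtain ⟨y, hy, hye⟩ := hJeq.ge h2
        obtain ⟨r, rfl⟩ := QuotientGroup.mk'_surjective N y
        have hm' := mem_upperSeries.2 (QuotientGroup.eq.1 hye)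
        have hm : (r : Ω)⁻¹ * (s * q * s⁻¹) ∈ Zi := hm'
        have hQ' : s * (q : Ω) * s⁻¹ ∈ Q := by
          have := Q.mul_mem r.2 (hZQ hm)
          rwa [mul_inv_cancel_left] at this
        refine ⟨⟨_, hQ'⟩, ?_, rfl⟩
        show (QuotientGroup.mk (⟨_, hQ'⟩ : Q) : Q ⧸ N) ∈ Cfsg.thompsonSubgroup p (Q ⧸ N)
        have hy' : (QuotientGroup.mk r : Q ⧸ N) ∈ Cfsg.thompsonSubgroup p (Q ⧸ N) := hy
        rwa [show (QuotientGroup.mk (⟨_, hQ'⟩ : Q) : Q ⧸ N) = QuotientGroup.mk r from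
          (QuotientGroup.eq.2 (show r⁻¹ * (⟨_, hQ'⟩ : Q) ∈ N from hm)).symm]
      haveI := finite_of_le (normalizerIn_le (S := S) (P := W))
      have hTW : Nat.card T < Nat.card (normalizerIn S W) :=
        ((Set.ncard_lt_ncard (lt_normalizerIn hS hTS hTeq)
          (haveI := finite_of_le (normalizerIn_le (S := S) (P := T)); Set.toFinite _)).trans_eq rfl).trans_le
          (Subgroup.card_le_of_le hWN)
      obtain ⟨W', hWW', hW'n⟩ := exists_isFullyNormalized F (hWQ.trans hQS)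
      obtain ⟨g, hg, hgi, -⟩ := exists_map_to_fullyNormalized hS hF hW'n hWW'
      obtain ⟨s₀, hs₀, hge⟩ := hbig _ g hTW.le hg
      obtain ⟨i₀, hi₀, hil, -⟩ := hgi.exists_symm
      have hWconj : ∀ a : F.autGroup Q, ∃ s ∈ S, ∀ y ∈ W, autMap (a : MulAut Q) y = s * y * s⁻¹ := by
        intro a
        have haW : IsIso F W W (autMap (a : MulAut Q)) := by
          have hm := ((mem_autGroup_iff hQS).1 a.2).mono hWQ
          exact ⟨hm, hm.image_eq_of_mapsTo (hWinv a)⟩
        have hW'i := (hi₀.comp haW).comp hgi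
        obtain ⟨β, hβ0, hβe⟩ := receptive_extend (receptive_of_isFullyNormalized hS hF hW'n) hW'i
          (N := centralizerIn S W') fun y hy => hW'i.isMap.inExt_of_centralizes hy
        have hβ : IsMap F (W' ⊔ centralizerIn S W') β := hβ0.mono (by rw [sup_comm])
        haveI := finite_of_le hβ.le
        have hβiso : IsIso F (W' ⊔ centralizerIn S W') (W' ⊔ centralizerIn S W') β := by
          refine ⟨hβ, hβ.image_eq_of_mapsTo fun y hy => ?_⟩
          have hy' := hy
          rw [← SetLike.mem_coe, Subgroup.coe_mul_of_right_le_normalizer_left W' _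
            (centralizerIn_le_normalizerIn.trans inf_le_right)] at hy'
          obtain ⟨v, hv, c, hc, rfl⟩ := hy'
          rw [hβ.map_mul (Subgroup.mem_sup_left hv) (Subgroup.mem_sup_right hc), hβe v hv]
          exact mul_mem (Subgroup.mem_sup_left (hW'i.mem hv)) (Subgroup.mem_sup_right
            (hW'i.mem_centralizerIn_of_extends hβ le_sup_left hβe (Subgroup.mem_sup_right hc) hc))
        haveI := finite_of_le (normalizerIn_le (S := S) (P := W' ⊔ centralizerIn S W'))
        have h2 : Nat.card (normalizerIn S W) ≤ Nat.card (normalizerIn S W') :=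
          hW'n.2 _ (isConj_symm hgi.isConj)
        have h3 := Subgroup.card_le_of_le (normalizerIn_le_sup_centralizerIn (S := S) W')
        obtain ⟨s, hs, hse⟩ := hAut _
          (isCentric_sup_centralizerIn (isFullyCentralized_of_isFullyNormalized hS hF hW'n))
          (by omega) (Or.inl (by omega)) β hβiso
        refine ⟨s₀⁻¹ * s * s₀, S.mul_mem (S.mul_mem (S.inv_mem hs₀) hs) hs₀, fun y hy => ?_⟩
        have hWN' : W ≤ normalizerIn S W := le_normalizerIn_self (hWQ.trans hQS)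
        have e := hse (g y) (Subgroup.mem_sup_left (hgi.mem hy))
        rw [hβe _ (hgi.mem hy), Function.comp_apply, Function.comp_apply, hil y hy,
          hge _ (hWN' hy), hge _ (hWN' (haW.mem hy))] at e
        calc autMap (a : MulAut Q) y = s₀⁻¹ * (s₀ * autMap (a : MulAut Q) y * s₀⁻¹) * s₀ := by group
          _ = s₀⁻¹ * (s * (s₀ * y * s₀⁻¹) * s⁻¹) * s₀ := by rw [e]
          _ = _ := by group
      have htriv : ∀ a : F.autGroup Q, (orderOf a).Coprime p → a = 1 := by
        intro a ha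
        rw [← Subgroup.orderOf_coe] at ha
        obtain ⟨s, hs, hse⟩ := hWconj a
        have hWfix : ∀ y ∈ W, autMap (a : MulAut Q) y = y := by
          intro y hy
          have hpow : ∀ n : ℕ, ∀ y ∈ W, autMap ((a : MulAut Q) ^ n) y = s ^ n * y * (s ^ n)⁻¹ := by
            intro n
            induction n with
            | zero => intro y hy; rw [pow_zero, autMap_apply _ (hWQ hy)]; simp
            | succ n ihn =>
              intro y hy
              rw [pow_succ, autMap_mul _ _ (hWQ hy), ihn _ (hWinv a y hy), hse y hy]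
              simp [pow_succ, mul_assoc]
          have h1 := hpow (orderOf (a : MulAut Q)) y hy
          rw [pow_orderOf_eq_one, autMap_apply _ (hWQ hy)] at h1
          have hcm : Commute (s ^ orderOf (a : MulAut Q)) y := mul_inv_eq_iff_eq_mul.1 (show _ = y from h1.symm)
          obtain ⟨k, hk⟩ := hS ⟨s, hs⟩
          have hk' : s ^ p ^ k = 1 := by simpa using congrArg Subtype.val hk
          obtain ⟨r, hr⟩ := exists_pow_eq_self_of_coprime (Nat.Coprime.coprime_dvd_right
            (orderOf_dvd_of_pow_eq_one hk') (ha.pow_right k))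
          have hsy : Commute s y := hr ▸ hcm.pow_left r
          rw [hse y hy, hsy.eq, mul_inv_cancel_right]
        have hone : ρ a = 1 := by
          refine eq_one_of_fix_thompson hp (hQp.to_quotient N) ?_ fun y hy => ?_
          · exact Nat.Coprime.coprime_dvd_left ((Subgroup.orderOf_coe a).symm ▸ orderOf_map_dvd ρ a) ha
          · obtain ⟨q, rfl⟩ := QuotientGroup.mk'_surjective N y
            show ρ a (QuotientGroup.mk q) = QuotientGroup.mk q
            rw [hρ]
            congr 1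
            exact Subtype.ext ((autMap_coe (a : MulAut Q) q).symm.trans (hWfix q ⟨q, hy, rfl⟩))
        exact hK1triv a (hker a hone) ha
      exact fun a => le_sylow_of_normal (N := ⊤) R₀
        ((isPGroup_of_no_coprime htriv).to_subgroup ⊤) (Subgroup.mem_top a)
    · push Not at hCQ
      obtain ⟨t₀, ht₀, ht₀Q⟩ := hCQ
      let H1 : Subgroup (F.autGroup Q) :=
        { carrier := {c | ∀ y : Subgroup.center (Q ⧸ N), y ^ p = 1 → ρ.rangeRestrict c • y = y}
          one_mem' := fun y _ => by rw [map_one, one_smul]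
          mul_mem' := fun {a b} ha hb y hy => by rw [map_mul, mul_smul, hb y hy, ha y hy]
          inv_mem' := fun {a} ha y hy => by
            rw [map_inv]
            conv_lhs => rw [← ha y hy, inv_smul_smul] }
      haveI hH1 : H1.Normal := ⟨fun c hc e y hy => by
        rw [map_mul, map_mul, map_inv, mul_smul, mul_smul, hc _ (by rw [← smul_pow', hy, smul_one]),
          smul_inv_smul]⟩
      obtain ⟨h', rfl⟩ := ρ.rangeRestrict_surjective b
      obtain ⟨g1, g2, rfl, hg2, hg1⟩ := frattini_sylow R₀ H1 h'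
      rw [map_mul, mul_smul, hg2 w hwp]
      refine hwP _ ((hPb _).2 ⟨g1, hctl' g1 ((R₀ : Subgroup (F.autGroup Q)) ⊓ H1) inf_le_left hg1
        (fun c hc v hv => ⟨Subgroup.mul_mem _ (Subgroup.mul_mem _ hc hv.1) (Subgroup.inv_mem _ hc),
          hH1.conj_mem v hv.2 c⟩) ⟨t₀, ht₀Q, (hmemP _).2 (hrange t₀), fun y hy => ?_⟩, rfl⟩)
      refine Subtype.ext (hιinj ?_)
      show ι (ρ (cT t₀) (y : Q ⧸ N)) = ι (y : Q ⧸ N)
      rw [hιc]
      have hy1 : (y : Q ⧸ N) ∈ V1 := ⟨Subgroup.mem_top _, fun q _ => Subgroup.mem_center_iff.1 y.2 q,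
        congrArg Subtype.val hy⟩
      rw [← Subgroup.mem_centralizer_iff.1 ht₀ _ ⟨_, hy1, rfl⟩, mul_inv_cancel_right]

end Cfsg.Agent.H91
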