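import Cfsg.Agent.H91.PSLThree
import Cfsg.Agent.Unitary.Wall
import Cfsg.Agent.Unitary.Center
import Cfsg.Agent.Unitary.Order
import Cfsg.Prelude.Def_LieClassical

/-!
The Sylow 2-subgroup of `PSU₃(q)`, `q` odd: automizer and strongly closed subgroups.
-/

set_option autoImplicit false

namespace Cfsg.Agent.H91.PSU3

open Matrix Cfsg Cfsg.Agent.H91.PSL3

variable {F : Type*} [Field F] [Fintype F] {q : ℕ}

local notation "GL2" => GL (Fin 2) F
local notation "M2" => Matrix (Fin 2) (Fin 2) F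
local notation "SL3" => Matrix.SpecialLinearGroup (Fin 3) F
local notation "M3" => Matrix (Fin 3) (Fin 3) F

theorem two_ne_zero_of_odd (hF : Fintype.card F = q ^ 2) (hodd : q % 2 = 1) : (2 : F) ≠ 0 :=
  Ring.two_ne_zero (fun h => by
    have h1 := FiniteField.even_card_of_char_two h
    rw [hF, Nat.pow_mod, hodd] at h1
    simp at h1)

theorem two_pow_q (hF : Fintype.card F = q ^ 2) : (2 : F) ^ q = 2 := by
  have := Unitary.natCast_pow_q hF 2
  simpa using this

theorem emb_mem_SU_iff (hF : Fintype.card F = q ^ 2) (g : GL2) :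
    emb g ∈ Cfsg.SU 3 F q ↔ g ∈ Cfsg.GU 2 F q := by
  have hq := Unitary.q_ne_zero hF
  rw [Unitary.mem_SU_iff, Unitary.mem_GU_iff, Unitary.preserves_iff_hstar hF,
    Unitary.preserves_iff_hstar hF, emb_val]
  constructor
  · intro h
    have e00 := congrFun (congrFun h 0) 0
    have e01 := congrFun (congrFun h 0) 1
    have e10 := congrFun (congrFun h 1) 0
    have e11 := congrFun (congrFun h 1) 1
    simp [Unitary.hstar, embMat, Matrix.mul_apply, Fin.sum_univ_succ, hq] at e00 e01 e10 e11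
    ext a b
    fin_cases a <;> fin_cases b <;> simp [Unitary.hstar, Matrix.mul_apply, Fin.sum_univ_two] <;> assumption
  · intro h
    have e00 := congrFun (congrFun h 0) 0
    have e01 := congrFun (congrFun h 0) 1
    have e10 := congrFun (congrFun h 1) 0
    have e11 := congrFun (congrFun h 1) 1
    simp [Unitary.hstar, Matrix.mul_apply, Fin.sum_univ_two] at e00 e01 e10 e11
    have hd := congrArg Matrix.det h
    rw [Matrix.det_mul, Matrix.det_one, Unitary.hstar_eq_map hF, Matrix.det_transpose,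
      ← RingHom.map_det] at hd
    change ((g : M2).det) ^ q * (g : M2).det = 1 at hd
    have e22 : ((g : M2).det⁻¹) ^ q * (g : M2).det⁻¹ = 1 := by
      rw [inv_pow, ← mul_inv, hd, inv_one]
    rw [inv_pow] at e22
    ext a b
    fin_cases a <;> fin_cases b <;>
      simp [Unitary.hstar, embMat, Matrix.mul_apply, Fin.sum_univ_succ, hq, e00, e01, e10, e11, e22]

/-- `U = GU₂(q)`. -/
def uG (F : Type*) [Field F] (q : ℕ) : Subgroup (GL (Fin 2) F) := Cfsg.GU 2 F q

theorem jU_mem (hF : Fintype.card F = q ^ 2) : (jU : GL2) ∈ uG F q := by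
  have hq := Unitary.q_ne_zero hF
  rw [uG, Unitary.mem_GU_iff, Unitary.preserves_iff_hstar hF]
  ext a b
  fin_cases a <;> fin_cases b <;>
    simp [Unitary.hstar, jU, Matrix.mul_apply, Fin.sum_univ_two, hq, Unitary.neg_pow_q hF]

theorem dU_mem (hF : Fintype.card F = q ^ 2) : (dU : GL2) ∈ uG F q := by
  have hq := Unitary.q_ne_zero hF
  rw [uG, Unitary.mem_GU_iff, Unitary.preserves_iff_hstar hF]
  ext a b
  fin_cases a <;> fin_cases b <;>
    simp [Unitary.hstar, dU, Matrix.mul_apply, Fin.sum_univ_two, hq, Unitary.neg_pow_q hF]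

/-- A 2-element of `cA` inside `GU₂(q)` with nonscalar square. -/
theorem exists_sq_nonscalar_unitary (hF : Fintype.card F = q ^ 2) (h2 : (2 : F) ≠ 0) :
    ∃ c ∈ (cT : Subgroup GL2) ⊓ uG F q, ∀ r : F, ((c * c : GL2) : M2) ≠ r • (1 : M2) := by
  have hq := Unitary.q_ne_zero hF
  obtain ⟨a, ha⟩ := Unitary.exists_norm_eq hF (a := (2 : F)⁻¹) (by rw [inv_pow, two_pow_q hF])
  have ha0 : a ≠ 0 := by
    rintro rfl
    rw [zero_mul] at ha
    exact h2 (inv_eq_zero.1 ha.symm)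
  obtain ⟨c, hc⟩ := mk_det_ne (!![a, -a; a, a] : M2) (by
    rw [Matrix.det_fin_two_of, show a * a - -a * a = 2 * (a * a) by ring]
    exact mul_ne_zero h2 (mul_ne_zero ha0 ha0))
  have hcA : c ∈ (cA : Subgroup GL2) := mem_cA.2 (by simp [hc])
  have h21 : (2 : F) * (a * a ^ q) = 1 := by rw [ha, mul_inv_cancel₀ h2]
  have hcU : c ∈ uG F q := by
    rw [uG, Unitary.mem_GU_iff, Unitary.preserves_iff_hstar hF, hc]
    ext x y
    fin_cases x <;> fin_cases y <;>
      simp [Unitary.hstar, Matrix.mul_apply, Fin.sum_univ_two, hq, Unitary.neg_pow_q hF] <;>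
      linear_combination h21
  obtain ⟨e, m, hm, hem⟩ := Nat.exists_eq_two_pow_mul_odd (orderOf_pos c).ne'
  refine ⟨c ^ m, ⟨⟨pow_mem hcA m, e, ?_⟩, pow_mem hcU m⟩, fun r hr => ?_⟩
  · rw [← pow_mul, mul_comm, ← hem, pow_orderOf_eq_one]
  obtain ⟨l, rfl⟩ := hm
  have hcc : ((c * c : GL2) : M2) = (2 * (a * a)) • ((jU : GL2) : M2) := by
    rw [Units.val_mul, hc]
    ext x y
    fin_cases x <;> fin_cases y <;> simp [jU, Matrix.mul_apply, Fin.sum_univ_two] <;> ring
  have hpow : ((c ^ (2 * l + 1) * c ^ (2 * l + 1) : GL2) : M2) =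
      ((2 * (a * a)) ^ (2 * l + 1) * (-1) ^ l) • ((jU : GL2) : M2) := by
    rw [show c ^ (2 * l + 1) * c ^ (2 * l + 1) = (c * c) ^ (2 * l + 1) from
        ((Commute.refl c).mul_pow _).symm,
      Units.val_pow_eq_pow_val, hcc, smul_pow, pow_succ ((jU : GL2) : M2), pow_mul, pow_two,
      ← Units.val_mul jU jU, jU_sq,
      show ((-1 : M2)) ^ l = ((-1 : F) ^ l) • (1 : M2) by
        rw [show (-1 : M2) = (-1 : F) • (1 : M2) by simp, smul_pow, one_pow],
      Matrix.smul_mul, one_mul, smul_smul]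
  rw [hpow] at hr
  have h10 := congrFun (congrFun hr 1) 0
  simp [jU, h2, ha0] at h10

variable (F q) in
/-- The Sylow subgroup of `GU₂(q)`. -/
def sU : Subgroup (GL (Fin 2) F) := sT ⊓ uG F q

theorem sU_normalizes (hF : Fintype.card F = q ^ 2) (h2 : (2 : F) ≠ 0) {g : GL2} (hgU : g ∈ uG F q)
    (hg : ∀ x ∈ sU F q, g * x * g⁻¹ ∈ sU F q) :
    ∃ s ∈ sU F q, ∀ x ∈ sU F q, g * x * g⁻¹ = s * x * s⁻¹ :=
  normalizes_gen h2 (jU_mem hF) (dU_mem hF) (exists_sq_nonscalar_unitary hF h2) hgU hg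

/-- `GU₂(q) → SU₃(q)`. -/
def embU (hF : Fintype.card F = q ^ 2) : uG F q →* Cfsg.SU 3 F q :=
  (emb.comp (uG F q).subtype).codRestrict _ fun g => (emb_mem_SU_iff hF g).2 g.2

/-- `GU₂(q) → PSU₃(q)`. -/
noncomputable def psiU (hF : Fintype.card F = q ^ 2) : uG F q →* Cfsg.PSU 3 F q :=
  (QuotientGroup.mk' (Subgroup.center (Cfsg.SU 3 F q))).comp (embU hF)

theorem embU_val (hF : Fintype.card F = q ^ 2) (g : uG F q) :
    ((embU hF g : Cfsg.SU 3 F q) : SL3) = emb (g : GL2) := rfl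

theorem embU_injective (hF : Fintype.card F = q ^ 2) : Function.Injective (embU (F := F) hF) :=
  fun _ _ h => Subtype.ext (emb_injective (congrArg Subtype.val h))

theorem center_scalar (hF : Fintype.card F = q ^ 2) {z : Cfsg.SU 3 F q}
    (hz : z ∈ Subgroup.center (Cfsg.SU 3 F q)) :
    ∃ r : F, r ^ 3 = 1 ∧ ((z : SL3) : M3) = r • (1 : M3) := by
  obtain ⟨l, hl⟩ := Unitary.eq_smul_of_mem_center hF (by norm_num) hz
  have e : ((z : SL3) : M3) = l • (1 : M3) := Unitary.mat_of_ap_smul hl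
  refine ⟨l, ?_, e⟩
  have h := (z : SL3).2
  rw [e, Matrix.det_smul, Matrix.det_one, mul_one, Fintype.card_fin] at h
  exact h

theorem eq_one_of_centerU (hF : Fintype.card F = q ^ 2) {z : Cfsg.SU 3 F q}
    (hz : z ∈ Subgroup.center (Cfsg.SU 3 F q)) {k : ℕ} (hk : z ^ (2 ^ k) = 1) : z = 1 := by
  obtain ⟨r, hr, he⟩ := center_scalar hF hz
  have h := congrArg (fun w : Cfsg.SU 3 F q => ((w : SL3) : M3)) hk
  simp only [SubmonoidClass.coe_pow, Matrix.SpecialLinearGroup.coe_pow, OneMemClass.coe_one,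
    Matrix.SpecialLinearGroup.coe_one, he, smul_pow, one_pow] at h
  have h00 := congrFun (congrFun h 0) 0
  simp at h00
  refine Subtype.ext (Subtype.ext ?_)
  rw [he, eq_one_of_cube_two hr h00, one_smul]
  rfl

/-- The Sylow subgroup. -/
noncomputable def sOneU (hF : Fintype.card F = q ^ 2) : Subgroup (Cfsg.PSU 3 F q) :=
  ((sU F q).subgroupOf (uG F q)).map (psiU hF)

theorem psiU_injOn (hF : Fintype.card F = q ^ 2) {x y : uG F q} (hx : (x : GL2) ∈ sU F q)
    (hy : (y : GL2) ∈ sU F q) (h : psiU hF x = psiU hF y) : x = y := by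
  have h' : (embU hF x)⁻¹ * embU hF y ∈ Subgroup.center (Cfsg.SU 3 F q) := QuotientGroup.eq.1 h
  rw [← map_inv, ← map_mul] at h'
  obtain ⟨k, hk⟩ := sT_twoPow (mul_mem (inv_mem hx.1) hy.1)
  have e := eq_one_of_centerU hF h' (k := k) (by
    rw [← map_pow, show (x⁻¹ * y) ^ (2 ^ k) = 1 from Subtype.ext (by simpa using hk), map_one])
  rw [← map_one (embU (F := F) hF)] at e
  exact inv_mul_eq_one.1 (embU_injective hF e)

theorem sOneU_isPGroup (hF : Fintype.card F = q ^ 2) : IsPGroup 2 ↥(sOneU (F := F) hF) := by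
  rintro ⟨_, x, hx, rfl⟩
  obtain ⟨k, hk⟩ := sT_twoPow (show (x : GL2) ∈ sT from hx.1)
  refine ⟨k, Subtype.ext ?_⟩
  rw [SubmonoidClass.coe_pow, ← map_pow, show x ^ (2 ^ k) = 1 from Subtype.ext (by simpa using hk),
    map_one]
  rfl

/-- An element normalizing `sOneU` comes from `GU₂(q)` and induces an inner automorphism. -/
theorem normalizer_sOneU (hF : Fintype.card F = q ^ 2) (h2 : (2 : F) ≠ 0) {g : Cfsg.PSU 3 F q}
    (hg : ∀ x ∈ sOneU hF, g * x * g⁻¹ ∈ sOneU hF) :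
    ∃ a : uG F q, g = psiU hF a ∧ ∃ s : uG F q, (s : GL2) ∈ sU F q ∧
      ∀ x : uG F q, (x : GL2) ∈ sU F q → a * x * a⁻¹ = s * x * s⁻¹ := by
  obtain ⟨g', rfl⟩ := QuotientGroup.mk'_surjective (Subgroup.center (Cfsg.SU 3 F q)) g
  have key : ∀ x : uG F q, (x : GL2) ∈ sU F q →
      ∃ y : uG F q, (y : GL2) ∈ sU F q ∧ g' * embU hF x * g'⁻¹ = embU hF y := by
    intro x hx
    obtain ⟨y, hy, he⟩ := hg (psiU hF x) ⟨x, hx, rfl⟩
    refine ⟨y, hy, ?_⟩
    set z := (embU hF y)⁻¹ * (g' * embU hF x * g'⁻¹) with hz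
    have hzc : z ∈ Subgroup.center (Cfsg.SU 3 F q) := by
      refine QuotientGroup.eq.1 ?_
      show psiU hF y = _
      rw [he]
      rfl
    obtain ⟨k, hk⟩ := sT_twoPow hx.1
    obtain ⟨l, hl⟩ := sT_twoPow (show (y : GL2) ∈ sT from hy.1)
    have hk' : x ^ (2 ^ k) = 1 := Subtype.ext (by simpa using hk)
    have hl' : y ^ (2 ^ l) = 1 := Subtype.ext (by simpa using hl)
    have e : g' * embU hF x * g'⁻¹ = embU hF y * z := by rw [hz]; group
    have hc : Commute (embU hF y) z := Subgroup.mem_center_iff.1 hzc _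
    have h1 : z ^ (2 ^ (k + l)) = 1 := by
      have h := congrArg (· ^ (2 ^ (k + l))) e
      simp only [conj_pow, hc.mul_pow, ← map_pow] at h
      rw [pow_add, pow_mul, hk', one_pow, map_one, mul_one, mul_inv_cancel, mul_comm (2 ^ k),
        pow_mul y, hl', one_pow, map_one, one_mul] at h
      rw [pow_add, mul_comm]
      exact h.symm
    rw [e, eq_one_of_centerU hF hzc h1, mul_one]
  have key' : ∀ x ∈ sU F q, ∃ y ∈ sU F q, (g' : SL3) * emb x * (g' : SL3)⁻¹ = emb y := by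
    intro x hx
    obtain ⟨y, hy, he⟩ := key ⟨x, hx.2⟩ hx
    exact ⟨y, hy, congrArg Subtype.val he⟩
  have hjT : (jU : GL2) ∈ sU F q := ⟨Or.inl jU_mem_cT, jU_mem hF⟩
  have hdT : (dU : GL2) ∈ sU F q := ⟨dU_mem_sT, dU_mem hF⟩
  obtain ⟨y, hy, hye⟩ := key' _ (mul_mem hjT hjT)
  have hyx : y = jU * jU := by
    have hjscal : ((jU * jU : GL2) : M2) = (-1 : F) • (1 : M2) := by rw [jU_sq]; simp
    have hcen : ∀ w ∈ sU F q, Commute y w := by
      intro w hw
      have himg : ∀ v ∈ (sU F q).map emb, (g' : SL3) * v * (g' : SL3)⁻¹ ∈ (sU F q).map emb := by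
        rintro _ ⟨v, hv, rfl⟩
        obtain ⟨u, hu, he⟩ := key' v hv
        exact ⟨u, hu, he.symm⟩
      haveI : Finite ((sU F q).map (emb (F := F))) := inferInstance
      let f : (sU F q).map (emb (F := F)) → (sU F q).map (emb (F := F)) :=
        fun u => ⟨(g' : SL3) * u * (g' : SL3)⁻¹, himg u u.2⟩
      have hf : Function.Injective f := fun a b hab => by
        have h := congrArg Subtype.val hab
        exact Subtype.ext (mul_left_cancel (mul_right_cancel h))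
      obtain ⟨⟨_, v, hv, rfl⟩, he⟩ :=
        (Finite.injective_iff_surjective.1 hf) ⟨emb w, ⟨w, hw, rfl⟩⟩
      have hv2 : emb w = (g' : SL3) * emb v * (g' : SL3)⁻¹ := (congrArg Subtype.val he).symm
      refine emb_injective ?_
      rw [map_mul, map_mul, hv2, ← hye,
        show (g' : SL3) * emb (jU * jU) * (g' : SL3)⁻¹ * ((g' : SL3) * emb v * (g' : SL3)⁻¹) =
          (g' : SL3) * (emb (jU * jU) * emb v) * (g' : SL3)⁻¹ by group, ← map_mul,
        commute_of_scalar hjscal v, map_mul]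
      group
    have hyA : y ∈ (cA : Subgroup GL2) :=
      Subgroup.mem_centralizer_singleton_iff.2 (hcen jU hjT).eq
    have hys := scalar_of_cA hyA (hcen dU hdT).symm.eq h2
    set r := (y : M2) 0 0 with hr
    have hj4 : (jU * jU : GL2) * (jU * jU) = 1 := by
      rw [← jU_pow_four]; simp only [pow_succ, pow_zero, one_mul, mul_assoc]
    have hy2 : y * y = 1 := by
      refine emb_injective ?_
      rw [map_mul, map_one, ← hye,
        show (g' : SL3) * emb (jU * jU) * (g' : SL3)⁻¹ * ((g' : SL3) * emb (jU * jU) * (g' : SL3)⁻¹) =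
          (g' : SL3) * (emb (jU * jU) * emb (jU * jU)) * (g' : SL3)⁻¹ by group, ← map_mul, hj4, map_one]
      group
    have hy1 : y ≠ 1 := by
      intro h
      rw [h, map_one, mul_inv_eq_one, mul_eq_left] at hye
      have h1 := congrArg (fun z : GL2 => (z : M2) 0 0)
        (emb_injective (hye.trans (map_one emb).symm))
      simp [jU] at h1
      exact h2 (by linear_combination -h1)
    have h00 := congrArg (fun z : GL2 => (z : M2) 0 0) hy2
    simp [hys] at h00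
    rcases mul_self_eq_one_iff.1 h00 with h | h
    · exact absurd (Units.ext (by rw [hys, h, one_smul, Units.val_one])) hy1
    · exact Units.ext (by rw [hys, h, jU_sq]; simp)
  rw [hyx, mul_inv_eq_iff_eq_mul] at hye
  set G3 := ((g' : SL3) : M3) with hG3
  have hc : ∀ a b : Fin 3,
      ((G3 * embMat (jU * jU) : M3)) a b = ((embMat (jU * jU) * G3 : M3)) a b := fun a b =>
    congrArg (fun z : SL3 => (z : M3) a b) hye
  have hJ : embMat (jU * jU : GL2) = !![-1, 0, 0; 0, -1, 0; 0, 0, 1] := by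
    rw [embMat, jU_sq]
    simp [Matrix.det_fin_two]
  rw [hJ] at hc
  have hzero : G3 0 2 = 0 ∧ G3 1 2 = 0 ∧ G3 2 0 = 0 ∧ G3 2 1 = 0 := by
    have a1 := hc 0 2
    have a2 := hc 1 2
    have a3 := hc 2 0
    have a4 := hc 2 1
    simp [Matrix.mul_apply, Fin.sum_univ_succ] at a1 a2 a3 a4
    refine ⟨?_, ?_, ?_, ?_⟩ <;> refine (mul_eq_zero.1 (?_ : (2 : F) * _ = 0)).resolve_left h2
    · linear_combination a1
    · linear_combination a2
    · linear_combination -a3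
    · linear_combination -a4
  obtain ⟨z1, z2, z3, z4⟩ := hzero
  have hdet : (G3 0 0 * G3 1 1 - G3 0 1 * G3 1 0) * G3 2 2 = 1 := by
    have h := (g' : SL3).2
    rw [Matrix.det_fin_three, ← hG3] at h
    simp only [z1, z2, z3, z4] at h
    linear_combination h
  obtain ⟨a, ha⟩ := mk_det_ne !![G3 0 0, G3 0 1; G3 1 0, G3 1 1]
    (by rw [Matrix.det_fin_two_of]; intro h; rw [h, zero_mul] at hdet; exact zero_ne_one hdet)
  have hga : (g' : SL3) = emb a := by
    refine Subtype.ext ?_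
    rw [emb_val, embMat, ha, Matrix.det_fin_two_of, ← hG3]
    ext i j
    fin_cases i <;> fin_cases j <;> simp [z1, z2, z3, z4]
    exact eq_inv_of_mul_eq_one_right hdet
  have haU : a ∈ uG F q := (emb_mem_SU_iff hF a).1 (hga ▸ g'.2)
  obtain ⟨s, hs, he⟩ := sU_normalizes hF h2 haU fun x hx => by
    obtain ⟨y, hy, he⟩ := key' x hx
    rw [hga, ← map_inv, ← map_mul, ← map_mul] at he
    rwa [emb_injective he]
  refine ⟨⟨a, haU⟩, ?_, ⟨s, hs.2⟩, hs, fun x hx => Subtype.ext (he x hx)⟩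
  show QuotientGroup.mk' _ g' = QuotientGroup.mk' _ _
  exact congrArg _ (Subtype.ext hga)

theorem exists_sylowU (hF : Fintype.card F = q ^ 2) (h2 : (2 : F) ≠ 0) :
    ∃ S : Sylow 2 (Cfsg.PSU 3 F q), (S : Subgroup (Cfsg.PSU 3 F q)) = sOneU hF := by
  obtain ⟨R, hR⟩ := (sOneU_isPGroup (F := F) hF).exists_le_sylow
  refine ⟨R, le_antisymm ?_ hR⟩
  by_contra hlt
  have : Group.IsNilpotent (R : Subgroup (Cfsg.PSU 3 F q)) := R.isPGroup'.isNilpotent
  have hne : (sOneU (F := F) hF).subgroupOf R < ⊤ :=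
    lt_top_iff_ne_top.2 fun h => hlt (Subgroup.subgroupOf_eq_top.1 h)
  obtain ⟨m, hm1, hm2⟩ := SetLike.exists_of_lt (Group.normalizerCondition_of_isNilpotent _ hne)
  refine hm2 ?_
  have hg : ∀ x ∈ sOneU hF, (m : Cfsg.PSU 3 F q) * x * (m : Cfsg.PSU 3 F q)⁻¹ ∈ sOneU hF :=
    fun x hx => (Subgroup.mem_normalizer_iff.1 hm1 ⟨x, hR hx⟩).1 hx
  obtain ⟨a, hma, s, hs, he⟩ := normalizer_sOneU hF h2 hg
  set k := s⁻¹ * a with hk
  have hak : a = s * k := by rw [hk]; group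
  have hkc : ∀ x ∈ sU F q, Commute (k : GL2) x := fun x hx => by
    have h : (a : GL2) * x * (a : GL2)⁻¹ = (s : GL2) * x * (s : GL2)⁻¹ :=
      congrArg Subtype.val (he ⟨x, hx.2⟩ hx)
    show (k : GL2) * x = x * (k : GL2)
    rw [hk, Subgroup.coe_mul, Subgroup.coe_inv]
    calc (s : GL2)⁻¹ * a * x = (s : GL2)⁻¹ * ((a : GL2) * x * (a : GL2)⁻¹) * a := by group
      _ = x * ((s : GL2)⁻¹ * a) := by rw [h]; group
  have hkA : (k : GL2) ∈ (cA : Subgroup GL2) :=
    Subgroup.mem_centralizer_singleton_iff.2 (hkc jU ⟨Or.inl jU_mem_cT, jU_mem hF⟩).eq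
  have hks := scalar_of_cA hkA (hkc dU ⟨dU_mem_sT, dU_mem hF⟩).symm.eq h2
  set r := (((k : GL2)) : M2) 0 0 with hr
  have hmR : psiU hF k ∈ (R : Subgroup (Cfsg.PSU 3 F q)) := by
    have : psiU hF k = (psiU hF s)⁻¹ * (m : Cfsg.PSU 3 F q) := by rw [hma, hk, map_mul, map_inv]
    rw [this]
    exact mul_mem (inv_mem (hR ⟨s, hs, rfl⟩)) m.2
  obtain ⟨n, hn⟩ := R.isPGroup' ⟨_, hmR⟩
  have hn' : psiU hF (k ^ (2 ^ n)) = 1 := by
    rw [map_pow]; exact congrArg Subtype.val hn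
  have hcen : embU hF (k ^ (2 ^ n)) ∈ Subgroup.center (Cfsg.SU 3 F q) :=
    (QuotientGroup.eq_one_iff _).1 hn'
  have hkn : (((k ^ (2 ^ n) : uG F q) : GL2) : M2) = r ^ (2 ^ n) • (1 : M2) := by
    rw [SubmonoidClass.coe_pow, Units.val_pow_eq_pow_val, hks, smul_pow, one_pow]
  obtain ⟨t, -, ht⟩ := center_scalar hF hcen
  rw [embU_val, emb_val, embMat, hkn] at ht
  have t0 := congrFun (congrFun ht 0) 0
  have t2 := congrFun (congrFun ht 2) 2
  simp [Matrix.det_fin_two] at t0 t2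
  have hr0 : r ≠ 0 := by
    intro h0
    apply det_ne (k : GL2)
    rw [hks, h0, zero_smul, Matrix.det_zero]
  have h3 : (r ^ 2 ^ n) ^ 3 = 1 := by
    have hne : r ^ 2 ^ n ≠ 0 := pow_ne_zero _ hr0
    have e : r ^ 2 ^ n * (r ^ 2 ^ n * r ^ 2 ^ n) = 1 := by
      have := t0.trans t2.symm
      field_simp at this
      first
        | exact this
        | linear_combination this
        | linear_combination -this
    linear_combination e
  have hk3 : ((k ^ 3 : uG F q) : GL2) ∈ (cT : Subgroup GL2) := by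
    rw [SubmonoidClass.coe_pow]
    refine ⟨pow_mem hkA 3, n, Units.ext ?_⟩
    rw [← pow_mul, Units.val_pow_eq_pow_val, hks, smul_pow, one_pow, mul_comm 3, pow_mul, h3,
      one_smul, Units.val_one]
  obtain ⟨α, β, hab⟩ := eq_zpow_mul_zpow k (by decide : Odd 3) n
  show (m : Cfsg.PSU 3 F q) ∈ sOneU hF
  rw [hma, hak, map_mul]
  refine mul_mem ⟨s, hs, rfl⟩ ?_
  rw [hab, map_mul, map_zpow (psiU hF) (k ^ 2 ^ n), hn', _root_.one_zpow, mul_one, map_zpow]
  exact zpow_mem (show psiU hF (k ^ 3) ∈ sOneU hF from ⟨_, ⟨Or.inl hk3, (k ^ 3).2⟩, rfl⟩) α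

theorem exists_GU_conj (hF : Fintype.card F = q ^ 2) {u v : GL2} (hu : u ∈ uG F q) (hv : v ∈ uG F q)
    (hu' : ∀ r : F, (u : M2) ≠ r • (1 : M2)) (hv' : ∀ r : F, (v : M2) ≠ r • (1 : M2))
    (ht : (u : M2).trace = (v : M2).trace) (hd : (u : M2).det = (v : M2).det) :
    ∃ P ∈ uG F q, P * v * P⁻¹ = u := by
  obtain ⟨Q, hQ⟩ := isConj_of_trace_det hu' hv' ht hd
  obtain ⟨g, hg⟩ := isConj_iff.1
    ((Unitary.isConj_GU_iff hF ⟨v, hv⟩ ⟨u, hu⟩).2 (isConj_iff.2 ⟨Q, hQ⟩))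
  exact ⟨g, g.2, congrArg Subtype.val hg⟩

theorem involution_facts {u : GL2} (hu : u * u = 1) (hs : ∀ r : F, (u : M2) ≠ r • (1 : M2)) :
    (u : M2).trace = 0 ∧ (u : M2).det = -1 := by
  have h := congrArg Units.val hu
  rw [Units.val_mul, Units.val_one] at h
  have e00 := congrFun (congrFun h 0) 0
  have e01 := congrFun (congrFun h 0) 1
  have e10 := congrFun (congrFun h 1) 0
  have e11 := congrFun (congrFun h 1) 1
  simp [Matrix.mul_apply, Fin.sum_univ_two] at e00 e01 e10 e11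
  have htr : (u : M2) 0 0 + (u : M2) 1 1 = 0 := by
    by_contra hne'
    have b0 : (u : M2) 0 1 = 0 :=
      (mul_eq_zero.1 (by linear_combination e01 :
        ((u : M2) 0 0 + (u : M2) 1 1) * (u : M2) 0 1 = 0)).resolve_left hne'
    have c0 : (u : M2) 1 0 = 0 :=
      (mul_eq_zero.1 (by linear_combination e10 :
        ((u : M2) 0 0 + (u : M2) 1 1) * (u : M2) 1 0 = 0)).resolve_left hne'
    rw [b0, c0] at e00 e11
    have : ((u : M2) 0 0 - (u : M2) 1 1) * ((u : M2) 0 0 + (u : M2) 1 1) = 0 := by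
      linear_combination e00 - e11
    have e : (u : M2) 1 1 = (u : M2) 0 0 :=
      (sub_eq_zero.1 ((mul_eq_zero.1 this).resolve_right hne')).symm
    exact hs ((u : M2) 0 0) (by ext a b; fin_cases a <;> fin_cases b <;> simp [b0, c0, e])
  refine ⟨by rw [Matrix.trace_fin_two, htr], ?_⟩
  rw [Matrix.det_fin_two]
  linear_combination -e00 + (u : M2) 0 0 * htr

/-- Elements `M` of the centralizer with prescribed eigenvalues of norm one. -/
theorem exists_cT_eigen (hF : Fintype.card F = q ^ 2) (h2 : (2 : F) ≠ 0) {i : F} (hi : i * i = -1)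
    (hiq : i ^ q = -i) {p p' : F} {k : ℕ} (hp : p * p ^ q = 1) (hp' : p' * p' ^ q = 1) (hne : p ≠ p')
    (hpk : p ^ (2 ^ k) = 1) (hqk : p' ^ (2 ^ k) = 1) :
    ∃ M ∈ (cT : Subgroup GL2) ⊓ uG F q, (M : M2).det = p * p' ∧
      ∃ P ∈ uG F q, ((P * M * P⁻¹ : GL2) : M2) = !![p, 0; 0, p'] := by
  have hq := Unitary.q_ne_zero hF
  have hi0 : i ≠ 0 := by rintro rfl; simp at hi
  have hp0 : p ≠ 0 := by rintro rfl; simp at hp
  have hp0' : p' ≠ 0 := by rintro rfl; simp at hp'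
  have hdet : (!![(p + p') / 2, -((p - p') / (2 * i)); (p - p') / (2 * i), (p + p') / 2] : M2).det =
      p * p' := by
    rw [Matrix.det_fin_two_of]
    field_simp
    linear_combination (p + p') ^ 2 * hi - 4 * p * p' * hi
  obtain ⟨M, hM⟩ := mk_det_ne _ (hdet.trans_ne (mul_ne_zero hp0 hp0'))
  obtain ⟨D, hD⟩ := mk_det_ne (!![p, 0; 0, p'] : M2) (by
    rw [Matrix.det_fin_two_of, mul_zero, sub_zero]; exact mul_ne_zero hp0 hp0')
  have hσa : ((p + p') / 2) ^ q = (p ^ q + p' ^ q) / 2 := by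
    rw [div_pow, Unitary.add_pow_q hF, two_pow_q hF]
  have hσb : ((p - p') / (2 * i)) ^ q = -((p ^ q - p' ^ q) / (2 * i)) := by
    rw [div_pow, Unitary.sub_pow_q hF, mul_pow, two_pow_q hF, hiq]
    field_simp
  have hMU : M ∈ uG F q := by
    rw [uG, Unitary.mem_GU_iff, Unitary.preserves_iff_hstar hF, hM]
    ext a b
    fin_cases a <;> fin_cases b <;>
      simp [Unitary.hstar, Matrix.mul_apply, Fin.sum_univ_two, Unitary.neg_pow_q hF, hσa, hσb] <;>
      field_simp <;>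
      first
        | linear_combination ((p ^ q + p' ^ q) * (p + p') - 4) * hi - 2 * hp - 2 * hp'
        | linear_combination -((p ^ q + p' ^ q) * (p + p') - 4) * hi + 2 * hp + 2 * hp'
        | linear_combination (2 : F) * hp - 2 * hp'
        | linear_combination -(2 : F) * hp + 2 * hp'
  have hDU : D ∈ uG F q := by
    rw [uG, Unitary.mem_GU_iff, Unitary.preserves_iff_hstar hF, hD]
    ext a b
    fin_cases a <;> fin_cases b <;>
      simp [Unitary.hstar, Matrix.mul_apply, Fin.sum_univ_two, hq] <;>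
      first
        | linear_combination hp
        | linear_combination hp'
  have hMn : ∀ r : F, (M : M2) ≠ r • (1 : M2) := by
    intro r h
    have := congrFun (congrFun h 1) 0
    simp [hM, h2, hi0, sub_eq_zero] at this
    exact hne this
  have hDn : ∀ r : F, (D : M2) ≠ r • (1 : M2) := by
    intro r h
    have e0 := congrFun (congrFun h 0) 0
    have e1 := congrFun (congrFun h 1) 1
    simp [hD] at e0 e1
    exact hne (e0.trans e1.symm)
  obtain ⟨P, hPU, hP⟩ := exists_GU_conj hF hDU hMU hDn hMn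
    (by rw [hD, hM, Matrix.trace_fin_two, Matrix.trace_fin_two]; simp; field_simp; ring)
    (by rw [hD, hM, hdet, Matrix.det_fin_two_of]; ring)
  refine ⟨M, ⟨⟨mem_cA.2 (by simp [hM]), k, ?_⟩, hMU⟩, by rw [hM, hdet], P, hPU, by rw [hP, hD]⟩
  have hDk : D ^ (2 ^ k) = 1 := by
    refine Units.ext ?_
    rw [Units.val_pow_eq_pow_val, hD,
      show (!![p, 0; 0, p'] : M2) = Matrix.diagonal ![p, p'] by
        ext a b; fin_cases a <;> fin_cases b <;> simp, Matrix.diagonal_pow, Units.val_one]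
    ext a b
    fin_cases a <;> fin_cases b <;> simp [hpk, hqk]
  rw [← hP, conj_pow, mul_inv_eq_one, mul_eq_left] at hDk
  exact hDk

/-- `T` is `sOneU` if it is nontrivial and closed under conjugation inside `sOneU`. -/
theorem eq_sOneU_of_closed (hF : Fintype.card F = q ^ 2) (h2 : (2 : F) ≠ 0)
    {T : Subgroup (Cfsg.PSU 3 F q)} (hT : T ≤ sOneU hF) (hne : T ≠ ⊥)
    (hcl : ∀ x ∈ T, ∀ g : Cfsg.PSU 3 F q, g * x * g⁻¹ ∈ sOneU hF → g * x * g⁻¹ ∈ T) :
    T = sOneU hF := by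
  have hq := Unitary.q_ne_zero hF
  set T' : Subgroup GL2 := (T.comap (psiU hF)).map (uG F q).subtype ⊓ sT with hT'
  have memT : ∀ (u : GL2) (hu : u ∈ T'), ∃ hU : u ∈ uG F q, psiU hF ⟨u, hU⟩ ∈ T := by
    rintro _ ⟨⟨⟨u, hU⟩, hu, rfl⟩, -⟩
    exact ⟨hU, hu⟩
  have mv : ∀ u ∈ T', ∀ v ∈ sU F q,
      (∃ P : Cfsg.SU 3 F q, (P : SL3) * emb u * (P : SL3)⁻¹ = emb v) → v ∈ T' := by
    rintro u hu v hv ⟨P, hP⟩
    obtain ⟨hU, huT⟩ := memT u hu
    have e : QuotientGroup.mk' (Subgroup.center (Cfsg.SU 3 F q)) P * psiU hF ⟨u, hU⟩ *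
        (QuotientGroup.mk' (Subgroup.center (Cfsg.SU 3 F q)) P)⁻¹ = psiU hF ⟨v, hv.2⟩ := by
      show _ = QuotientGroup.mk' (Subgroup.center (Cfsg.SU 3 F q)) (embU hF ⟨v, hv.2⟩)
      rw [show embU hF ⟨v, hv.2⟩ = P * embU hF ⟨u, hU⟩ * P⁻¹ from Subtype.ext hP.symm, map_mul,
        map_mul, map_inv]
      rfl
    refine ⟨⟨⟨v, hv.2⟩, ?_, rfl⟩, hv.1⟩
    show psiU hF ⟨v, hv.2⟩ ∈ T
    rw [← e]
    exact hcl _ huT _ (e ▸ ⟨⟨v, hv.2⟩, hv, rfl⟩)
  have memU : ∀ u ∈ T', u ∈ uG F q := fun u hu => (memT u hu).1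
  have mv2 : ∀ u ∈ T', ∀ v ∈ sU F q, (∀ r : F, (u : M2) ≠ r • (1 : M2)) →
      (∀ r : F, (v : M2) ≠ r • (1 : M2)) → (u : M2).trace = (v : M2).trace →
      (u : M2).det = (v : M2).det → v ∈ T' := by
    intro u hu v hv hu' hv' ht hd
    obtain ⟨P, hPU, hP⟩ := exists_GU_conj hF hv.2 (memU u hu) hv' hu' ht.symm hd.symm
    refine mv u hu v hv ⟨⟨emb P, (emb_mem_SU_iff hF P).2 hPU⟩, ?_⟩
    show emb P * emb u * (emb P)⁻¹ = emb v
    rw [← map_inv, ← map_mul, ← map_mul, hP]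
  have hinv : ∀ u ∈ uG F q, u * u = 1 → u ≠ 1 →
      ∃ P : Cfsg.SU 3 F q, (P : SL3) * emb u * (P : SL3)⁻¹ = emb dU := by
    intro u huU hu hu1
    by_cases hs : ∃ r : F, (u : M2) = r • (1 : M2)
    · obtain ⟨r, hr⟩ := hs
      have h00 := congrArg (fun z : GL2 => (z : M2) 0 0) hu
      simp [hr] at h00
      rcases mul_self_eq_one_iff.1 h00 with h | h
      · exact absurd (Units.ext (by rw [hr, h, one_smul, Units.val_one])) hu1
      · let C : SL3 := ⟨!![0, 0, 1; 1, 0, 0; 0, 1, 0], by simp [Matrix.det_fin_three]⟩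
        have hC : C ∈ Cfsg.SU 3 F q := by
          rw [Unitary.mem_SU_iff, Unitary.preserves_iff_hstar hF]
          change Unitary.hstar q (!![0, 0, 1; 1, 0, 0; 0, 1, 0] : M3) * !![0, 0, 1; 1, 0, 0; 0, 1, 0] = 1
          ext a b
          fin_cases a <;> fin_cases b <;>
            simp [Unitary.hstar, Matrix.mul_apply, Fin.sum_univ_succ, hq]
        refine ⟨⟨C, hC⟩, ?_⟩
        refine mul_inv_eq_iff_eq_mul.2 ?_
        refine Subtype.ext ?_
        change (!![0, 0, 1; 1, 0, 0; 0, 1, 0] : M3) * embMat u =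
          embMat dU * !![0, 0, 1; 1, 0, 0; 0, 1, 0]
        rw [embMat, embMat, hr, h]
        ext a b
        fin_cases a <;> fin_cases b <;>
          simp [dU, Matrix.mul_apply, Fin.sum_univ_succ, Matrix.det_fin_two]
    · simp only [not_exists] at hs
      obtain ⟨htr, hdt⟩ := involution_facts hu hs
      obtain ⟨P, hPU, hP⟩ := exists_GU_conj hF (dU_mem hF) huU (nonscalar_of_not_cA (dU_not_cA h2)) hs
        (by rw [htr, Matrix.trace_fin_two]; simp [dU])
        (by rw [hdt, Matrix.det_fin_two]; simp [dU])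
      refine ⟨⟨emb P, (emb_mem_SU_iff hF P).2 hPU⟩, ?_⟩
      show emb P * emb u * (emb P)⁻¹ = emb dU
      rw [← map_inv, ← map_mul, ← map_mul, hP]
  haveI : Nontrivial T := (Subgroup.nontrivial_iff_ne_bot T).2 hne
  have hTp : IsPGroup 2 T := (sOneU_isPGroup (F := F) hF).to_le hT
  obtain ⟨n, hn0, hn⟩ := IsPGroup.nontrivial_iff_card hTp |>.1 inferInstance
  obtain ⟨t, ht⟩ := exists_prime_orderOf_dvd_card' 2
    (show 2 ∣ Nat.card T from hn ▸ dvd_pow_self 2 (by omega))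
  obtain ⟨u, hu, hut⟩ := hT t.2
  have hdS : (dU : GL2) ∈ sU F q := ⟨dU_mem_sT, dU_mem hF⟩
  have ht2 : (t : Cfsg.PSU 3 F q) * t = 1 := by
    have := pow_orderOf_eq_one t
    rw [ht, pow_two] at this
    exact congrArg Subtype.val this
  have hu' : (u : GL2) ∈ sU F q := hu
  have hu2 : u * u = 1 :=
    psiU_injOn hF (mul_mem hu' hu') (one_mem (sU F q)) (by rw [map_mul, hut, ht2, map_one])
  have hu1 : u ≠ 1 := by
    rintro rfl
    rw [map_one] at hut
    have : t = 1 := Subtype.ext hut.symm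
    rw [this, orderOf_one] at ht
    omega
  have huT : (u : GL2) ∈ T' :=
    ⟨⟨u, show psiU hF u ∈ T from hut.symm ▸ t.2, rfl⟩, hu'.1⟩
  have hdT : (dU : GL2) ∈ T' := mv u huT dU hdS
    (hinv u u.2 (congrArg Subtype.val hu2) fun h => hu1 (Subtype.ext h))
  have hinvT : ∀ v ∈ sU F q, v * v = 1 → v ∈ T' := by
    intro v hv hv2
    by_cases hv1 : v = 1
    · exact hv1 ▸ one_mem _
    obtain ⟨P, hP⟩ := hinv v hv.2 hv2 hv1
    exact mv dU hdT v hv ⟨P⁻¹, by rw [← hP, Subgroup.coe_inv]; group⟩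
  have hone : ∀ x ∈ (cT : Subgroup GL2) ⊓ uG F q, (x : M2).det = 1 → x ∈ T' := by
    intro x hx hd
    have h := hinvT (x * dU) (mul_mem ⟨Or.inl hx.1, hx.2⟩ hdS)
      (Units.ext (by rw [(mul_dU_facts hx.1.1).2.2, hd, one_smul, Units.val_one]))
    simpa [mul_assoc, dU_mul_self] using mul_mem h hdT
  have hjT : (jU : GL2) ∈ T' := hone jU ⟨jU_mem_cT, jU_mem hF⟩ (by simp [jU, Matrix.det_fin_two])
  have hneg : ∀ x ∈ (cT : Subgroup GL2) ⊓ uG F q, (x : M2).det = -1 → x ∈ T' := by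
    intro x hx hd
    have hxd : x * dU ∉ (cA : Subgroup GL2) := fun h =>
      dU_not_cA h2 (by simpa [← mul_assoc] using mul_mem (inv_mem hx.1.1) h)
    have hjn : ∀ r : F, ((jU : GL2) : M2) ≠ r • (1 : M2) := by
      intro r h
      have := congrFun (congrFun h 1) 0
      simp [jU] at this
    have h := mv2 jU hjT (x * dU) (mul_mem ⟨Or.inl hx.1, hx.2⟩ hdS) hjn (nonscalar_of_not_cA hxd)
      (by rw [(mul_dU_facts hx.1.1).1]; simp [jU, Matrix.trace_fin_two])
      (by rw [(mul_dU_facts hx.1.1).2.1, hd]; simp [jU, Matrix.det_fin_two])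
    simpa [mul_assoc, dU_mul_self] using mul_mem h hdT
  refine le_antisymm hT ?_
  suffices hall : ∀ x ∈ (cT : Subgroup GL2) ⊓ uG F q, x ∈ T' by
    rintro _ ⟨⟨x, hxU⟩, ⟨hx | hx, -⟩, rfl⟩
    · obtain ⟨_, h⟩ := memT x (hall x ⟨hx, hxU⟩)
      exact h
    · have hxT : x * dU ∈ T' := hall _ ⟨hx, mul_mem hxU (dU_mem hF)⟩
      have h := mul_mem hxT hdT
      rw [mul_assoc, dU_mul_self, mul_one] at h
      obtain ⟨_, h'⟩ := memT x h
      exact h'
  intro x hx
  set d := (x : M2).det with hd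
  by_cases hd2 : d * d = 1
  · rcases mul_self_eq_one_iff.1 hd2 with h | h
    · exact hone x hx h
    · exact hneg x hx h
  obtain ⟨k, hk⟩ := hx.1.2
  have hdk : d ^ (2 ^ k) = 1 := by
    rw [hd, ← Matrix.det_pow, ← Units.val_pow_eq_pow_val, hk, Units.val_one, Matrix.det_one]
  have hd0 : d ≠ 0 := det_ne x
  have hdN : d * d ^ q = 1 := by
    have h := Unitary.mem_GU_iff.1 hx.2
    exact h.det_norm hF
  obtain ⟨i, hi, hiq⟩ : ∃ i : F, i * i = -1 ∧ i ^ q = -i := by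
    classical
    have hex : ∃ e, d ^ (2 ^ e) = 1 := ⟨k, hdk⟩
    obtain ⟨e, he⟩ : ∃ e, Nat.find hex = e + 2 := by
      refine ⟨Nat.find hex - 2, ?_⟩
      have h0 := Nat.find_spec hex
      by_contra hlt
      have hle : Nat.find hex = 0 ∨ Nat.find hex = 1 := by omega
      rcases hle with h | h <;> rw [h] at h0
      · simp at h0; exact hd2 (by rw [h0, one_mul])
      · simp [pow_two] at h0; exact hd2 h0
    have h0 := Nat.find_spec hex
    have h1 : d ^ (2 ^ (e + 1)) ≠ 1 := Nat.find_min hex (by omega)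
    rw [he] at h0
    have hi : d ^ (2 ^ e) * d ^ (2 ^ e) = -1 := by
      refine (mul_self_eq_one_iff.1 ?_).resolve_left ?_
      · rw [← h0, show 2 ^ (e + 2) = 2 ^ e + 2 ^ e + (2 ^ e + 2 ^ e) by ring, pow_add, pow_add]
      · rw [← pow_add, ← two_mul, ← pow_succ']
        exact h1
    refine ⟨d ^ (2 ^ e), hi, ?_⟩
    have hN : d ^ (2 ^ e) * (d ^ (2 ^ e)) ^ q = 1 := by
      rw [← pow_mul, mul_comm (2 ^ e), pow_mul, ← mul_pow, hdN, one_pow]
    have hd0' : d ^ (2 ^ e) ≠ 0 := pow_ne_zero _ hd0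
    refine mul_left_cancel₀ hd0' ?_
    rw [hN, mul_neg, hi, neg_neg]
  have hinvN : d⁻¹ * (d⁻¹) ^ q = 1 := by rw [inv_pow, ← mul_inv, hdN, inv_one]
  obtain ⟨m, hm, hmd, P, hPU, hP⟩ := exists_cT_eigen hF h2 hi hiq hdN hinvN
    (fun h => hd2 (by rw [← mul_inv_cancel₀ hd0, ← h])) hdk (by rw [inv_pow, hdk, inv_one])
  obtain ⟨x', hx', hxd', P', hPU', hP'⟩ := exists_cT_eigen hF h2 hi hiq hdN
    (show (1 : F) * 1 ^ q = 1 by simp) (fun h => hd2 (by rw [h, one_mul])) hdk (one_pow _)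
  have hmT : m ∈ T' := hone m hm (hmd.trans (mul_inv_cancel₀ hd0))
  have hx'T : x' ∈ T' := by
    let W : SL3 := ⟨!![1, 0, 0; 0, 0, -1; 0, 1, 0], by simp [Matrix.det_fin_three]⟩
    have hW : W ∈ Cfsg.SU 3 F q := by
      rw [Unitary.mem_SU_iff, Unitary.preserves_iff_hstar hF]
      change Unitary.hstar q (!![1, 0, 0; 0, 0, -1; 0, 1, 0] : M3) * !![1, 0, 0; 0, 0, -1; 0, 1, 0] = 1
      ext a b
      fin_cases a <;> fin_cases b <;>
        simp [Unitary.hstar, Matrix.mul_apply, Fin.sum_univ_succ, hq, Unitary.neg_pow_q hF]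
    refine mv m hmT x' ⟨Or.inl hx'.1, hx'.2⟩
      ⟨(⟨emb P', (emb_mem_SU_iff hF P').2 hPU'⟩ : Cfsg.SU 3 F q)⁻¹ * ⟨W, hW⟩ *
        ⟨emb P, (emb_mem_SU_iff hF P).2 hPU⟩, ?_⟩
    show (emb P')⁻¹ * W * emb P * emb m * ((emb P')⁻¹ * W * emb P)⁻¹ = emb x'
    have e : W * emb (P * m * P⁻¹) * W⁻¹ = emb (P' * x' * P'⁻¹) := by
      refine mul_inv_eq_iff_eq_mul.2 ?_
      refine Subtype.ext ?_
      change (!![1, 0, 0; 0, 0, -1; 0, 1, 0] : M3) * embMat (P * m * P⁻¹) =
        embMat (P' * x' * P'⁻¹) * !![1, 0, 0; 0, 0, -1; 0, 1, 0]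
      rw [embMat, embMat, hP, hP']
      ext a b
      fin_cases a <;> fin_cases b <;>
        simp [Matrix.mul_apply, Fin.sum_univ_succ, Matrix.det_fin_two, hd0]
    rw [map_mul, map_mul, map_inv, map_mul, map_mul, map_inv] at e
    calc (emb P')⁻¹ * W * emb P * emb m * ((emb P')⁻¹ * W * emb P)⁻¹
        = (emb P')⁻¹ * (W * (emb P * emb m * (emb P)⁻¹) * W⁻¹) * emb P' := by group
      _ = emb x' := by rw [e]; group
  have hq' : x * x'⁻¹ ∈ T' := hone _ (mul_mem hx (inv_mem hx')) (by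
    have e : (x : M2) = ((x * x'⁻¹ : GL2) : M2) * (x' : M2) := by
      rw [← Units.val_mul, inv_mul_cancel_right]
    have hd' := congrArg Matrix.det e
    rw [Matrix.det_mul, hxd', mul_one, ← hd] at hd'
    exact mul_right_cancel₀ hd0 (hd'.symm.trans (one_mul d).symm))
  simpa using mul_mem hq' hx'T

end Cfsg.Agent.H91.PSU3
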