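import Cfsg.Agent.H91.PSpFourCore
import Cfsg.Agent.H89.SimpleTools
import Cfsg.Agent.Symplectic.Center

/-!
The 2-fusion system of `PSp₄(F)`, `|F|` odd, is simple.
-/

set_option autoImplicit false

namespace Cfsg.Agent.H91.PSp4

open Matrix Cfsg Cfsg.Agent.H91.PSL3

variable {F : Type*} [Field F]

local notation "GL2" => GL (Fin 2) F
local notation "M2" => Matrix (Fin 2) (Fin 2) F
local notation "M4" => Matrix (Fin 2 ⊕ Fin 2) (Fin 2 ⊕ Fin 2) F
local notation "SP" => Matrix.symplecticGroup (Fin 2) F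

/-- The tensor product `D ⊗ A`, in the coordinates of `J`. -/
def ten (D A : M2) : M4 := fromBlocks (A 0 0 • D) (A 0 1 • D) (A 1 0 • D) (A 1 1 • D)

theorem ten_mul (D A D' A' : M2) : ten D A * ten D' A' = ten (D * D') (A * A') := by
  simp only [ten, fromBlocks_multiply, smul_mul_smul_comm, ← add_smul, Matrix.mul_apply,
    Fin.sum_univ_two]

theorem ten_one : ten (1 : M2) (1 : M2) = 1 := by simp [ten, fromBlocks_one]

theorem ten_mem {D A : M2} (s : F) (hD : Dᵀ * D = s • (1 : M2)) (hA : A.det * s = 1) :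
    ten D A ∈ Matrix.symplecticGroup (Fin 2) F := by
  rw [ten, SymplecticGroup.fromBlocks_mem_iff]
  simp only [transpose_smul, smul_mul_smul_comm, hD, smul_smul, ← sub_smul]
  refine ⟨by rw [mul_comm (A 0 0)], by rw [mul_comm (A 0 1)], ?_⟩
  rw [Matrix.det_fin_two] at hA
  convert one_smul F (1 : M2) using 2
  linear_combination hA

/-- The element `diag(A, B)` for the orthogonal splitting into two hyperbolic planes. -/
def pr (A B : M2) : M4 :=
  fromBlocks (diagonal ![A 0 0, B 0 0]) (diagonal ![A 0 1, B 0 1]) (diagonal ![A 1 0, B 1 0])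
    (diagonal ![A 1 1, B 1 1])

theorem pr_mul (A B A' B' : M2) : pr A B * pr A' B' = pr (A * A') (B * B') := by
  simp only [pr, fromBlocks_multiply, diagonal_mul_diagonal, diagonal_add]
  congr 1 <;>
    · congr 1
      funext i
      fin_cases i <;> simp [Matrix.mul_apply, Fin.sum_univ_two]

theorem pr_mem {A B : M2} (hA : A.det = 1) (hB : B.det = 1) :
    pr A B ∈ Matrix.symplecticGroup (Fin 2) F := by
  rw [Matrix.det_fin_two] at hA hB
  rw [pr, SymplecticGroup.fromBlocks_mem_iff]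
  simp only [diagonal_transpose, diagonal_mul_diagonal]
  refine ⟨?_, ?_, ?_⟩
  · congr 1; funext i; exact mul_comm _ _
  · congr 1; funext i; exact mul_comm _ _
  · ext i j
    fin_cases i <;> fin_cases j <;> simp
    · linear_combination hA
    · linear_combination hB

/-- The swap of the two planes, as a `2 × 2` matrix. -/
def swp : M2 := !![0, 1; 1, 0]

theorem ten_one_eq_pr (A : M2) : ten 1 A = pr A A := by
  simp only [ten, pr, smul_one_eq_diagonal]
  congr 1 <;>
    · congr 1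
      funext i
      fin_cases i <;> simp

theorem swp_mul_pr (A B : M2) : ten swp (1 : M2) * pr A B = pr B A * ten swp (1 : M2) := by
  simp only [ten, pr, fromBlocks_multiply]
  congr 1 <;>
    · ext i j
      fin_cases i <;> fin_cases j <;>
        simp [swp, Matrix.mul_apply, Matrix.vecMul, dotProduct, Fin.sum_univ_two]

/-- `SL₂ × SL₂ → Sp₄`. -/
def prS : sl2 F × sl2 F →* SP :=
  MonoidHom.mk' (fun x => ⟨pr ((x.1 : GL2) : M2) ((x.2 : GL2) : M2),
      pr_mem (mem_sl2.1 x.1.2) (mem_sl2.1 x.2.2)⟩)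
    fun x y => Subtype.ext (pr_mul _ _ _ _).symm

variable (F) in
/-- The orthogonal group of the sum of two squares. -/
def orth : Subgroup (GL (Fin 2) F) where
  carrier := {D | (D : Matrix (Fin 2) (Fin 2) F)ᵀ * D = 1}
  one_mem' := by simp
  mul_mem' {a b} ha hb := by
    show ((a * b : GL2) : M2)ᵀ * ((a * b : GL2) : M2) = 1
    rw [Units.val_mul, transpose_mul, mul_assoc, ← mul_assoc (a : M2)ᵀ, ha, one_mul, hb]
  inv_mem' {a} ha := by
    show ((a⁻¹ : GL2) : M2)ᵀ * ((a⁻¹ : GL2) : M2) = 1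
    have h1 : (a : M2)ᵀ = ((a⁻¹ : GL2) : M2) :=
      left_inv_eq_right_inv ha (by rw [← Units.val_mul, mul_inv_cancel, Units.val_one])
    rw [← h1, transpose_transpose, h1, ← Units.val_mul, mul_inv_cancel, Units.val_one]

/-- `O₂ × SL₂ → Sp₄`. -/
def tenS : orth F × sl2 F →* SP :=
  MonoidHom.mk' (fun x => ⟨ten ((x.1 : GL2) : M2) ((x.2 : GL2) : M2),
      ten_mem 1 (by rw [one_smul]; exact x.1.2) (by rw [mul_one]; exact mem_sl2.1 x.2.2)⟩)
    fun x y => Subtype.ext (ten_mul _ _ _ _).symm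

theorem dU_mem_orth : (dU : GL2) ∈ orth F := by
  show ((dU : GL2) : M2)ᵀ * (dU : GL2) = 1
  ext i j; fin_cases i <;> fin_cases j <;>
    simp [dU, Matrix.mul_apply, Fin.sum_univ_two]

theorem jU_mem_orth : (jU : GL2) ∈ orth F := by
  show ((jU : GL2) : M2)ᵀ * (jU : GL2) = 1
  ext i j; fin_cases i <;> fin_cases j <;>
    simp [jU, Matrix.mul_apply, Fin.sum_univ_two]

variable (F) in
/-- `-1` in `SL₂`. -/
def nOne : sl2 F := ⟨jU * jU, mul_mem jU_mem_sl2 jU_mem_sl2⟩

theorem nOne_val : (((nOne F : sl2 F) : GL2) : M2) = -1 := jU_sq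

theorem nOne_mem : ((nOne F : sl2 F) : GL2) ∈ qQ F := mul_mem jU_mem_qQ jU_mem_qQ

theorem nOne_mul_self : nOne F * nOne F = 1 :=
  Subtype.ext (Units.ext (by rw [Subgroup.coe_mul, Units.val_mul, nOne_val]; simp))

theorem nOne_comm (a : sl2 F) : nOne F * a = a * nOne F :=
  Subtype.ext (Units.ext (by
    rw [Subgroup.coe_mul, Subgroup.coe_mul, Units.val_mul, Units.val_mul, nOne_val]; simp))

theorem neg_eq (a : sl2 F) : ((nOne F * a : sl2 F) : GL2) = -(a : GL2) :=
  Units.ext (by rw [Subgroup.coe_mul, Units.val_mul, nOne_val, neg_val, neg_one_mul])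

variable (F) in
/-- The swap in `Sp₄`. -/
def wS : SP := tenS (⟨jU * dU, mul_mem jU_mem_orth dU_mem_orth⟩, 1)

theorem swp_eq : ((jU * dU : GL2) : M2) = swp := by
  ext i j; fin_cases i <;> fin_cases j <;> simp [jU, dU, swp]

theorem wS_val : ((wS F : SP) : M4) = ten swp (1 : M2) := by
  show ten ((jU * dU : GL2) : M2) (((1 : sl2 F) : GL2) : M2) = _
  rw [swp_eq]
  rfl

variable (F) in
/-- The element `diag(1, -1)`. -/
def zS : SP := prS (1, nOne F)

variable (F) in
/-- The central element `-1`. -/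
def cS : SP := prS (nOne F, nOne F)

theorem zS_eq_ten : tenS (⟨dU, dU_mem_orth⟩, 1) = zS F := by
  refine Subtype.ext ?_
  show ten ((dU : GL2) : M2) (((1 : sl2 F) : GL2) : M2) = pr (((1 : sl2 F) : GL2) : M2) _
  rw [nOne_val]
  simp only [ten, pr, OneMemClass.coe_one, Units.val_one]
  congr 1 <;>
    · ext i j
      fin_cases i <;> fin_cases j <;> simp [dU]

theorem ten_eq_pr (a : sl2 F) : tenS (1, a) = prS (a, a) :=
  Subtype.ext (ten_one_eq_pr _)

theorem wS_swap (a b : sl2 F) : wS F * prS (a, b) = prS (b, a) * wS F := by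
  refine Subtype.ext ?_
  rw [Submonoid.coe_mul, Submonoid.coe_mul, wS_val]
  exact swp_mul_pr _ _

theorem wS_mul_self : wS F * wS F = 1 := by
  rw [wS, ← map_mul, show ((⟨jU * dU, mul_mem jU_mem_orth dU_mem_orth⟩, 1) : orth F × sl2 F) *
    (⟨jU * dU, mul_mem jU_mem_orth dU_mem_orth⟩, 1) = 1 from ?_, map_one]
  refine Prod.ext (Subtype.ext (Units.ext ?_)) (by simp)
  show ((jU * dU * (jU * dU) : GL2) : M2) = 1
  rw [Units.val_mul, swp_eq]
  ext i j; fin_cases i <;> fin_cases j <;> simp [swp, Matrix.mul_apply, Fin.sum_univ_two]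

theorem wS_inv : (wS F)⁻¹ = wS F := inv_eq_of_mul_eq_one_right wS_mul_self

theorem wS_conj (a b : sl2 F) : wS F * prS (a, b) * wS F = prS (b, a) := by
  rw [wS_swap, mul_assoc, wS_mul_self, mul_one]

theorem cS_val : ((cS F : SP) : M4) = -1 := by
  show pr (((nOne F : sl2 F) : GL2) : M2) (((nOne F : sl2 F) : GL2) : M2) = -1
  rw [nOne_val]
  ext i j
  rcases i with i | i <;> rcases j with j | j <;> fin_cases i <;> fin_cases j <;> simp [pr]

theorem cS_central (u : SP) : cS F * u = u * cS F :=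
  Subtype.ext (by rw [Submonoid.coe_mul, Submonoid.coe_mul, cS_val]; simp)

theorem cS_mul_self : cS F * cS F = 1 :=
  Subtype.ext (by rw [Submonoid.coe_mul, cS_val]; simp)

theorem mem_center_iff {u : SP} : u ∈ Subgroup.center SP ↔ u = 1 ∨ u = cS F := by
  constructor
  · intro hu
    obtain ⟨c, hc⟩ := (Cfsg.Agent.Symplectic.mem_center_iff u).1 hu
    have hsq := Cfsg.Agent.Symplectic.scalar_sq (by norm_num) u hc
    have e : ((u : SP) : M4) = c • 1 :=
      Matrix.ext_iff_mulVec.2 fun v => by rw [smul_mulVec, one_mulVec, hc]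
    rcases sq_eq_one_iff.1 hsq with h | h
    · exact Or.inl (Subtype.ext (by rw [e, h, one_smul]; rfl))
    · exact Or.inr (Subtype.ext (by rw [e, h, cS_val]; simp))
  · rintro (rfl | rfl)
    · exact one_mem _
    · exact Subgroup.mem_center_iff.2 fun v => (cS_central v).symm

theorem prS_injective : Function.Injective (prS : sl2 F × sl2 F → SP) := by
  rintro ⟨a, b⟩ ⟨a', b'⟩ h
  have e : pr ((a : GL2) : M2) ((b : GL2) : M2) = pr ((a' : GL2) : M2) ((b' : GL2) : M2) :=
    congrArg Subtype.val h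
  obtain ⟨h1, h2, h3, h4⟩ := fromBlocks_inj.1 e
  have g1 := fun i => congrFun (diagonal_injective h1) i
  have g2 := fun i => congrFun (diagonal_injective h2) i
  have g3 := fun i => congrFun (diagonal_injective h3) i
  have g4 := fun i => congrFun (diagonal_injective h4) i
  refine Prod.ext (Subtype.ext (Units.ext ?_)) (Subtype.ext (Units.ext ?_)) <;>
    · ext i j
      fin_cases i <;> fin_cases j
      all_goals
        first
          | exact g1 0
          | exact g2 0
          | exact g3 0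
          | exact g4 0
          | exact g1 1
          | exact g2 1
          | exact g3 1
          | exact g4 1

theorem prS_ne_prS_wS (a b a' b' : sl2 F) : prS (a, b) ≠ prS (a', b') * wS F := by
  intro h
  have e := congrArg (fun u : SP => (u : M4)) h
  simp only [Submonoid.coe_mul, wS_val] at e
  change pr ((a : GL2) : M2) ((b : GL2) : M2) = pr ((a' : GL2) : M2) ((b' : GL2) : M2) * ten swp 1 at e
  simp only [pr, ten, fromBlocks_multiply] at e
  obtain ⟨h1, -, h3, -⟩ := fromBlocks_inj.1 e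
  have e00 := congrFun (congrFun h1 0) 0
  have e10 := congrFun (congrFun h3 0) 0
  simp [swp, Matrix.mul_apply, Fin.sum_univ_two] at e00 e10
  have hd := mem_sl2.1 a.2
  rw [Matrix.det_fin_two, e00, e10] at hd
  simp at hd

variable (F) in
/-- The preimage in `Sp₄` of the Sylow 2-subgroup. -/
def sHat : Subgroup SP where
  carrier := {u | ∃ a b : sl2 F, (a : GL2) ∈ qQ F ∧ (b : GL2) ∈ qQ F ∧
    (u = prS (a, b) ∨ u = prS (a, b) * wS F)}
  one_mem' := ⟨1, 1, one_mem _, one_mem _, Or.inl (map_one _).symm⟩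
  mul_mem' := by
    rintro _ _ ⟨a, b, ha, hb, rfl | rfl⟩ ⟨c, d, hc, hd, rfl | rfl⟩
    · exact ⟨a * c, b * d, mul_mem ha hc, mul_mem hb hd, Or.inl (map_mul _ _ _).symm⟩
    · exact ⟨a * c, b * d, mul_mem ha hc, mul_mem hb hd,
        Or.inr (by rw [← mul_assoc, ← map_mul]; rfl)⟩
    · exact ⟨a * d, b * c, mul_mem ha hd, mul_mem hb hc,
        Or.inr (by rw [mul_assoc, wS_swap, ← mul_assoc, ← map_mul]; rfl)⟩
    · refine ⟨a * d, b * c, mul_mem ha hd, mul_mem hb hc, Or.inl ?_⟩
      rw [← mul_assoc, mul_assoc _ (wS F), wS_swap, ← mul_assoc, ← map_mul, mul_assoc, wS_mul_self,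
        mul_one]
      rfl
  inv_mem' := by
    rintro _ ⟨a, b, ha, hb, rfl | rfl⟩
    · exact ⟨a⁻¹, b⁻¹, inv_mem ha, inv_mem hb, Or.inl (map_inv _ _).symm⟩
    · refine ⟨b⁻¹, a⁻¹, inv_mem hb, inv_mem ha, Or.inr ?_⟩
      rw [_root_.mul_inv_rev, wS_inv, ← map_inv, ← wS_swap]
      rfl

theorem one_mem_qQ : ((1 : sl2 F) : GL2) ∈ qQ F := one_mem _

theorem prS_mem_sHat {a b : sl2 F} (ha : (a : GL2) ∈ qQ F) (hb : (b : GL2) ∈ qQ F) :
    prS (a, b) ∈ sHat F := ⟨a, b, ha, hb, Or.inl rfl⟩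

theorem wS_mem_sHat : wS F ∈ sHat F :=
  ⟨1, 1, one_mem _, one_mem _, Or.inr (by
    rw [show prS ((1 : sl2 F), (1 : sl2 F)) = 1 from map_one _, one_mul])⟩

theorem cS_mem_sHat : cS F ∈ sHat F := prS_mem_sHat nOne_mem nOne_mem

theorem mem_qQ_of_prS_mem {a b : sl2 F} (h : prS (a, b) ∈ sHat F) :
    (a : GL2) ∈ qQ F ∧ (b : GL2) ∈ qQ F := by
  obtain ⟨a', b', ha, hb, e | e⟩ := h
  · obtain ⟨rfl, rfl⟩ := Prod.mk_inj.1 (prS_injective e)
    exact ⟨ha, hb⟩
  · exact absurd e (prS_ne_prS_wS _ _ _ _)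

theorem sHat_twoPow {u : SP} (hu : u ∈ sHat F) : ∃ k : ℕ, u ^ (2 ^ k) = 1 := by
  have key : ∀ a b : sl2 F, (a : GL2) ∈ qQ F → (b : GL2) ∈ qQ F →
      ∃ k : ℕ, prS (a, b) ^ (2 ^ k) = 1 := by
    intro a b ha hb
    obtain ⟨k, hk⟩ := sT_twoPow ha.1
    obtain ⟨l, hl⟩ := sT_twoPow hb.1
    have ha' : a ^ (2 ^ k) = 1 := Subtype.ext (by simpa using hk)
    have hb' : b ^ (2 ^ l) = 1 := Subtype.ext (by simpa using hl)
    refine ⟨k + l, ?_⟩
    rw [← map_pow, show ((a, b) : sl2 F × sl2 F) ^ (2 ^ (k + l)) = 1 from ?_, map_one]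
    refine Prod.ext ?_ ?_
    · show a ^ (2 ^ (k + l)) = 1
      rw [pow_add, pow_mul, ha', one_pow]
    · show b ^ (2 ^ (k + l)) = 1
      rw [pow_add, mul_comm, pow_mul, hb', one_pow]
  obtain ⟨a, b, ha, hb, rfl | rfl⟩ := hu
  · exact key a b ha hb
  · obtain ⟨k, hk⟩ := key (a * b) (b * a) (mul_mem ha hb) (mul_mem hb ha)
    refine ⟨k + 1, ?_⟩
    rw [pow_succ', pow_mul, pow_two, ← mul_assoc, mul_assoc _ (wS F), wS_swap, ← mul_assoc, ← map_mul,
      mul_assoc, wS_mul_self, mul_one]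
    exact hk

variable [Fintype F] (h2 : (2 : F) ≠ 0)

include h2 in
theorem zS_ne : zS F ≠ 1 ∧ zS F ≠ cS F := by
  have hn : (nOne F : sl2 F) ≠ 1 := by
    intro h
    have := congrArg (fun a : sl2 F => ((a : GL2) : M2) 0 0) h
    simp only [nOne_val] at this
    simp at this
    exact h2 (by linear_combination -this)
  constructor
  · intro h
    rw [zS, ← map_one (prS (F := F))] at h
    exact hn (Prod.mk_inj.1 (prS_injective h)).2
  · intro h
    exact hn (Prod.mk_inj.1 (prS_injective h)).1.symm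

include h2 in
theorem eq_one_or_nOne_of_comm {a : sl2 F} (h : ∀ r ∈ qQ F, (a : GL2) * r = r * a) :
    a = 1 ∨ a = nOne F := by
  obtain ⟨k, hk, -, hkd⟩ := exists_k h2
  have hA : (a : GL2) ∈ (cA : Subgroup GL2) :=
    Subgroup.mem_centralizer_singleton_iff.2 (h jU jU_mem_qQ)
  have hd : dU * (a : GL2) = (a : GL2) * dU := by
    have h1 : (a : GL2) * (k * dU) = k * dU * (a : GL2) := cA_comm hA hkd.1
    have h3 : k * ((a : GL2) * dU) = k * (dU * (a : GL2)) := by
      rw [← mul_assoc k, ← h k hk, mul_assoc, h1, mul_assoc]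
    exact (mul_left_cancel h3).symm
  have hs := scalar_of_cA hA hd h2
  have hdet := mem_sl2.1 a.2
  rw [Matrix.det_fin_two, hs] at hdet
  simp at hdet
  rcases mul_self_eq_one_iff.1 hdet with e | e
  · exact Or.inl (Subtype.ext (Units.ext (by rw [hs, e, one_smul]; rfl)))
  · exact Or.inr (Subtype.ext (Units.ext (by rw [hs, e, nOne_val]; simp)))

include h2 in
/-- If `u ∈ sHat` commutes up to sign with all `prS (r, r)`, its two components agree up to sign. -/
theorem ratio_of_comm_diag {u : SP} {a b : sl2 F} (hu : u = prS (a, b) ∨ u = prS (a, b) * wS F)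
    (h : ∀ r : sl2 F, (r : GL2) ∈ qQ F →
      u * prS (r, r) = prS (r, r) * u ∨ u * prS (r, r) = prS (r, r) * u * cS F) :
    b = a ∨ b = nOne F * a := by
  have key : ∀ r ∈ qQ F, ((a⁻¹ * b : sl2 F) : GL2) * r = r * ((a⁻¹ * b : sl2 F) : GL2) := by
    intro r hr
    set r' : sl2 F := ⟨r, hr.2⟩
    have hx : prS (a * r', b * r') = prS (r' * a, r' * b) ∨
        prS (a * r', b * r') = prS (r' * a, r' * b) * cS F := by
      rcases hu with rfl | rfl <;> rcases h r' hr with e | e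
      · left; rwa [← map_mul, ← map_mul] at e
      · right; rwa [← map_mul, ← map_mul] at e
      · left
        rw [mul_assoc, wS_swap, ← mul_assoc, ← mul_assoc, mul_left_inj, ← map_mul, ← map_mul] at e
        exact e
      · right
        rw [mul_assoc, wS_swap, ← mul_assoc, ← mul_assoc, mul_assoc _ (wS F), ← cS_central (wS F),
          ← mul_assoc, mul_left_inj, ← map_mul, ← map_mul] at e
        exact e
    have hk : ∃ s : sl2 F, (s = 1 ∨ s = nOne F) ∧ a * r' = r' * a * s ∧ b * r' = r' * b * s := by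
      rcases hx with e | e
      · obtain ⟨e1, e2⟩ := Prod.mk_inj.1 (prS_injective e)
        exact ⟨1, Or.inl rfl, by rw [mul_one, e1], by rw [mul_one, e2]⟩
      · rw [cS, ← map_mul] at e
        obtain ⟨e1, e2⟩ := Prod.mk_inj.1 (prS_injective e)
        exact ⟨nOne F, Or.inr rfl, e1, e2⟩
    obtain ⟨s, hs, e1, e2⟩ := hk
    have hsc : ∀ x : sl2 F, s * x = x * s := by
      rcases hs with rfl | rfl
      · simp
      · exact nOne_comm
    have e3 : a⁻¹ * b * r' = r' * (a⁻¹ * b) := by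
      have ea : a⁻¹ * r' = s * r' * a⁻¹ := by
        calc a⁻¹ * r' = a⁻¹ * (r' * a * s) * s⁻¹ * a⁻¹ := by group
          _ = r' * (s⁻¹ * a⁻¹) := by rw [← e1]; group
          _ = r' * (a⁻¹ * s) := by
            rcases hs with rfl | rfl
            · simp
            · rw [inv_eq_of_mul_eq_one_right nOne_mul_self, nOne_comm]
          _ = s * r' * a⁻¹ := by rw [← hsc a⁻¹, hsc r', mul_assoc]
      have ss : s * s = 1 := by
        rcases hs with rfl | rfl
        · exact mul_one 1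
        · exact nOne_mul_self
      calc a⁻¹ * b * r' = a⁻¹ * (r' * b * s) := by rw [mul_assoc, e2]
        _ = a⁻¹ * r' * b * s := by group
        _ = s * r' * a⁻¹ * b * s := by rw [ea]
        _ = s * s * (r' * (a⁻¹ * b)) := by rw [← hsc]; group
        _ = r' * (a⁻¹ * b) := by rw [ss, one_mul]
    exact congrArg Subtype.val e3
  rcases eq_one_or_nOne_of_comm h2 key with e | e
  · exact Or.inl (inv_mul_eq_one.1 e).symm
  · exact Or.inr (by rw [inv_mul_eq_iff_eq_mul] at e; rw [e, nOne_comm])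

include h2 in
theorem central_mod {u : SP} (hu : u ∈ sHat F)
    (h : ∀ v ∈ sHat F, u * v = v * u ∨ u * v = v * u * cS F) :
    u = 1 ∨ u = cS F ∨ u = zS F ∨ u = zS F * cS F := by
  obtain ⟨a, b, -, -, hu'⟩ := hu
  have hn : (nOne F : sl2 F) ≠ 1 := fun e => (zS_ne h2).1 (by rw [zS, e]; exact map_one _)
  rcases hu' with rfl | rfl
  · have hcomm : ∀ x : sl2 F, (∀ r : sl2 F, (r : GL2) ∈ qQ F → x * r = r * x) →
        x = 1 ∨ x = nOne F :=
      fun x hx => eq_one_or_nOne_of_comm h2 fun r hr => congrArg Subtype.val (hx ⟨r, hr.2⟩ hr)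
    have ha : a = 1 ∨ a = nOne F := hcomm a fun r hr => by
      rcases h _ (prS_mem_sHat hr one_mem_qQ) with e | e
      · rw [← map_mul, ← map_mul] at e
        exact (Prod.mk_inj.1 (prS_injective e)).1
      · rw [cS, ← map_mul, ← map_mul, ← map_mul] at e
        have e2 : b * 1 = 1 * b * nOne F := (Prod.mk_inj.1 (prS_injective e)).2
        rw [mul_one, one_mul] at e2
        exact absurd (mul_eq_left.1 e2.symm) hn
    have hb : b = 1 ∨ b = nOne F := hcomm b fun r hr => by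
      rcases h _ (prS_mem_sHat one_mem_qQ hr) with e | e
      · rw [← map_mul, ← map_mul] at e
        exact (Prod.mk_inj.1 (prS_injective e)).2
      · rw [cS, ← map_mul, ← map_mul, ← map_mul] at e
        have e1 : a * 1 = 1 * a * nOne F := (Prod.mk_inj.1 (prS_injective e)).1
        rw [mul_one, one_mul] at e1
        exact absurd (mul_eq_left.1 e1.symm) hn
    rcases ha with rfl | rfl <;> rcases hb with rfl | rfl
    · exact Or.inl (map_one _)
    · exact Or.inr (Or.inr (Or.inl rfl))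
    · refine Or.inr (Or.inr (Or.inr ?_))
      rw [zS, cS, ← map_mul, Prod.mk_mul_mk, one_mul, nOne_mul_self]
    · exact Or.inr (Or.inl rfl)
  · exfalso
    have hjn : (nOne F : sl2 F) * ⟨jU, jU_mem_sl2⟩ ≠ 1 := by
      intro e
      have := congrArg (fun x : sl2 F => ((x : GL2) : M2) 0 0) e
      simp only [Subgroup.coe_mul, Units.val_mul, nOne_val] at this
      simp [jU] at this
    have hj1 : (⟨jU, jU_mem_sl2⟩ : sl2 F) ≠ 1 := by
      intro e
      have := congrArg (fun x : sl2 F => ((x : GL2) : M2) 0 0) e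
      simp [jU] at this
    have hj := h (prS (⟨jU, jU_mem_sl2⟩, 1))
      (prS_mem_sHat (show ((⟨jU, jU_mem_sl2⟩ : sl2 F) : GL2) ∈ qQ F from jU_mem_qQ) one_mem_qQ)
    rcases hj with e | e
    · rw [mul_assoc, wS_swap, ← mul_assoc, ← mul_assoc, mul_left_inj, ← map_mul, ← map_mul] at e
      have e2 : b * ⟨jU, jU_mem_sl2⟩ = 1 * b := (Prod.mk_inj.1 (prS_injective e)).2
      rw [one_mul] at e2
      exact hj1 (mul_eq_left.1 e2)
    · rw [mul_assoc, wS_swap, ← mul_assoc, ← mul_assoc, mul_assoc _ (wS F), ← cS_central (wS F),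
        ← mul_assoc, mul_left_inj, cS, ← map_mul, ← map_mul, ← map_mul] at e
      have e2 : b * ⟨jU, jU_mem_sl2⟩ = 1 * b * nOne F := (Prod.mk_inj.1 (prS_injective e)).2
      rw [one_mul] at e2
      have e3 := mul_left_cancel e2
      rw [e3, nOne_mul_self] at hjn
      exact hjn rfl

include h2 in
/-- An element of `Sp₄` commuting with `diag(1,-1)` is `diag(A, B)`. -/
theorem exists_prS_of_comm {g : SP} (hg : g * zS F = zS F * g) : ∃ A B : sl2 F, g = prS (A, B) := by
  have hz : ((zS F : SP) : M4) =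
      fromBlocks (diagonal ![1, -1]) 0 0 (diagonal ![1, -1]) := by
    show pr (((1 : sl2 F) : GL2) : M2) (((nOne F : sl2 F) : GL2) : M2) = _
    rw [nOne_val]
    simp only [pr, OneMemClass.coe_one, Units.val_one]
    congr 1 <;>
      · ext i j
        fin_cases i <;> fin_cases j <;> simp
  have e := congrArg (fun u : SP => (u : M4)) hg
  simp only [Submonoid.coe_mul, hz] at e
  set M := ((g : SP) : M4) with hM
  rw [← fromBlocks_toBlocks M] at e
  simp only [fromBlocks_multiply, mul_zero, zero_mul, add_zero, zero_add] at e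
  obtain ⟨h1, h2', h3, h4⟩ := fromBlocks_inj.1 e
  have key : ∀ X : M2, X * diagonal ![1, -1] = diagonal ![1, -1] * X →
      X = diagonal ![X 0 0, X 1 1] := by
    intro X hX
    have a := congrFun (congrFun hX 0) 1
    have b := congrFun (congrFun hX 1) 0
    simp [Matrix.mul_apply, Fin.sum_univ_two] at a b
    have a' : (2 : F) * X 0 1 = 0 := by linear_combination -a
    have b' : (2 : F) * X 1 0 = 0 := by linear_combination b
    ext i j
    fin_cases i <;> fin_cases j <;> simp [(mul_eq_zero.1 a').resolve_left h2,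
      (mul_eq_zero.1 b').resolve_left h2]
  have k1 := key _ h1
  have k2 := key _ h2'
  have k3 := key _ h3
  have k4 := key _ h4
  have hmem : M ∈ Matrix.symplecticGroup (Fin 2) F := g.2
  rw [← fromBlocks_toBlocks M, SymplecticGroup.fromBlocks_mem_iff, k1, k2, k3, k4] at hmem
  simp only [diagonal_transpose, diagonal_mul_diagonal] at hmem
  have d0 := congrFun (congrFun hmem.2.2 0) 0
  have d1 := congrFun (congrFun hmem.2.2 1) 1
  simp at d0 d1
  obtain ⟨A, hA⟩ := mk_det_ne (!![M.toBlocks₁₁ 0 0, M.toBlocks₁₂ 0 0; M.toBlocks₂₁ 0 0, M.toBlocks₂₂ 0 0] : M2)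
    (by rw [Matrix.det_fin_two_of]; intro h; exact one_ne_zero (by linear_combination h - d0 : (1 : F) = 0))
  obtain ⟨B, hB⟩ := mk_det_ne (!![M.toBlocks₁₁ 1 1, M.toBlocks₁₂ 1 1; M.toBlocks₂₁ 1 1, M.toBlocks₂₂ 1 1] : M2)
    (by rw [Matrix.det_fin_two_of]; intro h; exact one_ne_zero (by linear_combination h - d1 : (1 : F) = 0))
  refine ⟨⟨A, mem_sl2.2 (by rw [hA, Matrix.det_fin_two_of]; linear_combination d0)⟩,
    ⟨B, mem_sl2.2 (by rw [hB, Matrix.det_fin_two_of]; linear_combination d1)⟩, Subtype.ext ?_⟩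
  show M = pr (A : M2) (B : M2)
  rw [← fromBlocks_toBlocks M, k1, k2, k3, k4, pr, hA, hB]
  rfl

include h2 in
/-- Elements normalizing `sHat`. -/
theorem normalizes_sHat {g : SP} (hg : ∀ v ∈ sHat F, g * v * g⁻¹ ∈ sHat F) :
    g ∈ sHat F ∨ (SmallCase F ∧ ∀ k h : GL2, k ∈ qQ F → k * dU ∈ (cT : Subgroup GL2) →
      ∀ hh : h ∈ sl2 F, h ^ 3 = 1 → h * jU * h⁻¹ = k → h * k * h⁻¹ = jU * k →
      ∃ s ∈ sHat F, ∃ e : ℕ, g = s * prS ((⟨h, hh⟩ : sl2 F), (⟨h, hh⟩ : sl2 F)) ^ e) := by
  have hzS : zS F ∈ sHat F := prS_mem_sHat one_mem_qQ nOne_mem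
  have hzcomm : ∀ v ∈ sHat F, zS F * v = v * zS F ∨ zS F * v = v * zS F * cS F := by
    rintro _ ⟨a, b, -, -, rfl | rfl⟩
    · left
      rw [zS, ← map_mul, ← map_mul, Prod.mk_mul_mk, Prod.mk_mul_mk, one_mul, mul_one, nOne_comm]
    · right
      rw [mul_assoc _ (wS F), zS, wS_swap, cS, mul_assoc _ (prS (nOne F, 1) * wS F),
        mul_assoc (prS (nOne F, 1)), show wS F * prS (nOne F, nOne F) = prS (nOne F, nOne F) * wS F
          from wS_swap _ _, ← mul_assoc, ← mul_assoc, ← mul_assoc, ← map_mul, ← map_mul, ← map_mul]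
      simp only [Prod.mk_mul_mk, one_mul, mul_one, mul_assoc, nOne_mul_self, nOne_comm b]
  have hsurj : ∀ v ∈ sHat F, ∃ v' ∈ sHat F, g * v' * g⁻¹ = v := by
    intro v hv
    haveI : Finite (sHat F) := inferInstance
    have hf : Function.Injective (fun x : sHat F => (⟨g * x * g⁻¹, hg x x.2⟩ : sHat F)) :=
      fun a b hab => Subtype.ext (mul_left_cancel (mul_right_cancel (congrArg Subtype.val hab)))
    obtain ⟨⟨v', hv'⟩, he⟩ := (Finite.injective_iff_surjective.1 hf) ⟨v, hv⟩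
    exact ⟨v', hv', congrArg Subtype.val he⟩
  have hgz : g * zS F * g⁻¹ = zS F ∨ g * zS F * g⁻¹ = zS F * cS F := by
    rcases central_mod h2 (hg _ hzS) (fun v hv => by
      obtain ⟨v', hv', rfl⟩ := hsurj v hv
      rcases hzcomm v' hv' with e | e
      · left
        rw [show g * zS F * g⁻¹ * (g * v' * g⁻¹) = g * (zS F * v') * g⁻¹ by group, e]; group
      · right
        calc g * zS F * g⁻¹ * (g * v' * g⁻¹) = g * (zS F * v') * g⁻¹ := by group
          _ = g * (v' * zS F) * (cS F * g⁻¹) := by rw [e]; group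
          _ = g * (v' * zS F) * (g⁻¹ * cS F) := by rw [cS_central]
          _ = g * v' * g⁻¹ * (g * zS F * g⁻¹) * cS F := by group) with e | e | e | e
    · exact absurd (by rw [mul_inv_eq_one, mul_eq_left] at e; exact e) (zS_ne h2).1
    · exfalso
      refine (zS_ne h2).2 ?_
      calc zS F = g⁻¹ * (g * zS F * g⁻¹) * g := by group
        _ = g⁻¹ * (cS F * g) := by rw [e]; group
        _ = cS F := by rw [cS_central]; group
    · exact Or.inl e
    · exact Or.inr e
  obtain ⟨w0, hw0, hw0z⟩ : ∃ w0 ∈ sHat F, w0 * g * zS F = zS F * (w0 * g) := by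
    rcases hgz with e | e
    · exact ⟨1, one_mem _, by rw [one_mul, ← mul_inv_eq_iff_eq_mul.1 e]⟩
    · refine ⟨wS F, wS_mem_sHat, ?_⟩
      rw [mul_assoc, mul_inv_eq_iff_eq_mul.1 e, ← mul_assoc, ← mul_assoc (zS F),
        show wS F * (zS F * cS F) = zS F * wS F from ?_]
      rw [zS, cS, ← map_mul, Prod.mk_mul_mk, one_mul, nOne_mul_self, wS_swap]
  obtain ⟨A, B, hAB⟩ := exists_prS_of_comm h2 hw0z
  have hn : ∀ v ∈ sHat F, prS (A, B) * v * (prS (A, B))⁻¹ ∈ sHat F := by
    intro v hv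
    rw [← hAB, show w0 * g * v * (w0 * g)⁻¹ = w0 * (g * v * g⁻¹) * w0⁻¹ by group]
    exact mul_mem (mul_mem hw0 (hg v hv)) (inv_mem hw0)
  have hAn : ∀ x ∈ qQ F, (A : GL2) * x * (A : GL2)⁻¹ ∈ qQ F := by
    intro x hx
    have h := hn _ (prS_mem_sHat (show ((⟨x, hx.2⟩ : sl2 F) : GL2) ∈ qQ F from hx) one_mem_qQ)
    rw [← map_inv, ← map_mul, ← map_mul] at h
    exact (mem_qQ_of_prS_mem h).1
  have hAB' : ((A * B⁻¹ : sl2 F) : GL2) ∈ qQ F := by
    have h := hn _ wS_mem_sHat
    rw [← map_inv, mul_assoc, wS_swap, ← mul_assoc, ← map_mul] at h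
    have h' := mul_mem h wS_mem_sHat
    rw [mul_assoc, wS_mul_self, mul_one] at h'
    exact (mem_qQ_of_prS_mem h').1
  have hgeq : g = w0⁻¹ * prS (A, B) := by rw [← hAB]; group
  rcases normalizes_qQ h2 A.2 hAn with hA | ⟨hs, hA⟩
  · left
    rw [hgeq]
    refine mul_mem (inv_mem hw0) (prS_mem_sHat hA ?_)
    have h := mul_mem (inv_mem hAB') hA
    simpa [mul_assoc] using h
  · refine Or.inr ⟨hs, fun k h hk hkd hh h3 hjk hkk => ?_⟩
    obtain ⟨q, hq, e, hAe⟩ := hA k h hk hkd hh h3 hjk hkk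
    have hA' : A = ⟨q, hq.2⟩ * (⟨h, hh⟩ : sl2 F) ^ e := Subtype.ext (by simpa using hAe)
    set q' : sl2 F := (A * B⁻¹)⁻¹ * ⟨q, hq.2⟩ with hq'
    have hB' : B = q' * (⟨h, hh⟩ : sl2 F) ^ e := by
      rw [hq', mul_assoc, ← hA']; group
    refine ⟨w0⁻¹ * prS ((⟨q, hq.2⟩ : sl2 F), q'),
      mul_mem (inv_mem hw0) (prS_mem_sHat hq (by rw [hq']; exact mul_mem (inv_mem hAB') hq)), e, ?_⟩
    rw [hgeq, mul_assoc, ← map_pow, ← map_mul, Prod.pow_mk, Prod.mk_mul_mk, ← hA', ← hB']

end Cfsg.Agent.H91.PSp4
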