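import Cfsg.Agent.H91.PSLThree

/-!
`SL₂(F)`, `|F|` odd: the Sylow 2-subgroup `sT ⊓ SL₂` and the elements normalizing it.
-/

set_option autoImplicit false

namespace Cfsg.Agent.H91.PSp4

open Matrix Cfsg.Agent.H91.PSL3

variable {F : Type*} [Field F]

local notation "GL2" => GL (Fin 2) F
local notation "M2" => Matrix (Fin 2) (Fin 2) F

variable (F) in
/-- `SL₂(F)` inside `GL₂(F)`. -/
def sl2 : Subgroup (GL (Fin 2) F) := (Matrix.GeneralLinearGroup.det : GL (Fin 2) F →* Fˣ).ker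

theorem mem_sl2 {g : GL2} : g ∈ sl2 F ↔ (g : M2).det = 1 := by
  rw [sl2, MonoidHom.mem_ker, ← Units.val_inj]
  rfl

variable (F) in
/-- The Sylow 2-subgroup of `SL₂(F)`. -/
def qQ : Subgroup (GL (Fin 2) F) := sT ⊓ sl2 F

theorem jU_mem_sl2 : (jU : GL2) ∈ sl2 F := mem_sl2.2 (by simp [jU, Matrix.det_fin_two])

theorem jU_mem_qQ : (jU : GL2) ∈ qQ F := ⟨Or.inl jU_mem_cT, jU_mem_sl2⟩

theorem det_mul_GL (g h : GL2) : ((g * h : GL2) : M2).det = (g : M2).det * (h : M2).det := by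
  rw [Units.val_mul, Matrix.det_mul]

theorem det_dU : ((dU : GL2) : M2).det = -1 := by simp [dU, Matrix.det_fin_two]

theorem neg_val (g : GL2) : ((-g : GL2) : M2) = -(g : M2) := rfl

theorem neg_mem_qQ {g : GL2} (hg : g ∈ qQ F) : -g ∈ qQ F := by
  have e : (-g : GL2) = (jU * jU) * g := Units.ext (by rw [neg_val, Units.val_mul, jU_sq, neg_one_mul])
  rw [e]
  exact mul_mem (mul_mem jU_mem_qQ jU_mem_qQ) hg

theorem inv_mem_sl2 {g : GL2} (hg : g ∈ sl2 F) : ((g⁻¹ : GL2) : M2) = !![(g : M2) 1 1, -(g : M2) 0 1; -(g : M2) 1 0, (g : M2) 0 0] := by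
  have h : (g : M2) * !![(g : M2) 1 1, -(g : M2) 0 1; -(g : M2) 1 0, (g : M2) 0 0] = 1 := by
    have hd := mem_sl2.1 hg
    rw [Matrix.det_fin_two] at hd
    ext a b
    fin_cases a <;> fin_cases b <;> simp [Matrix.mul_apply, Fin.sum_univ_two] <;>
      first | linear_combination hd | ring
  exact Units.inv_eq_of_mul_eq_one_right h

variable [Fintype F]

theorem exists_norm_of_two_ne (h2 : (2 : F) ≠ 0) (d : F) : ∃ a b : F, a * a + b * b = d := by
  have hodd : Fintype.card F % 2 = 1 := FiniteField.odd_card_of_char_ne_two fun h => h2 <| by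
    have := ringChar.of_eq h; exact CharTwo.two_eq_zero
  obtain ⟨a, b, hab⟩ := FiniteField.exists_root_sum_quadratic (R := F) (f := Polynomial.X ^ 2)
    (g := Polynomial.X ^ 2 - Polynomial.C d) (Polynomial.degree_X_pow 2)
    (Polynomial.degree_X_pow_sub_C (by norm_num) _) hodd
  refine ⟨a, b, ?_⟩
  simp at hab
  linear_combination hab

theorem exists_cA_det (h2 : (2 : F) ≠ 0) {d : F} (hd : d ≠ 0) :
    ∃ M ∈ (cA : Subgroup GL2), (M : M2).det = d := by
  obtain ⟨a, b, hab⟩ := exists_norm_of_two_ne h2 d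
  have hdet : (!![a, -b; b, a] : M2).det = d := by
    rw [Matrix.det_fin_two_of]; linear_combination hab
  obtain ⟨M, hM⟩ := mk_det_ne (!![a, -b; b, a] : M2) (hdet ▸ hd)
  exact ⟨M, mem_cA.2 (by simp [hM]), by rw [hM, hdet]⟩

theorem exists_cT_det_neg_one (h2 : (2 : F) ≠ 0) : ∃ x ∈ (cT : Subgroup GL2), (x : M2).det = -1 := by
  obtain ⟨M, hM, hd⟩ := exists_cA_det h2 (neg_ne_zero.2 one_ne_zero : (-1 : F) ≠ 0)
  obtain ⟨e, m, hm, hem⟩ := Nat.exists_eq_two_pow_mul_odd (orderOf_pos M).ne'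
  refine ⟨M ^ m, ⟨pow_mem hM m, e, ?_⟩, ?_⟩
  · rw [← pow_mul, mul_comm, ← hem, pow_orderOf_eq_one]
  · rw [Units.val_pow_eq_pow_val, Matrix.det_pow, hd, hm.neg_one_pow]

/-- An element `k₀` of `qQ` outside `cA`. -/
theorem exists_k (h2 : (2 : F) ≠ 0) :
    ∃ k ∈ qQ F, k ∉ (cA : Subgroup GL2) ∧ k * dU ∈ (cT : Subgroup GL2) := by
  obtain ⟨x, hx, hd⟩ := exists_cT_det_neg_one h2
  refine ⟨x * dU, ⟨mul_mem (Or.inl hx) dU_mem_sT, mem_sl2.2 ?_⟩, ?_, ?_⟩
  · rw [det_mul_GL, hd, det_dU]; ring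
  · intro h
    exact dU_not_cA h2 (by simpa [← mul_assoc] using mul_mem (inv_mem hx.1) h)
  · rw [mul_assoc, dU_mul_self, mul_one]; exact hx

/-- Trace-zero elements of `SL₂` are conjugate in `SL₂`. -/
theorem exists_sl_conj (h2 : (2 : F) ≠ 0) {r : GL2} (hr : r ∈ sl2 F) (ht : (r : M2).trace = 0) :
    ∃ P ∈ sl2 F, P * jU * P⁻¹ = r := by
  have hns : ∀ s : F, (r : M2) ≠ s • (1 : M2) := by
    intro s h
    have hd := mem_sl2.1 hr
    rw [Matrix.trace_fin_two] at ht
    simp [h] at ht hd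
    have hs : (2 : F) * s = 0 := by linear_combination ht
    rw [(mul_eq_zero.1 hs).resolve_left h2] at hd
    simp at hd
  have hjn : ∀ s : F, ((jU : GL2) : M2) ≠ s • (1 : M2) := by
    intro s h
    have := congrFun (congrFun h 1) 0
    simp [jU] at this
  obtain ⟨P, hP⟩ := isConj_of_trace_det hns hjn (by rw [ht]; simp [jU, Matrix.trace_fin_two])
    (by rw [mem_sl2.1 hr]; simp [jU, Matrix.det_fin_two])
  obtain ⟨M, hM, hd⟩ := exists_cA_det h2 (inv_ne_zero (det_ne P))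
  refine ⟨P * M, mem_sl2.2 (by rw [det_mul_GL, hd, mul_inv_cancel₀ (det_ne P)]), ?_⟩
  have hc : M * jU = jU * M := Subgroup.mem_centralizer_singleton_iff.1 hM
  rw [← hP]
  calc P * M * jU * (P * M)⁻¹ = P * (M * jU) * M⁻¹ * P⁻¹ := by group
    _ = P * jU * P⁻¹ := by rw [hc]; group

theorem trace_of_not_cT {r : GL2} (hr : r ∈ qQ F) (hn : r ∉ (cT : Subgroup GL2)) :
    (r : M2).trace = 0 := by
  have h := (hr.1).resolve_left hn
  have := (mul_dU_facts h.1).1
  rwa [mul_assoc, dU_mul_self, mul_one] at this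

/-- Case hypothesis: `qQ` is quaternion of order eight. -/
def SmallCase (F : Type*) [Field F] : Prop :=
  ∀ c ∈ (cT : Subgroup (GL (Fin 2) F)) ⊓ sl2 F,
    ∃ r : F, ((c * c : GL (Fin 2) F) : Matrix (Fin 2) (Fin 2) F) = r • 1

theorem cT_small (hs : SmallCase F) (h2 : (2 : F) ≠ 0) {x : GL2} (hx : x ∈ (cT : Subgroup GL2))
    (hd : x ∈ sl2 F) : x = 1 ∨ x = -(1 : GL2) ∨ x = jU ∨ x = -(jU : GL2) := by
  obtain ⟨r, hr⟩ := hs x ⟨hx, hd⟩
  obtain ⟨h1, h3⟩ := mem_cA.1 hx.1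
  have h10 := congrFun (congrFun hr 1) 0
  have hdet := mem_sl2.1 hd
  rw [Matrix.det_fin_two] at hdet
  simp [Matrix.mul_apply, Fin.sum_univ_two, ← h1] at h10
  have hab : (2 : F) * ((x : M2) 0 0 * (x : M2) 1 0) = 0 := by linear_combination h10
  rcases mul_eq_zero.1 ((mul_eq_zero.1 hab).resolve_left h2) with ha | hb
  · have hb : (x : M2) 1 0 * (x : M2) 1 0 = 1 := by
      rw [← h1, h3, ha] at hdet; linear_combination hdet
    rcases mul_self_eq_one_iff.1 hb with e | e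
    · refine Or.inr (Or.inr (Or.inl (Units.ext ?_)))
      ext a b; fin_cases a <;> fin_cases b <;> simp [jU, ha, e, h3, ← h1]
    · refine Or.inr (Or.inr (Or.inr (Units.ext ?_)))
      ext a b; fin_cases a <;> fin_cases b <;> simp [jU, ha, e, h3, ← h1]
  · have ha : (x : M2) 0 0 * (x : M2) 0 0 = 1 := by
      rw [← h1, h3, hb] at hdet; linear_combination hdet
    rcases mul_self_eq_one_iff.1 ha with e | e
    · refine Or.inl (Units.ext ?_)
      ext a b; fin_cases a <;> fin_cases b <;> simp [hb, e, h3, ← h1]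
    · refine Or.inr (Or.inl (Units.ext ?_))
      ext a b; fin_cases a <;> fin_cases b <;> simp [hb, e, h3, ← h1]

theorem qQ_small (hs : SmallCase F) (h2 : (2 : F) ≠ 0) {k : GL2} (hk : k ∈ qQ F)
    (hkd : k * dU ∈ (cT : Subgroup GL2)) {x : GL2} (hx : x ∈ qQ F) :
    ∃ y : GL2, (x = y ∨ x = -y) ∧ (y = 1 ∨ y = jU ∨ y = k ∨ y = jU * k) := by
  obtain ⟨hxs, hxd⟩ := hx
  rcases hxs with h | h
  · rcases cT_small hs h2 h hxd with e | e | e | e
    · exact ⟨1, Or.inl e, Or.inl rfl⟩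
    · exact ⟨1, Or.inr e, Or.inl rfl⟩
    · exact ⟨jU, Or.inl e, Or.inr (Or.inl rfl)⟩
    · exact ⟨jU, Or.inr e, Or.inr (Or.inl rfl)⟩
  · have hq : x * k⁻¹ ∈ (cT : Subgroup GL2) := by
      rw [show x * k⁻¹ = (x * dU) * (k * dU)⁻¹ by group]
      exact mul_mem h (inv_mem hkd)
    rcases cT_small hs h2 hq (mul_mem hxd (inv_mem hk.2)) with e | e | e | e <;>
      rw [mul_inv_eq_iff_eq_mul] at e
    · exact ⟨k, Or.inl (by rw [e, one_mul]), Or.inr (Or.inr (Or.inl rfl))⟩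
    · exact ⟨k, Or.inr (by rw [e, neg_one_mul]), Or.inr (Or.inr (Or.inl rfl))⟩
    · exact ⟨jU * k, Or.inl e, Or.inr (Or.inr (Or.inr rfl))⟩
    · exact ⟨jU * k, Or.inr (by rw [e, neg_mul]), Or.inr (Or.inr (Or.inr rfl))⟩

theorem conj_jU_eq_inv (k : GL2) (hk : k * dU ∈ (cT : Subgroup GL2)) {a : GL2}
    (ha : a ∈ (cA : Subgroup GL2)) : k * a * k⁻¹ = dU * a * dU := by
  have hc := cA_comm hk.1 (dU_conj_mem ha)
  calc k * a * k⁻¹ = ((k * dU) * (dU⁻¹ * a * dU)) * (k * dU)⁻¹ := by group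
    _ = dU * a * dU := by rw [dU_inv, hc]; group

theorem dU_conj_sl2 {a : GL2} (ha : a ∈ (cA : Subgroup GL2)) (hd : a ∈ sl2 F) : dU * a * dU = a⁻¹ := by
  obtain ⟨h1, h3⟩ := mem_cA.1 ha
  refine Units.ext ?_
  rw [inv_mem_sl2 hd, Units.val_mul, Units.val_mul]
  ext i j
  fin_cases i <;> fin_cases j <;>
    simp [dU, Matrix.mul_apply, Matrix.vecMul, dotProduct, Fin.sum_univ_two, h1, h3]

theorem k_sq {k : GL2} (hk : k ∈ qQ F) (hkd : k * dU ∈ (cT : Subgroup GL2)) : k * k = -1 := by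
  refine Units.ext ?_
  have hf := (mul_dU_facts hkd.1).2.2
  rw [mul_assoc k dU dU, dU_mul_self, mul_one] at hf
  rw [hf, det_mul_GL, mem_sl2.1 hk.2, det_dU]
  simp [neg_val]

/-- Matrix of the element of order three normalizing a quaternion `qQ`. -/
noncomputable def hMat (k : GL2) : M2 :=
  (2 : F)⁻¹ • (-1 - (jU : GL2) - (k : M2) - ((jU * k : GL2) : M2))

theorem ring_facts {R : Type*} [Ring R] {j k : R} (hj : j * j = -1) (hk : k * k = -1)
    (hkj : k * j = -(j * k)) :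
    (-1 - j - k - j * k) * (-1 - j - k - j * k) = (1 + 1) * (-1 + j + k + j * k) ∧
    (-1 - j - k - j * k) * (-1 + j + k + j * k) = 1 + 1 + 1 + 1 ∧
    (-1 - j - k - j * k) * j = k * (-1 - j - k - j * k) ∧
    (-1 - j - k - j * k) * k = j * k * (-1 - j - k - j * k) ∧
    (j - k) * (j - k) = -(1 + 1) ∧
    (j - k) * j = -k * (j - k) ∧
    (j - k) * k = -j * (j - k) ∧
    (-1 - j - k - j * k) * (j - k) = (j - k) * (-1 + j + k + j * k) := by
  have a1 : ∀ x : R, j * (j * x) = -x := fun x => by rw [← mul_assoc, hj, neg_one_mul]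
  have a2 : ∀ x : R, k * (k * x) = -x := fun x => by rw [← mul_assoc, hk, neg_one_mul]
  have a3 : ∀ x : R, k * (j * x) = -(j * (k * x)) := fun x => by
    rw [← mul_assoc, hkj, neg_mul, mul_assoc]
  refine ⟨?_, ?_, ?_, ?_, ?_, ?_, ?_, ?_⟩ <;>
    · simp only [mul_add, add_mul, mul_sub, sub_mul, mul_neg, neg_mul, neg_neg, mul_one, one_mul,
        mul_assoc, a1, a2, a3, hj, hk, hkj]
      try abel

/-- The element of order three normalizing a quaternion `qQ`, with an element inverting it. -/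
theorem exists_h (h2 : (2 : F) ≠ 0) {k : GL2} (hk : k ∈ qQ F) (hkd : k * dU ∈ (cT : Subgroup GL2)) :
    ∃ h ∈ sl2 F, ∃ c : GL2, h ^ 3 = 1 ∧ h * jU * h⁻¹ = k ∧ h * k * h⁻¹ = jU * k ∧
      (c : M2) = (jU : GL2) - (k : M2) ∧ (c : M2).det = 2 ∧ c * c = -(1 : GL2) * (c * c * -(1 : GL2)) ∧
      ((c * c : GL2) : M2) = (-2 : F) • (1 : M2) ∧
      c * jU * c⁻¹ = -k ∧ c * k * c⁻¹ = -(jU : GL2) ∧ c * h * c⁻¹ = h⁻¹ := by
  set j : M2 := ((jU : GL2) : M2) with hjdef
  set kk : M2 := (k : M2) with hkdef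
  have hj : j * j = -1 := jU_sq
  have hkk : kk * kk = -1 := by
    rw [hkdef, ← Units.val_mul, k_sq hk hkd, neg_val, Units.val_one]
  have hkj : kk * j = -(j * kk) := by
    have e := conj_jU_eq_inv k hkd (a := jU) (Subgroup.mem_centralizer_singleton_iff.2 rfl)
    rw [dU_conj_jU, mul_inv_eq_iff_eq_mul] at e
    have e' := congrArg Units.val e
    rw [Units.val_mul, Units.val_mul, inv_mem_sl2 jU_mem_sl2] at e'
    rw [hkdef, hjdef, e', ← neg_mul]
    congr 1
    ext a b; fin_cases a <;> fin_cases b <;> simp [jU]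
  obtain ⟨f1, f2, f3, f4, f5, f6, f7, f8⟩ := ring_facts hj hkk hkj
  have hM : hMat k = (2 : F)⁻¹ • (-1 - j - kk - j * kk) := by
    rw [hMat, Units.val_mul]
  have h4 : (1 + 1 + 1 + 1 : M2) = (4 : F) • (1 : M2) := by
    rw [show (4 : F) = 1 + 1 + 1 + 1 by norm_num, add_smul, add_smul, add_smul, one_smul]
  have h22 : (1 + 1 : M2) = (2 : F) • (1 : M2) := by
    rw [show (2 : F) = 1 + 1 by norm_num, add_smul, one_smul]
  set N : M2 := (2 : F)⁻¹ • (-1 + j + kk + j * kk) with hN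
  have hMM : hMat k * hMat k = N := by
    rw [hM, hN, smul_mul_smul_comm, f1, h22, Matrix.smul_mul, one_mul, smul_smul]
    congr 1
    field_simp
  have hMN : hMat k * N = 1 := by
    rw [hM, hN, smul_mul_smul_comm, f2, h4, smul_smul]
    convert one_smul F (1 : M2) using 2
    field_simp
    norm_num
  have hh3 : hMat k * hMat k * hMat k = 1 := by rw [mul_assoc, hMM, hMN]
  let h : GL2 := ⟨hMat k, N, hMN, by rw [← hMM]; exact hh3⟩
  have hkt : kk.trace = 0 := trace_of_not_cT hk fun h' => by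
    have := mul_mem (inv_mem h') hkd
    rw [inv_mul_cancel_left] at this
    exact dU_not_cA h2 this.1
  have hk3 := congrArg Matrix.det hh3
  have hdet : (hMat k).det = 1 := by
    have hkd' := mem_sl2.1 hk.2
    rw [← hkdef, Matrix.det_fin_two] at hkd'
    rw [Matrix.trace_fin_two] at hkt
    rw [hM, hjdef, Matrix.det_fin_two]
    simp [jU, Matrix.mul_apply, Matrix.vecMul, dotProduct, Fin.sum_univ_two]
    field_simp
    first
      | linear_combination 2 * hkd' + 2 * hkt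
      | linear_combination -2 * hkd' + 2 * hkt
      | linear_combination hkd' + 2 * hkt
      | linear_combination 2 * hkt
  have hcc : ((j - kk) * (j - kk)) = (-2 : F) • (1 : M2) := by
    rw [f5, h22, neg_smul]
  let c : GL2 := ⟨j - kk, (-2 : F)⁻¹ • (j - kk),
    by rw [Matrix.mul_smul, hcc, smul_smul, inv_mul_cancel₀ (neg_ne_zero.2 h2), one_smul],
    by rw [Matrix.smul_mul, hcc, smul_smul, inv_mul_cancel₀ (neg_ne_zero.2 h2), one_smul]⟩
  have hcdet : (j - kk).det = 2 := by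
    have hkd' := mem_sl2.1 hk.2
    rw [← hkdef, Matrix.det_fin_two] at hkd'
    have hs := congrFun (congrFun hkj 0) 0
    simp [hjdef, jU, Matrix.mul_apply, Matrix.vecMul, dotProduct, Fin.sum_univ_two] at hs
    rw [Matrix.det_fin_two, hjdef]
    simp [jU]
    first
      | linear_combination hkd' + hs
      | linear_combination hkd' - hs
  refine ⟨h, mem_sl2.2 hdet, c, ?_, ?_, ?_, rfl, hcdet, by simp, ?_, ?_, ?_, ?_⟩
  · refine Units.ext ?_
    rw [Units.val_pow_eq_pow_val, Units.val_one, pow_succ, pow_two]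
    exact hh3
  · refine mul_inv_eq_iff_eq_mul.2 (Units.ext ?_)
    show hMat k * j = kk * hMat k
    rw [hM, Matrix.smul_mul, f3, Matrix.mul_smul]
  · refine mul_inv_eq_iff_eq_mul.2 (Units.ext ?_)
    show hMat k * kk = ((jU * k : GL2) : M2) * hMat k
    rw [hM, Units.val_mul, Matrix.smul_mul, f4, Matrix.mul_smul]
  · exact hcc
  · exact mul_inv_eq_iff_eq_mul.2 (Units.ext (by
      show (j - kk) * j = -kk * (j - kk)
      exact f6))
  · exact mul_inv_eq_iff_eq_mul.2 (Units.ext (by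
      show (j - kk) * kk = -j * (j - kk)
      exact f7))
  · refine mul_inv_eq_iff_eq_mul.2 (Units.ext ?_)
    show (j - kk) * hMat k = N * (j - kk)
    have := congrArg (fun z => (j - kk) * z * (j - kk)) f8
    simp only [mul_assoc, hcc] at this
    simp only [← mul_assoc] at this
    rw [mul_assoc _ _ ((-2 : F) • (1 : M2))] at this
    rw [hM, hN, Matrix.mul_smul, Matrix.smul_mul]
    congr 1
    first
      | (simp only [hcc, Matrix.mul_smul, Matrix.smul_mul, one_mul, mul_one] at this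
         exact smul_right_injective _ (neg_ne_zero.2 h2) this)
      | (simp only [hcc, Matrix.mul_smul, Matrix.smul_mul, one_mul, mul_one] at this
         exact (smul_right_injective _ (neg_ne_zero.2 h2) this).symm)

/-- When `qQ` is bigger than quaternion of order eight it is self-normalizing in `SL₂`. -/
theorem mem_qQ_of_not_small (h2 : (2 : F) ≠ 0) {k c : GL2} (hk : k ∈ qQ F)
    (hkd : k * dU ∈ (cT : Subgroup GL2)) (hc : c ∈ (cT : Subgroup GL2) ⊓ sl2 F)
    (hcs : ∀ r : F, ((c * c : GL2) : M2) ≠ r • (1 : M2)) {A : GL2} (hA : A ∈ sl2 F)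
    (hn : ∀ x ∈ qQ F, A * x * A⁻¹ ∈ qQ F) : A ∈ qQ F := by
  set z := A * jU * A⁻¹ with hzdef
  have hzQ : z ∈ qQ F := hn jU jU_mem_qQ
  have hzT : z ∈ (cT : Subgroup GL2) := by
    refine hzQ.1.resolve_right fun hy => ?_
    set w := A * c * A⁻¹ with hw
    have hw2 : w * w ∈ (cT : Subgroup GL2) := sq_mem_cT (hn c ⟨Or.inl hc.1, hc.2⟩).1
    have e1 : (w * w) * z = z * (w * w) := by
      have hjc : Commute (jU : GL2) c := cA_comm jU_mem_cT.1 hc.1.1
      have e := (hjc.mul_right hjc).symm.eq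
      calc (w * w) * z = A * (c * c * jU) * A⁻¹ := by rw [hw, hzdef]; group
        _ = z * (w * w) := by rw [e, hw, hzdef]; group
    have e2 : dU * (w * w) = (w * w) * dU := by
      have hc' := cA_comm hw2.1 hy.1
      calc dU * (w * w) = (z * dU)⁻¹ * ((z * dU) * (dU * (w * w))) := by group
        _ = (z * dU)⁻¹ * (z * (w * w)) := by rw [show (z * dU) * (dU * (w * w)) =
              z * (dU * dU) * (w * w) by group, dU_mul_self, mul_one]
        _ = (z * dU)⁻¹ * ((w * w) * (z * dU) * dU⁻¹) := by rw [← e1]; group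
        _ = (w * w) * dU := by rw [hc', dU_inv]; group
    have hsc := scalar_of_cA hw2.1 e2 h2
    have hcomm := commute_of_scalar hsc A
    have e3 : c * c = w * w := by
      calc c * c = A⁻¹ * ((w * w) * A) := by rw [hw]; group
        _ = w * w := by rw [hcomm]; group
    exact hcs _ (e3 ▸ hsc)
  obtain ⟨h1, h3⟩ := mem_cA.1 hzT.1
  have htr : (z : M2).trace = 0 := by
    rw [hzdef, Units.val_mul, Units.val_mul, Matrix.trace_mul_comm, ← mul_assoc, ← Units.val_mul,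
      inv_mul_cancel, Units.val_one, one_mul, Matrix.trace_fin_two]
    simp [jU]
  have hdet := mem_sl2.1 hzQ.2
  rw [Matrix.trace_fin_two, ← h1] at htr
  have h00 : (z : M2) 0 0 = 0 := by
    have : (2 : F) * (z : M2) 0 0 = 0 := by linear_combination htr
    exact (mul_eq_zero.1 this).resolve_left h2
  rw [Matrix.det_fin_two, h3, h00] at hdet
  have hb : (z : M2) 1 0 * (z : M2) 1 0 = 1 := by linear_combination hdet
  obtain ⟨s, hs, hsB⟩ : ∃ s ∈ qQ F, (s * A) * jU * (s * A)⁻¹ = jU := by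
    rcases mul_self_eq_one_iff.1 hb with e | e
    · refine ⟨1, one_mem _, ?_⟩
      rw [one_mul, ← hzdef]
      refine Units.ext ?_
      ext a b; fin_cases a <;> fin_cases b <;> simp [jU, h00, e, h3, h1.symm]
    · refine ⟨k, hk, ?_⟩
      rw [show k * A * jU * (k * A)⁻¹ = k * z * k⁻¹ by rw [hzdef]; group,
        conj_jU_eq_inv k hkd hzT.1, dU_conj_sl2 hzT.1 hzQ.2]
      refine Units.ext ?_
      rw [inv_mem_sl2 hzQ.2]
      ext a b; fin_cases a <;> fin_cases b <;> simp [jU, h00, e, h3, h1.symm]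
  set B := s * A with hB
  have hBA : B ∈ (cA : Subgroup GL2) :=
    Subgroup.mem_centralizer_singleton_iff.2 (mul_inv_eq_iff_eq_mul.1 hsB)
  have hBsl : B ∈ sl2 F := mul_mem hs.2 hA
  have hBk : B * k * B⁻¹ ∈ qQ F := by
    have h := mul_mem (mul_mem hs (hn k hk)) (inv_mem hs)
    rwa [show s * (A * k * A⁻¹) * s⁻¹ = B * k * B⁻¹ by rw [hB]; group] at h
  have e2 : k * B⁻¹ = B * k := by
    have := conj_jU_eq_inv k hkd (inv_mem hBA)
    rw [dU_conj_sl2 (inv_mem hBA) (inv_mem hBsl), inv_inv, mul_inv_eq_iff_eq_mul] at this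
    exact this
  rw [mul_assoc, e2, ← mul_assoc] at hBk
  have hBB : B * B ∈ qQ F := by simpa using mul_mem hBk (inv_mem hk)
  obtain ⟨n, hn'⟩ := sT_twoPow hBB.1
  have hBQ : B ∈ qQ F := ⟨Or.inl ⟨hBA, n + 1, by rw [pow_succ', pow_mul, pow_two, hn']⟩, hBsl⟩
  rw [show A = s⁻¹ * B by rw [hB]; group]
  exact mul_mem (inv_mem hs) hBQ

/-- Elements normalizing `qQ`. -/
theorem normalizes_qQ (h2 : (2 : F) ≠ 0) {A : GL2} (hA : A ∈ sl2 F)
    (hn : ∀ x ∈ qQ F, A * x * A⁻¹ ∈ qQ F) :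
    A ∈ qQ F ∨ (SmallCase F ∧ ∀ k h : GL2, k ∈ qQ F → k * dU ∈ (cT : Subgroup GL2) → h ∈ sl2 F →
      h ^ 3 = 1 → h * jU * h⁻¹ = k → h * k * h⁻¹ = jU * k →
      ∃ q ∈ qQ F, ∃ e : ℕ, A = q * h ^ e) := by
  obtain ⟨k₀, hk₀, hk₀A, hk₀d⟩ := exists_k h2
  by_cases hs : SmallCase F
  · refine Or.inr ⟨hs, fun k h hk hkd hh h3 hjk hkk => ?_⟩
    have hinv : h⁻¹ = h ^ 2 := inv_eq_of_mul_eq_one_right (by rw [← pow_succ', h3])
    have hjh : h * (jU * k) * h⁻¹ = jU := by
      rw [show h * (jU * k) * h⁻¹ = (h * jU * h⁻¹) * (h * k * h⁻¹) by group, hjk, hkk,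
        ← mul_assoc, mul_inv_eq_iff_eq_mul.1 (conj_jU_eq_inv k hkd
          (a := jU) (Subgroup.mem_centralizer_singleton_iff.2 rfl)),
        dU_conj_jU, mul_assoc, k_sq hk hkd]
      refine Units.ext ?_
      rw [Units.val_mul, inv_mem_sl2 jU_mem_sl2, neg_val, Units.val_one]
      ext a b; fin_cases a <;> fin_cases b <;> simp [jU]
    have hnk : ∀ x ∈ qQ F, h * x * h⁻¹ ∈ qQ F := by
      intro x hx
      obtain ⟨y, hxy, hy⟩ := qQ_small hs h2 hk hkd hx
      have hy' : h * y * h⁻¹ ∈ qQ F := by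
        rcases hy with e0 | e0 | e0 | e0 <;> rw [e0]
        · simp
        · rw [hjk]; exact hk
        · rw [hkk]; exact mul_mem jU_mem_qQ hk
        · rw [hjh]; exact jU_mem_qQ
      rcases hxy with rfl | rfl
      · exact hy'
      · simpa using neg_mem_qQ hy'
    have hnk2 : ∀ e : ℕ, ∀ x ∈ qQ F, h ^ e * x * (h ^ e)⁻¹ ∈ qQ F := by
      intro e
      induction e with
      | zero => intro x hx; simpa using hx
      | succ e ih =>
        intro x hx
        rw [show h ^ (e + 1) * x * (h ^ (e + 1))⁻¹ = h * (h ^ e * x * (h ^ e)⁻¹) * h⁻¹ by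
          rw [pow_succ']; group]
        exact hnk _ (ih x hx)
    have hkj : k * jU * k⁻¹ = -(jU : GL2) := by
      rw [conj_jU_eq_inv k hkd (Subgroup.mem_centralizer_singleton_iff.2 rfl), dU_conj_jU]
      refine Units.ext ?_
      rw [inv_mem_sl2 jU_mem_sl2, neg_val]
      ext a b; fin_cases a <;> fin_cases b <;> simp [jU]
    obtain ⟨y, hxy, hy⟩ := qQ_small hs h2 hk hkd (hn jU jU_mem_qQ)
    obtain ⟨e, he⟩ : ∃ e : ℕ, h ^ e * y * (h ^ e)⁻¹ = jU ∨ y = 1 := by
      rcases hy with e0 | e0 | e0 | e0 <;> rw [e0]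
      · exact ⟨0, Or.inr rfl⟩
      · exact ⟨0, Or.inl (by simp)⟩
      · refine ⟨2, Or.inl ?_⟩
        rw [show h ^ 2 * k * (h ^ 2)⁻¹ = h * (h * k * h⁻¹) * h⁻¹ by rw [pow_two]; group, hkk, hjh]
      · exact ⟨1, Or.inl (by rw [pow_one, hjh])⟩
    rcases he with he | he
    · -- `h ^ e * A` fixes `jU` up to sign
      set B := h ^ e * A with hB
      have hBj : B * jU * B⁻¹ = jU ∨ B * jU * B⁻¹ = -(jU : GL2) := by
        rw [show B * jU * B⁻¹ = h ^ e * (A * jU * A⁻¹) * (h ^ e)⁻¹ by rw [hB]; group]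
        rcases hxy with e1 | e1 <;> rw [e1]
        · exact Or.inl he
        · right; rw [mul_neg, neg_mul, he]
      obtain ⟨s, hs', hsB⟩ : ∃ s ∈ qQ F, (s * B) * jU * (s * B)⁻¹ = jU := by
        rcases hBj with e1 | e1
        · exact ⟨1, one_mem _, by rwa [one_mul]⟩
        · refine ⟨k, hk, ?_⟩
          rw [show k * B * jU * (k * B)⁻¹ = k * (B * jU * B⁻¹) * k⁻¹ by group, e1, mul_neg, neg_mul,
            hkj, neg_neg]
      set B' := s * B with hB'
      have hB'A : B' ∈ (cA : Subgroup GL2) :=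
        Subgroup.mem_centralizer_singleton_iff.2 (mul_inv_eq_iff_eq_mul.1 hsB)
      have hB'sl : B' ∈ sl2 F := mul_mem hs'.2 (mul_mem (pow_mem hh e) hA)
      have hB'k : B' * k * B'⁻¹ ∈ qQ F := by
        have h1 := hnk2 e _ (hn k hk)
        have h2' := mul_mem (mul_mem hs' h1) (inv_mem hs')
        rwa [show s * (h ^ e * (A * k * A⁻¹) * (h ^ e)⁻¹) * s⁻¹ = B' * k * B'⁻¹ by
          rw [hB', hB]; group] at h2'
      have hBB : B' * B' * k ∈ qQ F := by
        have e2 : k * B'⁻¹ = B' * k := by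
          have := conj_jU_eq_inv k hkd (inv_mem hB'A)
          rw [dU_conj_sl2 (inv_mem hB'A) (inv_mem hB'sl), inv_inv, mul_inv_eq_iff_eq_mul] at this
          exact this
        rwa [mul_assoc, e2, ← mul_assoc] at hB'k
      have hBB' : B' * B' ∈ qQ F := by simpa using mul_mem hBB (inv_mem hk)
      obtain ⟨n, hn'⟩ := sT_twoPow hBB'.1
      have hB'Q : B' ∈ qQ F :=
        ⟨Or.inl ⟨hB'A, n + 1, by rw [pow_succ', pow_mul, pow_two, hn']⟩, hB'sl⟩
      refine ⟨(h ^ e)⁻¹ * (s⁻¹ * B') * h ^ e, ?_, 2 * e, ?_⟩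
      · have h1 := hnk2 (2 * e) _ (mul_mem (inv_mem hs') hB'Q)
        have e3 : h ^ (2 * e) = (h ^ e)⁻¹ := by rw [pow_mul, ← hinv, inv_pow]
        rwa [e3, inv_inv] at h1
      · have e3 : h ^ (2 * e) = (h ^ e)⁻¹ := by rw [pow_mul, ← hinv, inv_pow]
        rw [e3, hB', hB]
        group
    · exfalso
      have h1 : A * jU * A⁻¹ = 1 ∨ A * jU * A⁻¹ = -(1 : GL2) := by
        rcases hxy with e1 | e1
        · exact Or.inl (e1.trans he)
        · exact Or.inr (e1.trans (by rw [he]))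
      have h4 : (jU : GL2) = 1 ∨ (jU : GL2) = -(1 : GL2) := by
        rcases h1 with e1 | e1
        · left
          rw [mul_inv_eq_iff_eq_mul, one_mul, mul_eq_left] at e1
          exact e1
        · right
          rw [mul_inv_eq_iff_eq_mul, neg_one_mul] at e1
          calc (jU : GL2) = A⁻¹ * (A * jU) := by group
            _ = -(1 : GL2) := by rw [e1, mul_neg, inv_mul_cancel]
      rcases h4 with h | h <;>
      · have := congrArg (fun z : GL2 => (z : M2) 1 0) h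
        simp [jU, neg_val] at this
  · refine Or.inl ?_
    simp only [SmallCase, not_forall, not_exists] at hs
    obtain ⟨c, hc, hcs⟩ := hs
    exact mem_qQ_of_not_small h2 hk₀ hk₀d hc hcs hA hn

end Cfsg.Agent.H91.PSp4
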