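import Cfsg.Agent.H91.PSpFour

/-!
The 2-fusion system of `PSp₄(F)`, `|F|` odd, is simple: strongly closed subgroups and automizer.
-/

set_option autoImplicit false

namespace Cfsg.Agent.H91.PSp4

open Matrix Cfsg Cfsg.Agent.H91.PSL3 Cfsg.Agent.FusionSys Cfsg.Agent.H89
open Cfsg.FusionSystem (centralizerIn)

variable {F : Type*} [Field F] [Fintype F]

local notation "GL2" => GL (Fin 2) F
local notation "M2" => Matrix (Fin 2) (Fin 2) F
local notation "M4" => Matrix (Fin 2 ⊕ Fin 2) (Fin 2 ⊕ Fin 2) F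
local notation "SP" => Matrix.symplecticGroup (Fin 2) F

/-! ### Facts about a quaternion `qQ` -/

theorem sq_small (hs : SmallCase F) (h2 : (2 : F) ≠ 0) {x : sl2 F} (hx : (x : GL2) ∈ qQ F) :
    x * x = 1 ∨ x * x = nOne F := by
  by_cases hc : (x : GL2) ∈ (cT : Subgroup GL2)
  · rcases cT_small hs h2 hc x.2 with e | e | e | e
    · exact Or.inl (Subtype.ext (by rw [Subgroup.coe_mul, e, mul_one]; rfl))
    · exact Or.inl (Subtype.ext (by rw [Subgroup.coe_mul, e, neg_mul_neg, one_mul]; rfl))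
    · exact Or.inr (Subtype.ext (by rw [Subgroup.coe_mul, e]; rfl))
    · exact Or.inr (Subtype.ext (by rw [Subgroup.coe_mul, e, neg_mul_neg]; rfl))
  · refine Or.inr (Subtype.ext ?_)
    rw [Subgroup.coe_mul, k_sq hx (hx.1.resolve_left hc)]
    exact Units.ext (by rw [neg_val, Units.val_one, nOne_val])

theorem conj_small (hs : SmallCase F) (h2 : (2 : F) ≠ 0) {x a : sl2 F} (hx : (x : GL2) ∈ qQ F)
    (ha : (a : GL2) ∈ qQ F) : x * a * x⁻¹ = a ∨ x * a * x⁻¹ = nOne F * a := by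
  have hxa : ((x * a : sl2 F) : GL2) ∈ qQ F := mul_mem hx ha
  have hn2 : nOne F * nOne F = (1 : sl2 F) := nOne_mul_self
  have key : ∀ s t u : sl2 F, x * a * (x * a) = s → x * x = t → a * a = u →
      x * a * x⁻¹ = s * a⁻¹ * t⁻¹ ∧ a⁻¹ = u⁻¹ * a := by
    intro s t u h1 h2' h3
    constructor
    · rw [← h1, ← h2']; group
    · rw [← h3]; group
  rcases sq_small hs h2 hxa with e1 | e1 <;> rcases sq_small hs h2 hx with e2 | e2 <;>
    rcases sq_small hs h2 ha with e3 | e3 <;>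
    obtain ⟨f1, f2⟩ := key _ _ _ e1 e2 e3 <;>
    rw [f2] at f1 <;>
    simp only [inv_one, one_mul, mul_one, inv_eq_of_mul_eq_one_right hn2, mul_assoc,
      ← nOne_comm a] at f1 <;>
    simp only [← mul_assoc, hn2, one_mul] at f1 <;>
    first
      | exact Or.inl f1
      | exact Or.inr f1

theorem inv_small (hs : SmallCase F) (h2 : (2 : F) ≠ 0) {q : sl2 F} (hq : (q : GL2) ∈ qQ F) :
    q⁻¹ = q ∨ q⁻¹ = nOne F * q := by
  rcases sq_small hs h2 hq with e | e
  · exact Or.inl (inv_eq_of_mul_eq_one_right e)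
  · refine Or.inr (inv_eq_of_mul_eq_one_right ?_)
    rw [← mul_assoc, ← nOne_comm, mul_assoc, e, nOne_mul_self]

theorem conj_mem_qQ (hs : SmallCase F) (h2 : (2 : F) ≠ 0) {k P : GL2} (hk : k ∈ qQ F)
    (hkd : k * dU ∈ (cT : Subgroup GL2)) (hj : P * jU * P⁻¹ ∈ qQ F) (hkP : P * k * P⁻¹ ∈ qQ F)
    {x : GL2} (hx : x ∈ qQ F) : P * x * P⁻¹ ∈ qQ F := by
  obtain ⟨y, hxy, hy⟩ := qQ_small hs h2 hk hkd hx
  have hy' : P * y * P⁻¹ ∈ qQ F := by
    rcases hy with e | e | e | e <;> rw [e]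
    · rw [mul_one, mul_inv_cancel]; exact one_mem _
    · exact hj
    · exact hkP
    · rw [show P * (jU * k) * P⁻¹ = (P * jU * P⁻¹) * (P * k * P⁻¹) by group]
      exact mul_mem hj hkP
  rcases hxy with e | e <;> rw [e]
  · exact hy'
  · rw [mul_neg, neg_mul]; exact neg_mem_qQ hy'

/-! ### The subgroup `rHat` -/

variable (F) in
/-- The monomial matrices in `O₂`. -/
def dG : Subgroup (orth F) :=
  Subgroup.closure {⟨jU, jU_mem_orth⟩, ⟨dU, dU_mem_orth⟩}

variable (F) in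
/-- The preimage of an elementary abelian subgroup of order sixteen, when `qQ` is quaternion. -/
def rHat : Subgroup SP := ((dG F).prod ((qQ F).subgroupOf (sl2 F))).map tenS

omit [Fintype F] in
theorem rHat_le {K : Subgroup SP} (hj : tenS (⟨jU, jU_mem_orth⟩, 1) ∈ K)
    (hd : tenS (⟨dU, dU_mem_orth⟩, 1) ∈ K)
    (ha : ∀ a : sl2 F, (a : GL2) ∈ qQ F → tenS (1, a) ∈ K) : rHat F ≤ K := by
  rintro _ ⟨⟨D, a⟩, ⟨hD, ha'⟩, rfl⟩
  have hD' : dG F ≤ K.comap ((tenS : orth F × sl2 F →* SP).comp (MonoidHom.inl _ _)) := by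
    rw [dG, Subgroup.closure_le]
    rintro _ (rfl | rfl)
    · exact hj
    · exact hd
  rw [show ((D, a) : orth F × sl2 F) = (D, 1) * (1, a) by simp, map_mul]
  exact mul_mem (hD' hD) (ha a ha')

omit [Fintype F] in
theorem tenS_jU_mem : tenS (⟨jU, jU_mem_orth⟩, 1) ∈ rHat F :=
  ⟨((⟨jU, jU_mem_orth⟩ : orth F), (1 : sl2 F)), ⟨Subgroup.subset_closure (Or.inl rfl), one_mem _⟩, rfl⟩

omit [Fintype F] in
theorem zS_mem_rHat : zS F ∈ rHat F := by
  rw [← zS_eq_ten]
  exact ⟨((⟨dU, dU_mem_orth⟩ : orth F), (1 : sl2 F)), ⟨Subgroup.subset_closure (Or.inr rfl), one_mem _⟩, rfl⟩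

omit [Fintype F] in
theorem diag_mem_rHat {a : sl2 F} (ha : (a : GL2) ∈ qQ F) : prS (a, a) ∈ rHat F := by
  rw [← ten_eq_pr]
  exact ⟨((1 : orth F), a), ⟨one_mem _, ha⟩, rfl⟩

omit [Fintype F] in
theorem tenS_jU_eq : tenS (⟨jU, jU_mem_orth⟩, 1) = wS F * zS F := by
  rw [← zS_eq_ten, wS, ← map_mul, Prod.mk_mul_mk, one_mul]
  refine congrArg _ (Prod.ext (Subtype.ext ?_) rfl)
  show (jU : GL2) = jU * dU * dU
  rw [mul_assoc, dU_mul_self, mul_one]

omit [Fintype F] in
theorem wS_mem_rHat : wS F ∈ rHat F := by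
  have h : wS F * zS F ∈ rHat F := tenS_jU_eq (F := F) ▸ tenS_jU_mem
  simpa using mul_mem h (inv_mem zS_mem_rHat)

omit [Fintype F] in
theorem antidiag_mem_rHat {a : sl2 F} (ha : (a : GL2) ∈ qQ F) :
    prS (a, nOne F * a) ∈ rHat F := by
  have h := mul_mem (zS_mem_rHat (F := F)) (diag_mem_rHat ha)
  rwa [zS, ← map_mul, Prod.mk_mul_mk, one_mul] at h

omit [Fintype F] in
theorem pm_mem_rHat {a b : sl2 F} (ha : (a : GL2) ∈ qQ F) (hb : b = a ∨ b = nOne F * a) :
    prS (a, b) ∈ rHat F := by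
  rcases hb with rfl | rfl
  · exact diag_mem_rHat ha
  · exact antidiag_mem_rHat ha

omit [Fintype F] in
theorem rHat_le_sHat : rHat F ≤ sHat F :=
  rHat_le (tenS_jU_eq (F := F) ▸ mul_mem wS_mem_sHat (prS_mem_sHat one_mem_qQ nOne_mem))
    (zS_eq_ten (F := F) ▸ prS_mem_sHat one_mem_qQ nOne_mem)
    fun a ha => ten_eq_pr a ▸ prS_mem_sHat ha ha

theorem sHat_normalizes_rHat (hs : SmallCase F) (h2 : (2 : F) ≠ 0) {v : SP} (hv : v ∈ sHat F)
    {u : SP} (hu : u ∈ rHat F) : v * u * v⁻¹ ∈ rHat F := by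
  have hpr : ∀ x y : sl2 F, (x : GL2) ∈ qQ F → (y : GL2) ∈ qQ F → ∀ u ∈ rHat F,
      prS (x, y) * u * (prS (x, y))⁻¹ ∈ rHat F := by
    intro x y hx hy
    have hz : prS (x, y) * zS F * (prS (x, y))⁻¹ = zS F := by
      rw [zS, ← map_inv, ← map_mul, ← map_mul]
      refine congrArg _ (Prod.ext ?_ ?_)
      · show x * 1 * x⁻¹ = 1
        group
      · show y * nOne F * y⁻¹ = nOne F
        rw [← nOne_comm, mul_inv_cancel_right]
    have hw : prS (x, y) * wS F * (prS (x, y))⁻¹ ∈ rHat F := by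
      rw [← map_inv, mul_assoc, wS_swap, ← mul_assoc, ← map_mul]
      refine mul_mem (pm_mem_rHat (mul_mem hx (inv_mem hy)) ?_) wS_mem_rHat
      show y * x⁻¹ = x * y⁻¹ ∨ y * x⁻¹ = nOne F * (x * y⁻¹)
      rw [show y * x⁻¹ = (x * y⁻¹)⁻¹ by group]
      exact inv_small hs h2 (q := x * y⁻¹) (mul_mem hx (inv_mem hy))
    intro u hu
    refine rHat_le (K := (rHat F).comap (MulAut.conj (prS (x, y))).toMonoidHom) ?_ ?_ ?_ hu
    · show prS (x, y) * tenS (⟨jU, jU_mem_orth⟩, 1) * (prS (x, y))⁻¹ ∈ rHat F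
      rw [tenS_jU_eq, show prS (x, y) * (wS F * zS F) * (prS (x, y))⁻¹ =
        (prS (x, y) * wS F * (prS (x, y))⁻¹) * (prS (x, y) * zS F * (prS (x, y))⁻¹) by group, hz]
      exact mul_mem hw zS_mem_rHat
    · show prS (x, y) * tenS (⟨dU, dU_mem_orth⟩, 1) * (prS (x, y))⁻¹ ∈ rHat F
      rw [zS_eq_ten, hz]
      exact zS_mem_rHat
    · intro a ha
      show prS (x, y) * tenS (1, a) * (prS (x, y))⁻¹ ∈ rHat F
      rw [ten_eq_pr, ← map_inv, ← map_mul, ← map_mul]
      refine pm_mem_rHat (mul_mem (mul_mem hx ha) (inv_mem hx)) ?_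
      show y * a * y⁻¹ = x * a * x⁻¹ ∨ y * a * y⁻¹ = nOne F * (x * a * x⁻¹)
      rcases conj_small hs h2 hx ha with e | e <;> rcases conj_small hs h2 hy ha with e' | e' <;>
        rw [e, e']
      · exact Or.inl rfl
      · exact Or.inr rfl
      · exact Or.inr (by rw [← mul_assoc, nOne_mul_self, one_mul])
      · exact Or.inl rfl
  obtain ⟨x, y, hx, hy, rfl | rfl⟩ := hv
  · exact hpr x y hx hy u hu
  · rw [show prS (x, y) * wS F * u * (prS (x, y) * wS F)⁻¹ =
      prS (x, y) * (wS F * u * (wS F)⁻¹) * (prS (x, y))⁻¹ by group]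
    exact hpr x y hx hy _ (mul_mem (mul_mem wS_mem_rHat hu) (inv_mem wS_mem_rHat))

/-! ### The main argument -/

section Main

variable {G : Type*} [Group G] [Finite G] (π : Matrix.symplecticGroup (Fin 2) F →* G)
  (hsur : Function.Surjective π)
  (hker : π.ker = Subgroup.center (Matrix.symplecticGroup (Fin 2) F)) (h2 : (2 : F) ≠ 0)

omit [Finite G] in
include hker in
theorem pi_eq {u v : SP} (h : π u = π v) : v = u ∨ v = u * cS F := by
  have h' : u⁻¹ * v ∈ π.ker := by rw [MonoidHom.mem_ker, map_mul, map_inv, h, inv_mul_cancel]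
  rw [hker, mem_center_iff] at h'
  rcases h' with e | e
  · exact Or.inl (inv_mul_eq_one.1 e).symm
  · exact Or.inr (inv_mul_eq_iff_eq_mul.1 e)

omit [Finite G] in
include hker in
theorem pi_cS : π (cS F) = 1 := by
  rw [← MonoidHom.mem_ker, hker, mem_center_iff]
  exact Or.inr rfl

omit [Finite G] in
include hker in
theorem mem_sHat_of_pi {u : SP} (h : π u ∈ (sHat F).map π) : u ∈ sHat F := by
  obtain ⟨v, hv, e⟩ := h
  rcases pi_eq π hker e with rfl | rfl
  · exact hv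
  · exact mul_mem hv cS_mem_sHat

omit [Finite G] in
include hsur hker in
theorem exists_lift_normalizer {g : G} (hg : ∀ x ∈ (sHat F).map π, g * x * g⁻¹ ∈ (sHat F).map π) :
    ∃ u : SP, π u = g ∧ ∀ v ∈ sHat F, u * v * u⁻¹ ∈ sHat F := by
  obtain ⟨u, rfl⟩ := hsur g
  refine ⟨u, rfl, fun v hv => mem_sHat_of_pi π hker ?_⟩
  rw [map_mul, map_mul, map_inv]
  exact hg _ ⟨v, hv, rfl⟩

omit [Finite G] in
theorem map_isPGroup : IsPGroup 2 ↥((sHat F).map π) := by
  rintro ⟨_, x, hx, rfl⟩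
  obtain ⟨k, hk⟩ := sHat_twoPow hx
  exact ⟨k, Subtype.ext (by rw [SubmonoidClass.coe_pow, ← map_pow, hk, map_one]; rfl)⟩

include hsur hker h2 in
theorem exists_sylow : ∃ S : Sylow 2 G, (S : Subgroup G) = (sHat F).map π := by
  obtain ⟨R, hR⟩ := (map_isPGroup π).exists_le_sylow
  refine ⟨R, le_antisymm ?_ hR⟩
  by_contra hlt
  have : Group.IsNilpotent (R : Subgroup G) := R.isPGroup'.isNilpotent
  have hne : ((sHat F).map π).subgroupOf R < ⊤ :=
    lt_top_iff_ne_top.2 fun h => hlt (Subgroup.subgroupOf_eq_top.1 h)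
  obtain ⟨m, hm1, hm2⟩ := SetLike.exists_of_lt (Group.normalizerCondition_of_isNilpotent _ hne)
  refine hm2 ?_
  show (m : G) ∈ (sHat F).map π
  obtain ⟨u, hu, hn⟩ := exists_lift_normalizer π hsur hker (g := (m : G))
    fun x hx => (Subgroup.mem_normalizer_iff.1 hm1 ⟨x, hR hx⟩).1 hx
  rcases normalizes_sHat h2 hn with h | ⟨hs, h⟩
  · exact ⟨u, h, hu⟩
  obtain ⟨k, hk, -, hkd⟩ := exists_k h2
  obtain ⟨t, ht, c, h3, hjk, hkk, -⟩ := exists_h h2 hk hkd
  obtain ⟨s, hs', e, he⟩ := h k t hk hkd ht h3 hjk hkk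
  set d : G := π (prS ((⟨t, ht⟩ : sl2 F), (⟨t, ht⟩ : sl2 F)) ^ e) with hd
  have hdR : d ∈ (R : Subgroup G) := by
    have : d = (π s)⁻¹ * m := by rw [← hu, he, map_mul, ← hd, inv_mul_cancel_left]
    rw [this]
    exact mul_mem (inv_mem (hR ⟨s, hs', rfl⟩)) m.2
  obtain ⟨n, hn'⟩ := R.isPGroup' ⟨d, hdR⟩
  have hd3 : d ^ 3 = 1 := by
    rw [hd, ← map_pow, ← pow_mul, mul_comm, pow_mul, ← map_pow (prS (F := F)),
      show ((⟨t, ht⟩ : sl2 F), (⟨t, ht⟩ : sl2 F)) ^ 3 = 1 from ?_, map_one, one_pow, map_one]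
    exact Prod.ext (Subtype.ext h3) (Subtype.ext h3)
  have hd1 : d = 1 := by
    have hco : Nat.Coprime 3 (2 ^ n) := Nat.Coprime.pow_right n (by decide)
    have := pow_gcd_eq_one.2 ⟨hd3, (show d ^ (2 ^ n) = 1 from congrArg Subtype.val hn')⟩
    rwa [hco.gcd_eq_one, pow_one] at this
  rw [← hu, he, map_mul, ← hd, hd1, mul_one]
  exact ⟨s, hs', rfl⟩

/-- `[[1,1],[1,-1]]`. -/
def rTwo : M2 := !![1, 1; 1, -1]

omit [Fintype F] in
theorem rTwo_sq : (rTwo : M2) * rTwo = (2 : F) • (1 : M2) := by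
  ext i j
  fin_cases i <;> fin_cases j <;> simp [rTwo, Matrix.mul_apply, Fin.sum_univ_two] <;> norm_num

omit [Fintype F] in
theorem rTwo_transpose : (rTwo : M2)ᵀ = rTwo := by
  ext i j; fin_cases i <;> fin_cases j <;> simp [rTwo]

omit [Fintype F] in
include h2 in
/-- `wS` and `zS` are conjugate. -/
theorem exists_conj_w_z : ∃ P : SP, P * zS F * P⁻¹ = wS F := by
  have hmem : fromBlocks (rTwo : M2) 0 0 ((2 : F)⁻¹ • rTwo) ∈ Matrix.symplecticGroup (Fin 2) F := by
    rw [SymplecticGroup.fromBlocks_mem_iff]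
    simp [rTwo_transpose, rTwo_sq, h2]
  refine ⟨⟨_, hmem⟩, mul_inv_eq_iff_eq_mul.2 (Subtype.ext ?_)⟩
  rw [Submonoid.coe_mul, Submonoid.coe_mul, wS_val, ← zS_eq_ten]
  show fromBlocks (rTwo : M2) 0 0 ((2 : F)⁻¹ • rTwo) * ten ((dU : GL2) : M2) (((1 : sl2 F) : GL2) : M2) =
    ten swp (1 : M2) * fromBlocks (rTwo : M2) 0 0 ((2 : F)⁻¹ • rTwo)
  have e : (rTwo : M2) * ((dU : GL2) : M2) = swp * rTwo := by
    ext i j
    fin_cases i <;> fin_cases j <;> simp [rTwo, swp, dU, Matrix.mul_apply, Fin.sum_univ_two]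
  simp [ten, fromBlocks_multiply, e]

include hker h2 in
/-- A closed subgroup containing a nontrivial central element is everything. -/
theorem eq_map_of_closed {T : Subgroup G} (hT : T ≤ (sHat F).map π)
    (hcl : ∀ x ∈ T, ∀ g : G, g * x * g⁻¹ ∈ (sHat F).map π → g * x * g⁻¹ ∈ T)
    (hz : ∃ z ∈ T, z ≠ 1 ∧ ∀ s ∈ (sHat F).map π, s * z = z * s) :
    T = (sHat F).map π := by
  set T' := T.comap π ⊓ sHat F with hT'
  have mv : ∀ u ∈ T', ∀ v ∈ sHat F, (∃ P : SP, P * u * P⁻¹ = v) → v ∈ T' := by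
    rintro u ⟨hu, -⟩ v hv ⟨P, hP⟩
    refine ⟨?_, hv⟩
    show π v ∈ T
    rw [← hP, map_mul, map_mul, map_inv]
    refine hcl _ hu _ ?_
    rw [← map_inv, ← map_mul, ← map_mul, hP]
    exact ⟨v, hv, rfl⟩
  have hcT' : cS F ∈ T' := ⟨show π (cS F) ∈ T by rw [pi_cS π hker]; exact one_mem _, cS_mem_sHat⟩
  obtain ⟨z, hzT, hz1, hzc⟩ := hz
  obtain ⟨u, hu, rfl⟩ := hT hzT
  have huT : u ∈ T' := ⟨hzT, hu⟩
  have hzS : zS F ∈ T' := by
    rcases central_mod h2 hu (fun v hv => by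
      have h : π (u * v) = π (v * u) := by
        rw [map_mul, map_mul]; exact (hzc _ ⟨v, hv, rfl⟩).symm
      rcases pi_eq π hker h with e | e
      · exact Or.inl e.symm
      · right
        rw [e, mul_assoc (u * v), cS_mul_self, mul_one]) with e | e | e | e
    · exact absurd (by rw [e, map_one]) hz1
    · exact absurd (by rw [e, pi_cS π hker]) hz1
    · rwa [e] at huT
    · have h := mul_mem huT hcT'
      rwa [e, mul_assoc, cS_mul_self, mul_one] at h
  have hwT : wS F ∈ T' := mv _ hzS _ wS_mem_sHat (exists_conj_w_z h2)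
  have hanti : ∀ a : sl2 F, (a : GL2) ∈ qQ F → prS (a, a⁻¹) ∈ T' := by
    intro a ha
    have h : prS (a, a⁻¹) * wS F ∈ T' :=
      mv _ hwT _ (mul_mem (prS_mem_sHat ha (inv_mem ha)) wS_mem_sHat) ⟨prS (a, 1), by
        rw [← map_inv, mul_assoc, wS_swap, ← mul_assoc, ← map_mul]
        simp⟩
    simpa [mul_assoc, wS_mul_self] using mul_mem h hwT
  set j : sl2 F := ⟨jU, jU_mem_sl2⟩ with hj
  have hjQ : (j : GL2) ∈ qQ F := jU_mem_qQ
  have hjj : prS (j, j) ∈ T' := by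
    have h := mul_mem (hanti j hjQ) hzS
    rw [zS, ← map_mul, Prod.mk_mul_mk, mul_one,
      show j⁻¹ * nOne F = j from inv_mul_eq_iff_eq_mul.2 (Subtype.ext rfl)] at h
    exact h
  have hjt : ((j : GL2) : M2).trace = 0 := by simp [hj, jU, Matrix.trace_fin_two]
  have hpair : ∀ r r' : sl2 F, (r : GL2) ∈ qQ F → (r' : GL2) ∈ qQ F →
      ((r : GL2) : M2).trace = 0 → ((r' : GL2) : M2).trace = 0 → prS (r, r') ∈ T' := by
    intro r r' hr hr' ht ht'
    obtain ⟨P, hP, hPe⟩ := exists_sl_conj h2 r.2 ht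
    obtain ⟨P', hP', hPe'⟩ := exists_sl_conj h2 r'.2 ht'
    refine mv _ hjj _ (prS_mem_sHat hr hr') ⟨prS (⟨P, hP⟩, ⟨P', hP'⟩), ?_⟩
    rw [← map_inv, ← map_mul, ← map_mul]
    exact congrArg _ (Prod.ext (Subtype.ext hPe) (Subtype.ext hPe'))
  have hquot : ∀ r : sl2 F, (r : GL2) ∈ qQ F → ((r : GL2) : M2).trace = 0 →
      prS (r * j⁻¹, 1) ∈ T' := by
    intro r hr ht
    have h := mul_mem (hpair r j hr hjQ ht hjt) (inv_mem hjj)
    rwa [← map_inv, ← map_mul, Prod.inv_mk, Prod.mk_mul_mk, mul_inv_cancel] at h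
  obtain ⟨k, hk, hkA, hkd⟩ := exists_k h2
  have hout : ∀ x ∈ (cT : Subgroup GL2), ∀ (hx : x ∈ sl2 F),
      x * k ∈ qQ F ∧ ((x * k : GL2) : M2).trace = 0 := by
    intro x hx hxs
    have hm : x * k ∈ qQ F := mul_mem ⟨Or.inl hx, hxs⟩ hk
    refine ⟨hm, trace_of_not_cT hm fun h => hkA ?_⟩
    have := mul_mem (inv_mem hx) h
    rw [inv_mul_cancel_left] at this
    exact this.1
  set k' : sl2 F := ⟨k, hk.2⟩ with hk'
  have hk'1 : prS (k' * j⁻¹, 1) ∈ T' :=
    hquot k' hk (by simpa using (hout 1 (one_mem _) (one_mem _)).2)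
  have hjk1 : prS (j * k' * j⁻¹, 1) ∈ T' :=
    hquot (j * k') (hout jU jU_mem_cT jU_mem_sl2).1 (hout jU jU_mem_cT jU_mem_sl2).2
  have hj1 : prS (j, (1 : sl2 F)) ∈ T' := by
    have h := mul_mem hjk1 (inv_mem hk'1)
    rwa [← map_inv, ← map_mul, Prod.inv_mk, Prod.mk_mul_mk, inv_one, mul_one,
      show j * k' * j⁻¹ * (k' * j⁻¹)⁻¹ = j by group] at h
  have hr1 : ∀ r : sl2 F, (r : GL2) ∈ qQ F → ((r : GL2) : M2).trace = 0 →
      prS (r, (1 : sl2 F)) ∈ T' := by
    intro r hr ht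
    have h := mul_mem (hquot r hr ht) hj1
    rwa [← map_mul, Prod.mk_mul_mk, inv_mul_cancel_right, one_mul] at h
  have hall : ∀ a : sl2 F, (a : GL2) ∈ qQ F → prS (a, (1 : sl2 F)) ∈ T' := by
    intro a ha
    by_cases hc : (a : GL2) ∈ (cT : Subgroup GL2)
    · have h1 := hr1 (a * k') (hout a hc a.2).1 (hout a hc a.2).2
      have h2' := hr1 k' hk (by simpa using (hout 1 (one_mem _) (one_mem _)).2)
      have h := mul_mem h1 (inv_mem h2')
      rwa [← map_inv, ← map_mul, Prod.inv_mk, Prod.mk_mul_mk, inv_one, mul_one,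
        mul_inv_cancel_right] at h
    · exact hr1 a ha (trace_of_not_cT ha hc)
  have hpr : ∀ a b : sl2 F, (a : GL2) ∈ qQ F → (b : GL2) ∈ qQ F → prS (a, b) ∈ T' := by
    intro a b ha hb
    have h := mul_mem (mul_mem hwT (hall b hb)) hwT
    rw [wS_conj] at h
    have h' := mul_mem (hall a ha) h
    rwa [← map_mul, Prod.mk_mul_mk, mul_one, one_mul] at h'
  refine le_antisymm hT ?_
  rintro _ ⟨v, ⟨a, b, ha, hb, rfl | rfl⟩, rfl⟩
  · exact (hpr a b ha hb).1
  · exact (mul_mem (hpr a b ha hb) hwT).1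

include hsur hker h2 in
/-- The system on the Sylow subgroup `sHat.map π` is simple. -/
theorem isSimple (S : Sylow 2 G) (hS : (S : Subgroup G) = (sHat F).map π) :
    (groupFusionSystem (S : Subgroup G)).IsSimple 2 := by
  have hmemS : ∀ v ∈ sHat F, π v ∈ (S : Subgroup G) := fun v hv => hS ▸ ⟨v, hv, rfl⟩
  refine isSimple_of_criterion S (isSaturated_group S) ?_ ?_ ?_
  · intro hbot
    have h := hmemS _ (prS_mem_sHat one_mem_qQ nOne_mem)
    rw [hbot, Subgroup.mem_bot, ← map_one π] at h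
    rcases pi_eq π hker h.symm with e | e
    · exact (zS_ne h2).1 e
    · rw [one_mul] at e; exact (zS_ne h2).2 e
  · intro T hT
    by_cases hne : T = ⊥
    · exact Or.inl hne
    refine Or.inr ?_
    have h := eq_map_of_closed π hker h2 (T := T) (hS ▸ hT.1)
      (fun x hx g hg => mem_of_conj_mem hT hx (hS ▸ hg))
      (by obtain ⟨z, h1, h2', h3⟩ := exists_central_mem S hT hne; exact ⟨z, h1, h2', hS ▸ h3⟩)
    rw [h, hS]
  · set RHS := ⨆ (R : Subgroup G) (_ : (groupFusionSystem (S : Subgroup G)).IsFullyNormalized R ∧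
      (groupFusionSystem (S : Subgroup G)).IsCentric R),
      autInducedBy (pElementsOfNormalizer 2 R) (S : Subgroup G) with hRHS
    set J : Subgroup G := (RHS.comap (conjAutHom (S : Subgroup G))).map
      (Subgroup.normalizer ((S : Subgroup G) : Set G)).subtype with hJdef
    have hJ : ∀ g : G, ∀ R : Subgroup G, (groupFusionSystem (S : Subgroup G)).IsFullyNormalized R →
        (groupFusionSystem (S : Subgroup G)).IsCentric R → g ∈ pElementsOfNormalizer 2 R →
        g ∈ Subgroup.normalizer ((S : Subgroup G) : Set G) → g ∈ J := by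
      intro g R hfn hcR hg hgS
      refine ⟨⟨g, hgS⟩, ?_, rfl⟩
      show conjAutHom (S : Subgroup G) ⟨g, hgS⟩ ∈ RHS
      exact (le_iSup₂ (f := fun R _ => autInducedBy (pElementsOfNormalizer 2 R) (S : Subgroup G)) R
        ⟨hfn, hcR⟩) (mem_autInducedBy.2 ⟨g, hg, hgS, rfl⟩)
    have hSJ : ∀ s ∈ (S : Subgroup G), s ∈ J := by
      intro s hs
      have hn : (S : Subgroup G) ≤ Subgroup.normalizer ((S : Subgroup G) : Set G) :=
        Subgroup.le_normalizer
      refine hJ s S (isFullyNormalized_of_le_normalizer S le_rfl hn)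
        (isCentric_of_le_normalizer S le_rfl hn FusionSys.centralizerIn_le)
        (Subgroup.subset_closure ⟨hn hs, ?_⟩) (hn hs)
      obtain ⟨k, hk⟩ := IsPGroup.iff_orderOf.1 S.2 ⟨s, hs⟩
      exact ⟨k, by rw [← hk]; exact Subgroup.orderOf_coe (⟨s, hs⟩ : (S : Subgroup G))⟩
    have hNJ : ∀ g ∈ Subgroup.normalizer ((S : Subgroup G) : Set G), g ∈ J := by
      intro g hg
      obtain ⟨u, hu, hn⟩ := exists_lift_normalizer π hsur hker (g := g)
        fun x hx => hS ▸ (Subgroup.mem_normalizer_iff.1 hg x).1 (hS.symm ▸ hx)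
      rcases normalizes_sHat h2 hn with h | ⟨hs, h⟩
      · exact hSJ g (hu ▸ hmemS u h)
      obtain ⟨k, hk, -, hkd⟩ := exists_k h2
      obtain ⟨t, ht, c, h3, hjk, hkk, hcval, hcdet, -, hcc, hcj, hck, hch⟩ := exists_h h2 hk hkd
      obtain ⟨s, hs', e, he⟩ := h k t hk hkd ht h3 hjk hkk
      rw [← hu, he, map_mul, map_pow]
      refine mul_mem (hSJ _ (hmemS s hs')) (pow_mem ?_ e)
      set tt : sl2 F := ⟨t, ht⟩ with htt
      set hG := prS (tt, tt) with hhG
      set R := (rHat F).map π with hR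
      have hRS : R ≤ (S : Subgroup G) := hS ▸ Subgroup.map_mono rHat_le_sHat
      have hnR : (S : Subgroup G) ≤ Subgroup.normalizer (R : Set G) := by
        intro x hx
        rw [hS] at hx
        obtain ⟨v, hv, rfl⟩ := hx
        refine mem_normalizer_of_maps ?_
        rintro _ ⟨w, hw, rfl⟩
        exact ⟨_, sHat_normalizes_rHat hs h2 hv hw, by rw [map_mul, map_mul, map_inv]⟩
      have hcen : centralizerIn (S : Subgroup G) R ≤ R := by
        intro x hx
        obtain ⟨hxS, hxc⟩ := FusionSys.mem_centralizerIn.1 hx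
        rw [hS] at hxS
        obtain ⟨v, ⟨a, b, ha, hb, hv⟩, rfl⟩ := hxS
        have hab := ratio_of_comm_diag h2 hv fun r hr => by
          have h := hxc _ ⟨_, diag_mem_rHat hr, rfl⟩
          rw [← map_mul, ← map_mul] at h
          rcases pi_eq π hker h with e | e
          · exact Or.inl e
          · exact Or.inr e
        rcases hv with rfl | rfl
        · exact ⟨_, pm_mem_rHat ha hab, rfl⟩
        · exact ⟨_, mul_mem (pm_mem_rHat ha hab) wS_mem_rHat, rfl⟩
      -- the inverting element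
      let T2 : M2 := (2 : F)⁻¹ • rTwo
      have hT2 : T2ᵀ * T2 = (2 : F)⁻¹ • (1 : M2) := by
        simp only [T2, transpose_smul, rTwo_transpose, smul_mul_smul_comm, rTwo_sq, smul_smul]
        congr 1
        field_simp
      let tS : SP := ⟨ten T2 (c : M2), ten_mem _ hT2 (by rw [hcdet, mul_inv_cancel₀ h2])⟩
      have hT22 : T2 * T2 = (2 : F)⁻¹ • (1 : M2) := by
        conv_lhs => arg 1; rw [show T2 = T2ᵀ by simp [T2, rTwo_transpose]]
        exact hT2
      have htS2 : tS * tS = cS F := by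
        refine Subtype.ext ?_
        rw [Submonoid.coe_mul, cS_val]
        show ten T2 (c : M2) * ten T2 (c : M2) = -1
        rw [ten_mul, hT22, ← Units.val_mul, hcc]
        simp [ten, smul_smul, h2, ← fromBlocks_one, fromBlocks_neg]
      have hjQ : c * jU * c⁻¹ ∈ qQ F := by rw [hcj]; exact neg_mem_qQ hk
      have hkQ : c * k * c⁻¹ ∈ qQ F := by rw [hck]; exact neg_mem_qQ jU_mem_qQ
      have tconj : ∀ (D D' : orth F) (a a' : sl2 F),
          T2 * ((D : GL2) : M2) = ((D' : GL2) : M2) * T2 → c * (a : GL2) = (a' : GL2) * c →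
          tS * tenS (D, a) * tS⁻¹ = tenS (D', a') := by
        intro D D' a a' h1 h2'
        refine mul_inv_eq_iff_eq_mul.2 (Subtype.ext ?_)
        rw [Submonoid.coe_mul, Submonoid.coe_mul]
        show ten T2 (c : M2) * ten _ _ = ten _ _ * ten T2 (c : M2)
        rw [ten_mul, ten_mul, h1, ← Units.val_mul, h2', Units.val_mul]
      have hTR : rHat F ≤ (rHat F).comap (MulAut.conj tS).toMonoidHom := by
        refine rHat_le ?_ ?_ fun a ha => ?_
        · show tS * tenS (⟨jU, jU_mem_orth⟩, 1) * tS⁻¹ ∈ rHat F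
          rw [tconj _ (⟨jU, jU_mem_orth⟩⁻¹) 1 1 ?_ (by simp)]
          · rw [show (((⟨jU, jU_mem_orth⟩ : orth F))⁻¹, (1 : sl2 F)) =
              ((⟨jU, jU_mem_orth⟩ : orth F), (1 : sl2 F))⁻¹ by simp, map_inv]
            exact inv_mem tenS_jU_mem
          · show T2 * ((jU : GL2) : M2) = ((jU⁻¹ : GL2) : M2) * T2
            rw [inv_mem_sl2 jU_mem_sl2]
            ext a b
            fin_cases a <;> fin_cases b <;> simp [T2, rTwo, jU, Matrix.mul_apply, Fin.sum_univ_two]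
        · show tS * tenS (⟨dU, dU_mem_orth⟩, 1) * tS⁻¹ ∈ rHat F
          rw [tconj _ ⟨jU * dU, mul_mem jU_mem_orth dU_mem_orth⟩ 1 1 ?_ (by simp)]
          · exact wS_mem_rHat
          · show T2 * ((dU : GL2) : M2) = ((jU * dU : GL2) : M2) * T2
            rw [swp_eq]
            ext a b
            fin_cases a <;> fin_cases b <;> simp [T2, rTwo, swp, dU, Matrix.mul_apply, Fin.sum_univ_two]
        · show tS * tenS (1, a) * tS⁻¹ ∈ rHat F
          have hm := conj_mem_qQ hs h2 hk hkd hjQ hkQ ha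
          rw [tconj 1 1 a ⟨c * (a : GL2) * c⁻¹, hm.2⟩ (by simp) (by group), ten_eq_pr]
          exact diag_mem_rHat hm
      have htinv : tS * hG * tS⁻¹ = hG⁻¹ := by
        rw [hhG, ← ten_eq_pr, ← map_inv]
        refine (tconj 1 1 tt tt⁻¹ (by simp) ?_).trans (by simp)
        exact mul_inv_eq_iff_eq_mul.1 hch
      have htQ : ∀ a : sl2 F, (a : GL2) ∈ qQ F → ((tt * a * tt⁻¹ : sl2 F) : GL2) ∈ qQ F := fun a ha =>
        conj_mem_qQ hs h2 hk hkd (P := t) (by rw [hjk]; exact hk)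
          (by rw [hkk]; exact mul_mem jU_mem_qQ hk) ha
      have hhR : rHat F ≤ (rHat F).comap (MulAut.conj hG).toMonoidHom := by
        have hfix : ∀ D : orth F, hG * tenS (D, 1) * hG⁻¹ = tenS (D, 1) := by
          intro D
          rw [hhG, ← ten_eq_pr, ← map_inv, ← map_mul, ← map_mul]
          simp
        refine rHat_le ?_ ?_ fun a ha => ?_
        · show hG * _ * hG⁻¹ ∈ rHat F
          rw [hfix]; exact tenS_jU_mem
        · show hG * _ * hG⁻¹ ∈ rHat F
          rw [hfix, zS_eq_ten]; exact zS_mem_rHat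
        · show hG * _ * hG⁻¹ ∈ rHat F
          rw [hhG, ten_eq_pr, ← map_inv, ← map_mul, ← map_mul]
          exact diag_mem_rHat (a := tt * a * tt⁻¹) (htQ a ha)
      have hNR : ∀ x : SP, rHat F ≤ (rHat F).comap (MulAut.conj x).toMonoidHom →
          π x ∈ Subgroup.normalizer (R : Set G) := by
        intro x hx
        refine mem_normalizer_of_maps ?_
        rintro _ ⟨w, hw, rfl⟩
        exact ⟨_, hx hw, by simp⟩
      have hp2 : ∀ x : G, x * x = 1 → ∃ n : ℕ, orderOf x = 2 ^ n := fun x hx => by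
        obtain ⟨n, -, hn⟩ := (Nat.dvd_prime_pow Nat.prime_two).1
          (orderOf_dvd_iff_pow_eq_one.2 (show x ^ (2 ^ 1) = 1 by rw [pow_one, pow_two, hx]))
        exact ⟨n, hn⟩
      have h1T : π tS * π tS = 1 := by rw [← map_mul, htS2, pi_cS π hker]
      have hconjT : π hG * π tS * (π hG)⁻¹ * (π tS)⁻¹ ∈ pElementsOfNormalizer 2 R := by
        refine mul_mem (Subgroup.subset_closure ⟨?_, hp2 _ ?_⟩)
          (inv_mem (Subgroup.subset_closure ⟨hNR _ hTR, hp2 _ h1T⟩))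
        · exact mul_mem (mul_mem (hNR _ hhR) (hNR _ hTR)) (inv_mem (hNR _ hhR))
        · rw [show π hG * π tS * (π hG)⁻¹ * (π hG * π tS * (π hG)⁻¹) =
            π hG * (π tS * π tS) * (π hG)⁻¹ by group, h1T, mul_one, mul_inv_cancel]
      have hsq : π hG * π hG ∈ pElementsOfNormalizer 2 R := by
        have e2 : π tS * (π hG)⁻¹ * (π tS)⁻¹ = π hG := by
          rw [← map_inv, ← map_inv π tS, ← map_mul, ← map_mul]
          refine congrArg π ?_
          calc tS * hG⁻¹ * tS⁻¹ = (tS * hG * tS⁻¹)⁻¹ := by group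
            _ = hG := by rw [htinv, inv_inv]
        rwa [show π hG * π tS * (π hG)⁻¹ * (π tS)⁻¹ =
          π hG * (π tS * (π hG)⁻¹ * (π tS)⁻¹) by group, e2] at hconjT
      have hG3 : hG ^ 3 = 1 := by
        rw [hhG, ← map_pow, show ((tt, tt) : sl2 F × sl2 F) ^ 3 = 1 from
          Prod.ext (Subtype.ext h3) (Subtype.ext h3), map_one]
      have hmem : π hG ∈ pElementsOfNormalizer 2 R := by
        have h := mul_mem hsq hsq
        rwa [← map_mul, ← map_mul, show hG * hG * (hG * hG) = hG ^ 3 * hG by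
          simp only [pow_succ, pow_zero, one_mul, mul_assoc], hG3, one_mul] at h
      refine hJ _ R (isFullyNormalized_of_le_normalizer S hRS hnR)
        (isCentric_of_le_normalizer S hRS hnR hcen) hmem ?_
      refine mem_normalizer_of_maps fun x hx => ?_
      rw [hS] at hx
      obtain ⟨v, ⟨a, b, ha, hb, hv⟩, rfl⟩ := hx
      rw [← map_inv, ← map_mul, ← map_mul]
      refine hmemS _ ?_
      rcases hv with rfl | rfl
      · rw [hhG, ← map_inv, ← map_mul, ← map_mul]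
        exact prS_mem_sHat (htQ a ha) (htQ b hb)
      · rw [hhG, ← map_inv, show prS (tt, tt) * (prS (a, b) * wS F) * prS ((tt, tt)⁻¹) =
          prS (tt, tt) * prS (a, b) * (wS F * prS (tt⁻¹, tt⁻¹)) by simp [mul_assoc], wS_swap,
          ← mul_assoc, ← map_mul, ← map_mul]
        exact mul_mem (prS_mem_sHat (htQ a ha) (htQ b hb)) wS_mem_sHat
    intro α hα
    obtain ⟨g, -, hg, rfl⟩ := mem_autInducedBy.1 hα
    obtain ⟨y, hy, hye⟩ := hNJ g hg
    have : y = ⟨g, hg⟩ := Subtype.ext hye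
    subst this
    exact hy

end Main

end Cfsg.Agent.H91.PSp4
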