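import Cfsg.Agent.H90.Biset
import Cfsg.Agent.FusionSys.Basic

/-!
Park's theorem: every fusion system, saturated or not, is realized inside a finite group.
-/

set_option autoImplicit false
set_option linter.style.haveILetI false

namespace Cfsg.Agent.H91.Park

open Cfsg Cfsg.FusionSystem Cfsg.Agent.FusionSys MulAction
open Cfsg.Agent.H90 (IsTw src srcHom fixCard mark OrbSet Rel isTw_conj isTw_iff_of_rel fixCard_self
  fixCard_conj mark_conj mark_le fixCard_orbSet exists_conj_of_fixCard_ne map_conj_inv_map_conj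
  relIndex_dvd_card fst_mem_src diag mem_diag subtype_mem src_le_top)

universe u

variable {Ω : Type u} [Group Ω] {S : Subgroup Ω} [Finite S] {F : FusionSystem S}

noncomputable local instance {G : Type*} [Group G] [Finite G] : Fintype (Subgroup G) :=
  Fintype.ofFinite _

/-- The number of fixed points of a twisted diagonal subgroup of order at least `n` only depends on
its order. -/
structure Const (F : FusionSystem S) (n : ℕ) (c : Subgroup (↥S × ↥S) → ℕ) : Prop where
  supp : ∀ D, c D ≠ 0 → IsTw F D ∧ n ≤ Nat.card D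
  eq : ∀ K K', IsTw F K → IsTw F K' → n ≤ Nat.card K → Nat.card K = Nat.card K' →
    mark c K = mark c K'
  pos : ∀ K, IsTw F K → n ≤ Nat.card K → mark c K ≠ 0

theorem Const.mark_eq_zero {n : ℕ} {c : Subgroup (↥S × ↥S) → ℕ} (h : Const F n c)
    {E : Subgroup (↥S × ↥S)} (hE : ¬ IsTw F E) : mark c E = 0 := by
  refine Finset.sum_eq_zero fun D _ => ?_
  by_contra hne
  obtain ⟨hc, hf⟩ := mul_ne_zero_iff.1 hne
  obtain ⟨g, hg⟩ := exists_conj_of_fixCard_ne hf
  refine hE ?_
  rw [← map_conj_inv_map_conj g E]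
  exact (isTw_conj g⁻¹ ((h.supp D hc).1.mono hg)).1

theorem exists_step {n : ℕ} {c : Subgroup (↥S × ↥S) → ℕ} (h : Const F (n + 1) c) :
    ∃ c', Const F n c' := by
  classical
  let N0 := Nat.card (↥S × ↥S)
  have hN0 : 0 < N0 := Nat.card_pos
  let tgt := N0 * (N0 * ∑ D : Subgroup (↥S × ↥S), c D + 1)
  let rep : Subgroup (↥S × ↥S) → Subgroup (↥S × ↥S) := fun E => Classical.epsilon fun D =>
    ∃ g : (↥S × ↥S), D = E.map (MulAut.conj g).toMonoidHom
  have hrep : ∀ E, ∃ g : (↥S × ↥S), rep E = E.map (MulAut.conj g).toMonoidHom := fun E =>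
    Classical.epsilon_spec (p := fun D => ∃ g : (↥S × ↥S), D = E.map (MulAut.conj g).toMonoidHom)
      ⟨_, 1, rfl⟩
  have hrepc : ∀ E (g : (↥S × ↥S)), rep (E.map (MulAut.conj g).toMonoidHom) = rep E := by
    intro E g
    simp only [rep]
    congr 1
    funext X
    apply propext
    constructor
    · rintro ⟨g', rfl⟩
      refine ⟨g' * g, ?_⟩
      rw [Subgroup.map_map]
      congr 1
      ext1 x
      simp only [MonoidHom.coe_comp, MulEquiv.coe_toMonoidHom, Function.comp_apply,
        MulAut.conj_apply]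
      group
    · rintro ⟨g', rfl⟩
      refine ⟨g' * g⁻¹, ?_⟩
      rw [Subgroup.map_map]
      congr 1
      ext1 x
      simp only [MonoidHom.coe_comp, MulEquiv.coe_toMonoidHom, Function.comp_apply,
        MulAut.conj_apply]
      group
  let extra : Subgroup (↥S × ↥S) → ℕ := fun D =>
    if IsTw F D ∧ Nat.card D = n ∧ rep D = D then
      (tgt - N0 * mark c D) / D.relIndex (Subgroup.normalizer (D : Set (↥S × ↥S))) else 0
  have hextra : ∀ D, extra D ≠ 0 → IsTw F D ∧ Nat.card D = n ∧ rep D = D := fun D hD => by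
    by_contra hc
    exact hD (if_neg hc)
  have hadd : ∀ K, mark (fun D => N0 * c D + extra D) K = N0 * mark c K + mark extra K := fun K => by
    simp only [mark, add_mul, Finset.sum_add_distrib, Finset.mul_sum, mul_assoc]
  have hbig : ∀ K : Subgroup (↥S × ↥S), n < Nat.card K → mark extra K = 0 := by
    intro K hK
    refine Finset.sum_eq_zero fun D _ => ?_
    by_contra hne
    obtain ⟨he, hf⟩ := mul_ne_zero_iff.1 hne
    obtain ⟨g, hg⟩ := exists_conj_of_fixCard_ne hf
    have := Subgroup.card_le_of_le hg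
    rw [Subgroup.card_map_of_injective (MulAut.conj g).injective, (hextra D he).2.1] at this
    omega
  have hsmall : ∀ K : Subgroup (↥S × ↥S), IsTw F K → Nat.card K = n →
      N0 * mark c K + mark extra K = tgt := by
    intro K hK hKn
    obtain ⟨g, hg⟩ := hrep K
    have hK' := isTw_conj g hK
    have hD : IsTw F (rep K) ∧ Nat.card (rep K) = n ∧ rep (rep K) = rep K := by
      rw [hg]
      exact ⟨hK'.1, (Subgroup.card_map_of_injective (MulAut.conj g).injective).trans hKn,
        (hrepc K g).trans hg⟩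
    have hsum : mark extra K = extra (rep K) * fixCard K ((↥S × ↥S) ⧸ rep K) := by
      refine Finset.sum_eq_single_of_mem _ (Finset.mem_univ _) fun D _ hne => ?_
      by_contra hne'
      obtain ⟨he, hf⟩ := mul_ne_zero_iff.1 hne'
      obtain ⟨g', hg'⟩ := exists_conj_of_fixCard_ne hf
      have hDe : K.map (MulAut.conj g').toMonoidHom = D := by
        refine SetLike.coe_injective (Set.eq_of_subset_of_ncard_le
          (SetLike.coe_subset_coe.2 hg') ?_ (Set.toFinite _))
        rw [← Nat.card_coe_set_eq, ← Nat.card_coe_set_eq]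
        show Nat.card D ≤ Nat.card ↥(K.map (MulAut.conj g').toMonoidHom)
        rw [Subgroup.card_map_of_injective (MulAut.conj g').injective, hKn, (hextra D he).2.1]
      exact hne (by rw [← (hextra D he).2.2, ← hDe, hrepc])
    have hfix : fixCard K ((↥S × ↥S) ⧸ rep K) =
        (rep K).relIndex (Subgroup.normalizer (rep K : Set (↥S × ↥S))) := by
      rw [← fixCard_self, ← fixCard_conj g K, ← hg]
    have hmk : mark c (rep K) = mark c K := by rw [hg, mark_conj]
    have hle : N0 * mark c (rep K) ≤ tgt :=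
      Nat.mul_le_mul_left _ ((mark_le c _).trans (Nat.le_succ _))
    have hdvd : (rep K).relIndex (Subgroup.normalizer (rep K : Set (↥S × ↥S))) ∣
        tgt - N0 * mark c (rep K) :=
      (relIndex_dvd_card _).trans (Nat.dvd_sub (dvd_mul_right _ _) (dvd_mul_right _ _))
    rw [hsum, hfix, show extra (rep K) = _ from if_pos hD, Nat.div_mul_cancel hdvd, hmk]
    rw [hmk] at hle
    omega
  refine ⟨fun D => N0 * c D + extra D, fun D hD => ?_, fun K K' hK hK' hn hcard => ?_,
    fun K hK hn => ?_⟩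
  · rcases eq_or_ne (c D) 0 with h0 | h0
    · have := hextra D (by simpa [h0] using hD)
      exact ⟨this.1, this.2.1.ge⟩
    · exact ⟨(h.supp D h0).1, (Nat.le_succ n).trans (h.supp D h0).2⟩
  · rw [hadd, hadd]
    rcases hn.eq_or_lt with he | hlt
    · rw [hsmall K hK he.symm, hsmall K' hK' (hcard ▸ he.symm)]
    · rw [hbig K hlt, hbig K' (hcard ▸ hlt), h.eq K K' hK hK' hlt hcard]
  · rw [hadd]
    rcases hn.eq_or_lt with he | hlt
    · rw [hsmall K hK he.symm]
      exact Nat.mul_ne_zero hN0.ne' (Nat.succ_ne_zero _)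
    · exact fun hc => Nat.mul_ne_zero hN0.ne' (h.pos K hK hlt) (Nat.eq_zero_of_add_eq_zero_right hc)

theorem exists_const (F : FusionSystem S) : ∃ c, Const F 0 c := by
  suffices H : ∀ k, ∃ c, Const F (Nat.card S + 1 - k) c by
    obtain ⟨c, hc⟩ := H (Nat.card S + 1)
    exact ⟨c, by rwa [Nat.sub_self] at hc⟩
  intro k
  induction k with
  | zero =>
    have hcard : ∀ K, IsTw F K → ¬ Nat.card S + 1 ≤ Nat.card K := fun K hK hle => by
      have := Subgroup.card_le_of_le (src_le_top K)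
      rw [hK.card_src] at this
      omega
    exact ⟨fun _ => 0, fun D hD => absurd rfl hD, fun K _ hK _ hn _ => absurd hn (hcard K hK),
      fun K hK hn => absurd hn (hcard K hK)⟩
  | succ k ih =>
    obtain ⟨c, hc⟩ := ih
    by_cases hk : k ≤ Nat.card S
    · exact exists_step (c := c) (by
        rwa [show Nat.card S + 1 - (k + 1) + 1 = Nat.card S + 1 - k by omega])
    · exact ⟨c, by rwa [show Nat.card S + 1 - (k + 1) = Nat.card S + 1 - k by omega]⟩

/-- Point stabilizers of `OrbSet c` are twisted diagonal. -/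
theorem isTw_stabilizer {n : ℕ} {c : Subgroup (↥S × ↥S) → ℕ} (h : Const F n c) (x : OrbSet c) :
    IsTw F (stabilizer (↥S × ↥S) x) := by
  by_contra hne
  refine absurd (h.mark_eq_zero hne) ?_
  rw [← fixCard_orbSet]
  exact (Nat.card_pos_iff.2 ⟨⟨⟨x, fun g hg => hg⟩⟩, inferInstance⟩).ne'

theorem fixCard_compHom {H G X : Type*} [Group H] [Group G] [MulAction G X] (f : H →* G)
    (K : Subgroup H) : @fixCard H _ K X (MulAction.compHom X f) = fixCard (K.map f) X :=
  Nat.card_congr (Equiv.subtypeEquivRight fun x =>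
    ⟨fun h g ⟨k, hk, e⟩ => e ▸ h k hk, fun h k hk => h _ ⟨k, hk, rfl⟩⟩)

/-- The permutations of `X` commuting with the second factor. -/
def rightAut (c : Subgroup (↥S × ↥S) → ℕ) : Subgroup (Equiv.Perm (OrbSet c)) where
  carrier := {e | ∀ (s : ↥S) (x : OrbSet c), e (((1 : ↥S), s) • x) = ((1 : ↥S), s) • e x}
  one_mem' := fun _ _ => rfl
  mul_mem' := fun {a b} ha hb s x => by
    rw [Equiv.Perm.mul_apply, hb, ha, Equiv.Perm.mul_apply]
  inv_mem' := fun {a} ha s x => by
    rw [Equiv.Perm.inv_eq_iff_eq, ha, ← Equiv.Perm.mul_apply, mul_inv_cancel, Equiv.Perm.one_apply]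

/-- Left translation. -/
noncomputable def leftHom (c : Subgroup (↥S × ↥S) → ℕ) : ↥S →* ↥(rightAut c) :=
  MonoidHom.codRestrict
    ((MulAction.toPermHom (↥S × ↥S) (OrbSet c)).comp (MonoidHom.inl ↥S ↥S)) _ fun a s x => by
    show (a, (1 : ↥S)) • ((1 : ↥S), s) • x = ((1 : ↥S), s) • (a, (1 : ↥S)) • x
    rw [← mul_smul, ← mul_smul]
    simp

theorem leftHom_apply (c : Subgroup (↥S × ↥S) → ℕ) (a : ↥S) (x : OrbSet c) :
    (leftHom c a : Equiv.Perm (OrbSet c)) x = (a, (1 : ↥S)) • x := rfl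

/-- Park's theorem. -/
theorem exists_realization (F : FusionSystem S) :
    ∃ (G : Type u) (_ : Group G) (_ : Finite G) (ι : ↥S →* G), F.IsRealizedBy ι := by
  obtain ⟨c, hc⟩ := exists_const F
  haveI : Finite (OrbSet c) := inferInstance
  have hdiag : IsTw F (diag S S) := by
    refine ⟨(src (diag S S)).subtype, subtype_mem F (src_le_top _), fun k hk => ?_⟩
    exact congrArg Subtype.val (mem_diag.1 hk).2
  obtain ⟨⟨x0, hx0⟩⟩ : Nonempty {x : OrbSet c // ∀ g ∈ diag S S, g • x = x} := by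
    refine (Nat.card_ne_zero.1 ?_).1
    show fixCard (diag S S) (OrbSet c) ≠ 0
    rw [fixCard_orbSet]
    exact hc.pos _ hdiag (Nat.zero_le _)
  have hx0' : ∀ s : ↥S, (s, s) • x0 = x0 := fun s => hx0 _ (mem_diag.2 ⟨s.2, rfl⟩)
  refine ⟨↥(rightAut c), inferInstance, inferInstance, leftHom c,
    (injective_iff_map_eq_one _).2 fun a ha => ?_, fun P hP φ hφ => ⟨fun hm => ?_, ?_⟩⟩
  · have h1 : (a, (1 : ↥S)) • x0 = x0 := by rw [← leftHom_apply, ha]; rfl
    have h2 := (isTw_stabilizer hc x0).eq_of_fst (k := (a, a)) (k' := (a, 1)) (hx0' a) h1 rfl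
    exact (Prod.ext_iff.1 h2).2
  · haveI := finite_of_le hP
    let b : ↥P × ↥S →* ↥S × ↥S := MonoidHom.prodMap (Subgroup.inclusion hP) (MonoidHom.id ↥S)
    let a : ↥P × ↥S →* ↥S × ↥S := MonoidHom.prodMap (φ.codRestrict S hφ) (MonoidHom.id ↥S)
    have hinj : Function.Injective a ∧ Function.Injective b := by
      constructor
      · rintro ⟨u, s⟩ ⟨u', s'⟩ he
        obtain ⟨h1, h2⟩ := Prod.ext_iff.1 he
        exact Prod.ext (F.injective_of_mem hm (congrArg Subtype.val h1)) h2
      · rintro ⟨u, s⟩ ⟨u', s'⟩ he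
        obtain ⟨h1, h2⟩ := Prod.ext_iff.1 he
        exact Prod.ext (Subgroup.inclusion_injective hP h1) h2
    have hmark : ∀ K : Subgroup (↥P × ↥S), mark c (K.map b) = mark c (K.map a) := by
      intro K
      have hiff : IsTw F (K.map b) ↔ IsTw F (K.map a) := by
        refine isTw_iff_of_rel hm (subtype_mem F (le_refl S)) ?_ ?_
        · rintro _ ⟨k, hk, rfl⟩
          exact ⟨a k, ⟨k, hk, rfl⟩, ⟨k.1.2, rfl⟩, k.2.2, rfl⟩
        · rintro _ ⟨k, hk, rfl⟩
          exact ⟨b k, ⟨k, hk, rfl⟩, ⟨k.1.2, rfl⟩, k.2.2, rfl⟩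
      by_cases hK : IsTw F (K.map b)
      · exact hc.eq _ _ hK (hiff.1 hK) (Nat.zero_le _)
          ((Subgroup.card_map_of_injective hinj.2).trans
            (Subgroup.card_map_of_injective hinj.1).symm)
      · rw [hc.mark_eq_zero hK, hc.mark_eq_zero fun h => hK (hiff.2 h)]
    obtain ⟨e, he⟩ := @Cfsg.Agent.H90.exists_equiv_of_fixCard (↥P × ↥S) _ (OrbSet c) (OrbSet c)
      (MulAction.compHom _ b) (MulAction.compHom _ a) _ _ _ fun K => by
        rw [fixCard_compHom, fixCard_compHom, fixCard_orbSet, fixCard_orbSet, hmark]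
    have he' : ∀ (u : ↥P) (s : ↥S) (x : OrbSet c),
        e ((Subgroup.inclusion hP u, s) • x) = ((⟨φ u, hφ u⟩ : ↥S), s) • e x := fun u s x => he (u, s) x
    refine ⟨⟨e, fun s x => ?_⟩, fun u => ?_⟩
    · have h := he' 1 s x
      rw [map_one, show (⟨φ 1, hφ 1⟩ : ↥S) = 1 from Subtype.ext (map_one φ)] at h
      exact h
    · refine eq_mul_inv_iff_mul_eq.2 (Subtype.ext (Equiv.ext fun x => ?_))
      rw [Subgroup.coe_mul, Subgroup.coe_mul, Equiv.Perm.mul_apply, Equiv.Perm.mul_apply,
        leftHom_apply, leftHom_apply]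
      exact (he' u 1 x).symm
  · rintro ⟨g, hg⟩
    set y := (g : Equiv.Perm (OrbSet c)) x0
    set W := stabilizer (↥S × ↥S) y
    have hmem : ∀ u : ↥P, ((⟨φ u, hφ u⟩ : ↥S), (⟨u, hP u.2⟩ : ↥S)) ∈ W := fun u => by
      have h := congrArg (fun z : ↥(rightAut c) => (z * g : ↥(rightAut c))) (hg u)
      simp only [inv_mul_cancel_right] at h
      have h' := congrArg (fun z : ↥(rightAut c) =>
        (z : Equiv.Perm (OrbSet c)) (((1 : ↥S), (⟨u, hP u.2⟩ : ↥S)) • x0)) h
      simp only [Subgroup.coe_mul, Equiv.Perm.mul_apply, leftHom_apply] at h'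
      rw [g.2, ← mul_smul, ← mul_smul ((⟨u, hP u.2⟩ : ↥S), (1 : ↥S))] at h'
      simp only [Prod.mk_mul_mk, one_mul, mul_one] at h'
      rw [hx0'] at h'
      exact h'
    obtain ⟨χ, hχ, hχW⟩ := isTw_stabilizer hc y
    have hle : φ.range ≤ src W := by
      rintro _ ⟨u, rfl⟩
      exact fst_mem_src (hmem u)
    have hχu : ∀ u : ↥P, homFun χ (φ u) = u := fun u => by
      rw [homFun_mem χ (hle ⟨u, rfl⟩)]
      exact hχW _ (hmem u)
    have hi := ((isMap_of_mem hχ).mono hle)
    obtain ⟨v, hv, hvl⟩ := hi.exists_inv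
    have himg : P ≤ imgSub (homFun χ) φ.range := fun u hu =>
      hi.mem_imgSub.2 ⟨φ ⟨u, hu⟩, ⟨⟨u, hu⟩, rfl⟩, hχu ⟨u, hu⟩⟩
    refine mem_hom_of_isMap (hv.mono himg) fun u => ?_
    conv_rhs => rw [← hχu u]
    exact (hvl _ ⟨u, rfl⟩).symm

end Cfsg.Agent.H91.Park
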