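import Cfsg.Agent.Orthogonal.ReflClass

/-!
The reflections of one norm over the field with three elements form a class of 3-transpositions.
-/

set_option autoImplicit false

namespace Cfsg.Agent.H91.ReflThree

open QuadraticMap Cfsg.Agent.Orthogonal

variable {F V : Type*} [Field F] [AddCommGroup V] [Module F V] {Q : QuadraticForm F V} {c : F}

theorem rO_neg (v : V) : rO Q (-v) = rO Q v := by
  rw [← neg_one_smul F v, rO_smul (neg_ne_zero.2 one_ne_zero)]

theorem sq_or_cube (h3 : ∀ x : F, x = 0 ∨ x = 1 ∨ x = -1) (hc : c ≠ 0) {u v : V} (hu : Q u = c)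
    (hv : Q v = c) :
    (rO Q u * rO Q v) ^ 2 = 1 ∨ (rO Q u * rO Q v) ^ 3 = 1 := by
  have hsq := rO_mul_self Q u
  have hsq' := rO_mul_self Q v
  rcases h3 ((Q u)⁻¹ * polar Q u v) with h | h | h
  · left
    have h0 : polar Q u v = 0 := by
      rw [hu] at h
      exact (mul_eq_zero.1 h).resolve_left (inv_ne_zero hc)
    have he : rO Q u * rO Q v * rO Q u = rO Q v := by
      have := conj_rO (rO Q u) v
      rwa [rO_inv, rO_fix h0] at this
    rw [_root_.sq, ← mul_assoc, he, hsq']
  all_goals
    right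
    have hb : rO Q u * rO Q v * rO Q u = rO Q v * rO Q u * rO Q v := by
      have h1 := conj_rO (rO Q u) v
      have h2 := conj_rO (rO Q v) u
      rw [rO_inv] at h1 h2
      rw [h1, h2, rO_app, rO_app, polar_comm (⇑Q) v u, show (Q v)⁻¹ = (Q u)⁻¹ by rw [hu, hv], h]
      first
        | rw [one_smul, one_smul, ← rO_neg, neg_sub]
        | rw [neg_one_smul, neg_one_smul, sub_neg_eq_add, sub_neg_eq_add, add_comm]
    calc (rO Q u * rO Q v) ^ 3
        = rO Q u * rO Q v * rO Q u * (rO Q v * rO Q u * rO Q v) := by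
          simp only [pow_succ, pow_zero, one_mul, mul_assoc]
      _ = rO Q u * rO Q v * rO Q u * (rO Q u * rO Q v * rO Q u) := by rw [← hb]
      _ = rO Q u * rO Q v * (rO Q u * rO Q u) * rO Q v * rO Q u := by simp only [mul_assoc]
      _ = rO Q u * (rO Q v * rO Q v) * rO Q u := by rw [hsq, mul_one]; simp only [mul_assoc]
      _ = 1 := by rw [hsq', mul_one, hsq]

end Cfsg.Agent.H91.ReflThree
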