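import Cfsg.Agent.H91.SmallFix
import Cfsg.Agent.FusionSys.KInstances
import Cfsg.Agent.FusionSys.Centric
import Cfsg.Agent.H91.CentFocal.Fix
import Cfsg.Agent.H89.Join

/-!
Abelian subgroups of small exponent of the hyperfocal subgroup control fusion.
-/

set_option autoImplicit false
set_option linter.style.haveILetI false
set_option maxHeartbeats 400000

namespace Cfsg.Agent.H91

open Cfsg Cfsg.FusionSystem Cfsg.Agent.FusionSys

universe u

variable {Ω : Type u} [Group Ω] {S : Subgroup Ω} [Finite S] {p : ℕ} [Fact p.Prime]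
  {E F : FusionSystem S}

/-- An abelian subgroup of small exponent. -/
def IsSmallAb (p : ℕ) (A : Subgroup Ω) : Prop :=
  (∀ a ∈ A, ∀ b ∈ A, a * b = b * a) ∧ ∀ a ∈ A, a ^ smallExp p = 1

/-- Maps between abelian small subgroups of `H` are maps of `E`. -/
def AgreesOn (p : ℕ) (E F : FusionSystem S) (H : Subgroup Ω) : Prop :=
  ∀ (A : Subgroup Ω) (f : Ω → Ω), IsSmallAb p A → A ≤ H → IsMap F A f → (∀ a ∈ A, f a ∈ H) →
    IsMap E A f

/-- The maps of a system. -/
def mapsSet {T : Subgroup Ω} (D : FusionSystem T) : Set (Σ P : Subgroup Ω, P →* Ω) :=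
  {x | x.2 ∈ D.Hom x.1}

omit [Fact p.Prime] in
theorem mapsSet_finite (F : FusionSystem S) : (mapsSet F).Finite := by
  haveI : Finite {P : Subgroup Ω // P ≤ S} := Finite.of_injective
    (fun P : {P : Subgroup Ω // P ≤ S} => (Subtype.val ⁻¹' (P.1 : Set Ω) : Set S)) fun P Q h => by
      refine Subtype.ext (SetLike.ext fun x => ⟨fun hx => ?_, fun hx => ?_⟩)
      · exact (Set.ext_iff.1 h ⟨x, P.2 hx⟩).1 hx
      · exact (Set.ext_iff.1 h ⟨x, Q.2 hx⟩).2 hx
  haveI : ∀ P : {P : Subgroup Ω // P ≤ S}, Finite (P.1 →* S) := fun P => by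
    haveI := finite_of_le P.2
    exact DFunLike.finite _
  refine Set.Finite.subset (Set.finite_range
    (fun x : (Σ P : {P : Subgroup Ω // P ≤ S}, P.1 →* S) =>
      (⟨x.1.1, S.subtype.comp x.2⟩ : Σ P : Subgroup Ω, P →* Ω))) ?_
  rintro ⟨P, φ⟩ hφ
  exact ⟨⟨⟨P, (F.le_of_mem hφ).1⟩, φ.codRestrict S (F.le_of_mem hφ).2⟩, rfl⟩

theorem mem_hyperfocal_iff_of_isMap (hS : IsPGroup p S) (hF : F.IsSaturated p) {B : Subgroup Ω}
    {f : Ω → Ω} (hf : IsMap F B f) {x : Ω} (hx : x ∈ B) :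
    f x ∈ F.hyperfocalSubgroup p ↔ x ∈ F.hyperfocalSubgroup p := by
  let D' : FusionSystem S := subSys F
    (fun P g => ∀ y ∈ P, (g y ∈ F.hyperfocalSubgroup p ↔ y ∈ F.hyperfocalSubgroup p))
    (fun _ _ _ h he y hy => (he y hy).symm ▸ h y hy)
    (fun _ a _ ha y _ => ⟨fun h => by
      have := H90.hyp_conj F p (S.inv_mem ha) h
      rwa [conjMap_apply, inv_inv, mul_assoc a y, inv_mul_cancel_left, inv_mul_cancel_right] at this,
      fun h => H90.hyp_conj F p ha h⟩)
    (fun _ _ g k _ _ hm h1 h2 y hy => (h2 _ (hm y hy)).trans (h1 y hy))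
    (fun P Q g k hg _ hinv h y hy => by
      obtain ⟨z, hz, rfl⟩ := hg.exists_preimage hy
      rw [hinv z hz]
      exact (h z hz).symm)
  have hle : F ≤ D' := by
    refine le_of_autGroup_fullyNormalized hS hF fun P hP _ α hα => ?_
    have hm := mem_traceStab_hyperfocal hS hF hP ⟨α, hα⟩
    obtain ⟨φ, hφ, hφe⟩ := (mem_autGroup_iff hP.1).1 hα
    refine mem_autGroup_of_isMap ⟨φ, ⟨hφ, fun y hy => ?_⟩, hφe⟩
    rw [homFun_mem φ hy, hφe ⟨y, hy⟩, autMap_apply α hy]
    refine ⟨fun h => ((hm ⟨y, hy⟩).1 ⟨Subtype.coe_prop _, h⟩).2, fun h => ((hm ⟨y, hy⟩).2 ⟨hy, h⟩).2⟩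
  obtain ⟨φ, ⟨-, hΦ⟩, hφe⟩ := le_iff_isMap.1 hle B f hf
  rw [← hφe ⟨x, hx⟩, ← homFun_coe φ ⟨x, hx⟩]
  exact hΦ x hx

/-- A subsystem has smaller hyperfocal subgroup. -/
theorem hyperfocal_le {T : Subgroup Ω} {D : FusionSystem T} (hD : D.IsSubsystemOf F) :
    D.hyperfocalSubgroup p ≤ F.hyperfocalSubgroup p := by
  have hTS : T ≤ S := le_of_isSubsystemOf hD
  haveI : Finite T := finite_of_le hTS
  refine (Subgroup.closure_le _).2 ?_
  rintro _ ⟨P, α, x, hP, hα, rfl⟩
  have hle : D.autGroup P ≤ F.autGroup P := fun β hβ =>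
    mem_autGroup_of_isMap (isSubsystemOf_iff_isMap.1 hD _ _ ((mem_autGroup_iff hP).1 hβ))
  haveI := finite_autGroup F (hP.trans hTS)
  have h : pResidual p (D.autGroup P) ≤ (pResidual p (F.autGroup P)).comap (Subgroup.inclusion hle) :=
    Cores.pResidual_le fun β hβ => Cores.mem_pResidual_of_coprime
      (by rwa [orderOf_injective _ (Subgroup.inclusion_injective hle)])
  exact H90.mem_hyp F (hP.trans hTS) (h hα) x

theorem eq_one_of_coprime_pow {G : Type*} [Group G] {K : Subgroup G} (hK : IsPGroup p K) {g : G}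
    (hg : g ∈ K) {m : ℕ} (hm : m.Coprime p) (h : g ^ m = 1) : g = 1 := by
  obtain ⟨k, hk⟩ := hK ⟨g, hg⟩
  exact pow_eq_one_of_coprime_aux h (congrArg Subtype.val hk) (Nat.Coprime.pow_right k hm)
where
  pow_eq_one_of_coprime_aux {g : G} {a b : ℕ} (ha : g ^ a = 1) (hb : g ^ b = 1) (hab : a.Coprime b) :
      g = 1 := orderOf_eq_one_iff.1 (Nat.eq_one_of_dvd_coprimes hab (orderOf_dvd_of_pow_eq_one ha)
        (orderOf_dvd_of_pow_eq_one hb))

theorem isSmallAb_sup {A B : Subgroup Ω} (hA : IsSmallAb p A) (hB : IsSmallAb p B)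
    (hc : ∀ a ∈ A, ∀ b ∈ B, a * b = b * a) : IsSmallAb p (A ⊔ B) := by
  have hn : B ≤ Subgroup.normalizer (A : Set Ω) := fun b hb =>
    Subgroup.centralizer_le_normalizer _ (Subgroup.mem_centralizer_iff.2 fun a ha => hc a ha b hb)
  have key : ∀ x ∈ A ⊔ B, ∃ a ∈ A, ∃ b ∈ B, x = a * b := fun x hx => by
    rw [← SetLike.mem_coe, Subgroup.coe_mul_of_right_le_normalizer_left A B hn] at hx
    obtain ⟨a, ha, b, hb, rfl⟩ := hx
    exact ⟨a, ha, b, hb, rfl⟩
  refine ⟨fun x hx y hy => ?_, fun x hx => ?_⟩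
  · obtain ⟨a, ha, b, hb, rfl⟩ := key x hx
    obtain ⟨a', ha', b', hb', rfl⟩ := key y hy
    calc a * b * (a' * b') = a * (b * a') * b' := by group
      _ = a * a' * (b * b') := by rw [← hc a' ha' b hb]; group
      _ = a' * a * (b' * b) := by rw [hA.1 a ha a' ha', hB.1 b hb b' hb']
      _ = a' * (a * b') * b := by group
      _ = a' * b' * (a * b) := by rw [hc a ha b' hb']; group
  · obtain ⟨a, ha, b, hb, rfl⟩ := key x hx
    rw [Commute.mul_pow (hc a ha b hb), hA.2 a ha, hB.2 b hb, one_mul]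

/-- If the centralizer systems of an abelian `Q` agree, so do the systems `N^K(Q)` for `p`-groups `K`. -/
theorem kSys_le_of_centralizer (hS : IsPGroup p S) (hE : E.IsSaturated p) (hF : F.IsSaturated p)
    (hle : E ≤ F) {Q : Subgroup Ω} (hQ : Q ≤ S) (hQa : ∀ a ∈ Q, ∀ b ∈ Q, a * b = b * a)
    {K : Subgroup (MulAut Q)} (hK : K ≤ autInducedBy S Q) (hrE : E.IsReceptive Q) (hrF : F.IsReceptive Q)
    (hC : ∀ (B : Subgroup Ω) (g : Ω → Ω), B ≤ centralizerIn S Q → IsMap F (B ⊔ Q) g →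
      (∀ a ∈ Q, g a = a) → IsMap E (B ⊔ Q) g) :
    kSys F hQ K ≤ kSys E hQ K := by
  have hkFi := isKSys_kSys F hQ K
  have hkEi := isKSys_kSys E hQ K
  set kF := kSys F hQ K with hkF
  set kE := kSys E hQ K with hkE
  have hTS : (kNorm S K) ≤ S := kNorm_le
  haveI : Finite (kNorm S K) := finite_of_le hTS
  haveI := finite_of_le hQ
  have hTp : IsPGroup p (kNorm S K) := hS.to_le hTS
  have hKp : IsPGroup p K := (isPGroup_autInducedBy hS Q).to_le hK
  have hnd : ∀ D : FusionSystem S, ¬ p ∣ (autInducedBy S Q ⊓ K).relIndex (D.autGroup Q ⊓ K) :=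
    fun D => by
      rw [inf_eq_right.2 hK, inf_eq_right.2 (hK.trans (autInducedBy_le_autGroup D hQ)),
        Subgroup.relIndex_self]
      exact (Fact.out : p.Prime).not_dvd_one
  have hsF : kF.IsSaturated p := isSaturated_of_isKSys hS hF hrF (hnd F) hkFi
  have hsE : kE.IsSaturated p := isSaturated_of_isKSys hS hE hrE (hnd E) hkEi
  have hkle : kE ≤ kF := le_iff_isMap.2 fun B g hg => by
    obtain ⟨h1, h2, h, hh, he, hQ'⟩ := (hkEi.map_iff B g).1 hg
    exact (hkFi.map_iff B g).2 ⟨h1, h2, h, le_iff_isMap.1 hle _ _ hh, he, hQ'⟩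
  have hCT : centralizerIn S Q ≤ (kNorm S K) := centralizerIn_le_kNorm
  have hQT : Q ≤ (kNorm S K) := fun y hy => hCT (FusionSys.mem_centralizerIn.2 ⟨hQ hy, fun z hz => hQa z hz y hy⟩)
  have hQn : kF.IsNormal Q := isNormal_iff.2 ⟨hQT, fun B f hf => by
    obtain ⟨h1, h2, h, hh, he, hQ'⟩ := (hkFi.map_iff B f).1 hf
    refine ⟨h, (hkFi.map_iff _ _).2 ⟨sup_le h1 hQT, fun x hx => hh.mapsTo_sup
      (fun y hy => (he y hy).symm ▸ h2 y hy) (fun y hy => hQT (hQ'.mem hy)) hx, h,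
      by rwa [sup_assoc, sup_idem], fun _ _ => rfl, hQ'⟩, he,
      (hh.mono le_sup_right).image_eq_of_mapsTo fun y hy => hQ'.mem hy⟩⟩
  refine le_of_autGroup_fullyNormalized hTp hsF fun R hRn big => ?_
  have hRT := hRn.1
  have step : (R = (kNorm S K) ∨ kF.IsEssential p R) → kF.autGroup R ≤ kE.autGroup R := by
    intro hR
    have hRc : kF.IsCentric R := hR.elim (fun h => by rw [h]; exact isCentric_S kF) fun h => h.1
    have hRr : kF.IsRadical p R := hR.elim (fun h => by rw [h]; exact isRadical_S hTp hsF)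
      fun h => isRadical_of_isEssential hTp h
    have hQR : Q ≤ R := le_of_isNormal hTp hQn hRc hRr
    haveI := finite_of_le hRT
    haveI := finite_autGroup kF hRT
    rw [← Subgroup.subgroupOf_eq_top]
    obtain ⟨-, Sy, hSy⟩ := isFullyAutomized_of_isFullyNormalized hTp hsF hRn
    refine CentFocal.eq_top_of_sylow_le _ Sy ?_ fun α hα => ?_
    · rw [hSy]
      exact fun γ hγ => autInducedBy_le_autGroup kE hRT hγ
    rw [Subgroup.mem_subgroupOf]
    have honQ : ∀ γ ∈ kF.autGroup R, OnQ K (autMap γ) := fun γ hγ => by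
      obtain ⟨-, -, h, -, he, κ, hκ, hκe⟩ := (hkFi.map_iff R _).1 ((mem_autGroup_iff hRT).1 hγ)
      exact ⟨κ, hκ, fun q hq => (he q (hQR hq)).symm.trans (hκe q hq)⟩
    have hfixQ : ∀ q ∈ Q, autMap (α : MulAut R) q = q := by
      obtain ⟨κ, hκ, hκe⟩ := honQ _ α.2
      have hκ1 : κ = 1 := eq_one_of_coprime_pow hKp hκ hα (aut_ext fun y hy => by
        have key : ∀ j : ℕ, autMap ((α : MulAut R) ^ j) y = autMap (κ ^ j) y := by
          intro j
          induction j with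
          | zero => rw [pow_zero, pow_zero, FusionSys.autMap_one (hQR hy), FusionSys.autMap_one hy]
          | succ j ih =>
            rw [pow_succ', pow_succ', autMap_mul _ _ (hQR hy), autMap_mul _ _ hy, ih,
              hκe _ (autMap_mem _ hy)]
        rw [← key, ← SubgroupClass.coe_pow, pow_orderOf_eq_one, Subgroup.coe_one,
          FusionSys.autMap_one (hQR hy), FusionSys.autMap_one hy])
      exact fun q hq => by rw [hκe q hq, hκ1, FusionSys.autMap_one hq]
    set R0 := R ⊓ centralizerIn S Q with hR0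
    have hR0R : R0 ≤ R := inf_le_left
    have hQR0 : Q ≤ R0 := le_inf hQR fun y hy =>
      FusionSys.mem_centralizerIn.2 ⟨hQ hy, fun z hz => hQa z hz y hy⟩
    haveI := finite_of_le (hR0R.trans hRT)
    have hR0inv : ∀ γ ∈ kF.autGroup R, ∀ x ∈ R0, autMap γ x ∈ R0 := by
      intro γ hγ x hx
      have hm : IsMap kF R (autMap γ) := (mem_autGroup_iff hRT).1 hγ
      have hQ' := honQ γ hγ
      refine ⟨autMap_mem γ hx.1, FusionSys.mem_centralizerIn.2 ⟨hTS (hm.mem_S hx.1), fun z hz => ?_⟩⟩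
      obtain ⟨y, hy, rfl⟩ := (isIso_of_mapsTo (hm.mono hQR) fun y hy => hQ'.mem hy).exists_preimage hz
      rw [← hm.map_mul (hQR hy) hx.1, ← hm.map_mul hx.1 (hQR hy),
        (FusionSys.mem_centralizerIn.1 hx.2).2 y hy]
    have hC0 : ∀ x ∈ R, (∀ y ∈ R0, y * x = x * y) → x ∈ R0 := fun x hx h =>
      ⟨hx, FusionSys.mem_centralizerIn.2 ⟨hTS (hRT hx), fun y hy => h y (hQR0 hy)⟩⟩
    let K0 : Subgroup (kF.autGroup R) :=
      { carrier := {γ | ∀ x ∈ R0, autMap (γ : MulAut R) x = x}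
        one_mem' := fun x hx => FusionSys.autMap_one (hR0R hx)
        mul_mem' := fun {γ δ} hγ hδ x hx => by
          rw [Subgroup.coe_mul, autMap_mul _ _ (hR0R hx), hδ x hx, hγ x hx]
        inv_mem' := fun {γ} hγ x hx => by
          rw [Subgroup.coe_inv]
          conv_lhs => rw [← hγ x hx]
          rw [← autMap_mul _ _ (hR0R hx), inv_mul_cancel, FusionSys.autMap_one (hR0R hx)] }
    have hK0n : K0.Normal := ⟨fun γ hγ δ x hx => by
      rw [Subgroup.coe_mul, Subgroup.coe_mul, Subgroup.coe_inv, autMap_mul _ _ (hR0R hx),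
        autMap_mul _ _ (autMap_mem _ (hR0R hx)),
        hγ _ (hR0inv _ (Subgroup.inv_mem _ δ.2) x hx), autMap_inv_apply _ (hR0R hx)]⟩
    have hK0p : IsPGroup p K0 := H90.isPGroup_of_coprime_eq_one fun γ hγ => by
      refine Subtype.ext (Subtype.ext (MulEquiv.ext fun x => ?_))
      have hco : (orderOf ((γ : kF.autGroup R) : MulAut R)).Coprime p := by
        rwa [Subgroup.orderOf_coe, Subgroup.orderOf_coe]
      have hm : IsMap kF R (autMap ((γ : kF.autGroup R) : MulAut R)) := (mem_autGroup_iff hRT).1 γ.1.2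
      refine H90.fix_of_fix_diff (hTp.to_le hRT) _ hco x (Subtype.ext ?_)
      have hd : ((x⁻¹ * ((γ : kF.autGroup R) : MulAut R) x : R) : Ω) ∈ R0 := by
        refine hC0 _ (Subtype.coe_prop _) fun y hy => ?_
        rw [Subgroup.coe_mul, Subgroup.coe_inv, ← autMap_coe]
        have hz : (x : Ω) * y * (x : Ω)⁻¹ ∈ R0 := by
          obtain ⟨hn, -⟩ := mem_kNorm.1 (hRT x.2)
          exact ⟨mul_mem (mul_mem x.2 hy.1) (Subgroup.inv_mem _ x.2),
            (Subgroup.mem_normalizer_iff.1 (CentFocal.le_normalizer_centralizerIn hn.1 hn.2) y).1 hy.2⟩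
        have h := γ.2 _ hz
        rw [hm.map_conj x.2 hy.1, γ.2 y hy] at h
        set a := autMap ((γ : kF.autGroup R) : MulAut R) (x : Ω)
        calc y * ((x : Ω)⁻¹ * a) = (x : Ω)⁻¹ * ((x : Ω) * y * (x : Ω)⁻¹) * a := by group
          _ = (x : Ω)⁻¹ * a * y := by rw [← h]; group
      rw [← autMap_coe]
      exact γ.2 _ hd
    have hK0I : ∀ γ ∈ K0, (γ : MulAut R) ∈ Inn R := fun γ hγ => by
      rw [← hRr.2]
      exact ⟨_, (le_sSup ⟨hK0n, hK0p⟩ : K0 ≤ pCore p (kF.autGroup R)) hγ, rfl⟩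
    -- move `R0` to a fully normalized conjugate inside `kE`
    have hNR : normalizerIn (kNorm S K) R ≤ normalizerIn (kNorm S K) R0 := fun x hx => ⟨hx.1, by
      obtain ⟨hn, -⟩ := mem_kNorm.1 hx.1
      refine mem_normalizer_of_maps fun y hy => ?_
      exact ⟨(Subgroup.mem_normalizer_iff.1 hx.2 y).1 hy.1,
        (Subgroup.mem_normalizer_iff.1 (CentFocal.le_normalizer_centralizerIn hn.1 hn.2) y).1 hy.2⟩⟩
    have hRN : R ≤ normalizerIn (kNorm S K) R0 := (le_normalizerIn_self hRT).trans hNR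
    obtain ⟨R0', g, hR0', hg, hgi⟩ : ∃ (R0' : Subgroup Ω) (g : Ω → Ω), kF.IsFullyNormalized R0' ∧
        IsMap kE R g ∧ IsIso kF R0 R0' g := by
      by_cases h : R = (kNorm S K)
      · refine ⟨R0, id, ⟨hR0R.trans hRT, fun X _ => ?_⟩, isMap_id kE hRT, isIso_id kF (hR0R.trans hRT)⟩
        haveI := finite_of_le (normalizerIn_le : normalizerIn (kNorm S K) R0 ≤ (kNorm S K))
        exact Subgroup.card_le_of_le fun x hx => hRN (h ▸ hx.1)
      · obtain ⟨R0', hc, hn⟩ := exists_isFullyNormalized kF (hR0R.trans hRT)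
        obtain ⟨g, hg, hgi, -⟩ := exists_map_to_fullyNormalized hTp hsF hn hc
        haveI := finite_of_le (normalizerIn_le : normalizerIn (kNorm S K) R0 ≤ (kNorm S K))
        exact ⟨R0', g, hn, (big _ g ((FusionSys.card_lt_card_normalizerIn hTp (lt_of_le_of_ne hRT h)).trans_le
          (Subgroup.card_le_of_le hNR)) hg).mono hRN, hgi⟩
    set R' := imgSub g R with hR'
    have hgF : IsIso kF R R' g := (le_iff_isMap.1 hkle _ _ hg).isIso
    have hR'T : R' ≤ (kNorm S K) := hgF.target_le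
    haveI := finite_of_le hR'T
    have hR0'R : R0' ≤ R' := fun z hz => by
      obtain ⟨y, hy, rfl⟩ := hgi.exists_preimage hz
      exact hgF.mem (hR0R hy)
    have hR'c := isCentric_of_isConj hRc hgF.isConj
    obtain ⟨g', hg', hg'g, hgg'⟩ := (IsIso.mk hg hgF.image_eq).exists_symm
    -- automorphisms of `R'` fixing `R0'` are inner
    have hinn : ∀ f : Ω → Ω, IsMap kF R' f → (∀ x ∈ R', f x ∈ R') → (∀ y ∈ R0', f y = y) →
        ∃ r ∈ R, ∀ x ∈ R, g' (f (g x)) = r * x * r⁻¹ := by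
      intro f hf hfm hfix
      have hc : IsMap kF R (g' ∘ (f ∘ g)) :=
        ((hgF.isMap.comp hf fun x hx => hgF.mem hx).comp (le_iff_isMap.1 hkle _ _ hg'.isMap)
          fun x hx => hfm _ (hgF.mem hx))
      obtain ⟨γ, hγ, hγe⟩ :=
        (isIso_of_mapsTo hc fun x hx => hg'.mem (hfm _ (hgF.mem hx))).exists_aut
      obtain ⟨r, hr⟩ := hK0I ⟨γ, hγ⟩ fun x hx => by
        rw [hγe x (hR0R hx), Function.comp_apply, Function.comp_apply, hfix _ (hgi.mem hx),
          hg'g x (hR0R hx)]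
      refine ⟨r, r.2, fun x hx => ?_⟩
      have h := hγe x hx
      rw [show γ = MulAut.conj r from hr.symm, autMap_apply _ hx] at h
      exact h.symm
    haveI := finite_of_le hR0'.1
    have hCR0' : centralizerIn (kNorm S K) R0' ≤ R0' := by
      have h1 : ∀ x ∈ R', (∀ y ∈ R0', y * x = x * y) → x ∈ R0' := by
        intro x hx h
        obtain ⟨z, hz, rfl⟩ := hgF.exists_preimage hx
        refine hgi.mem (hC0 z hz fun y hy => ?_)
        refine hgF.isMap.injOn (R.mul_mem (hR0R hy) hz) (R.mul_mem hz (hR0R hy)) ?_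
        rw [hgF.isMap.map_mul (hR0R hy) hz, hgF.isMap.map_mul hz (hR0R hy)]
        exact h _ (hgi.mem hy)
      by_contra hcon
      have hlt : R' < R' ⊔ centralizerIn (kNorm S K) R0' := lt_of_le_not_ge le_sup_left fun h =>
        hcon fun x hx => h1 x (h (Subgroup.mem_sup_right hx)) (FusionSys.mem_centralizerIn.1 hx).2
      haveI := finite_of_le (sup_le hR'T centralizerIn_le : R' ⊔ centralizerIn (kNorm S K) R0' ≤ (kNorm S K))
      obtain ⟨x, ⟨hxY, hxn⟩, hxR⟩ := SetLike.exists_of_lt (lt_inf_normalizer_of_lt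
        (hTp.to_le (sup_le hR'T centralizerIn_le)) hlt)
      have hnC : R' ≤ Subgroup.normalizer (centralizerIn (kNorm S K) R0' : Set Ω) := fun r hr =>
        CentFocal.le_normalizer_centralizerIn (hR'T hr) (by
          refine mem_normalizer_of_maps fun y hy => ?_
          obtain ⟨a, ha, rfl⟩ := hgF.exists_preimage hr
          obtain ⟨b, hb, rfl⟩ := hgi.exists_preimage hy
          rw [← hgF.isMap.map_conj ha (hR0R hb)]
          refine hgi.mem ⟨R.mul_mem (R.mul_mem ha hb.1) (R.inv_mem ha), ?_⟩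
          obtain ⟨hn, -⟩ := mem_kNorm.1 (hRT ha)
          exact (Subgroup.mem_normalizer_iff.1 (CentFocal.le_normalizer_centralizerIn hn.1 hn.2) b).1 hb.2)
      have hxY' : x ∈ ((R' ⊔ centralizerIn (kNorm S K) R0' : Subgroup Ω) : Set Ω) := hxY
      rw [Subgroup.coe_mul_of_left_le_normalizer_right R' _ hnC] at hxY'
      obtain ⟨a, ha, c, hc, rfl⟩ := hxY'
      refine hxR (R'.mul_mem ha ?_)
      have hcn : c ∈ Subgroup.normalizer (R' : Set Ω) := by
        have := mul_mem (inv_mem (Subgroup.le_normalizer ha)) hxn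
        rwa [inv_mul_cancel_left] at this
      obtain ⟨r, hr, hre⟩ := hinn (conjMap c) (isMap_conj kF hR'T (centralizerIn_le hc))
        (fun x hx => (Subgroup.mem_normalizer_iff.1 hcn x).1 hx)
        (fun y hy => by rw [conjMap_apply, ← (FusionSys.mem_centralizerIn.1 hc).2 y hy, mul_inv_cancel_right])
      refine mem_of_conjAut_mem_inn (centralizerIn_le_of_isCentric hR'c) hR'T (centralizerIn_le hc) hcn
        ⟨⟨g r, hgF.mem hr⟩, aut_ext fun x hx => ?_⟩
      obtain ⟨y, hy, rfl⟩ := hgF.exists_preimage hx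
      have h2 := congrArg g (hre y hy)
      rw [conjMap_apply, hgg' _ ((Subgroup.mem_normalizer_iff.1 hcn _).1 (hgF.mem hy)),
        hgF.isMap.map_conj hr hy] at h2
      rw [autMap_conjAut hcn (hgF.mem hy), autMap_apply _ (hgF.mem hy), conjMap_apply, h2]
      rfl
    have hfc : kE.IsFullyCentralized R0' := ⟨hR0'.1, fun X hX => by
      refine (isFullyCentralized_of_isFullyNormalized hTp hsF hR0').2 X ?_
      obtain ⟨f, hf⟩ := isConj_iff.1 hX
      exact (IsIso.mk (le_iff_isMap.1 hkle _ _ hf.isMap) hf.image_eq).isConj⟩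
    have hrec := receptive_of_isFullyCentralized hTp hsE hfc
    set a := g ∘ (autMap (α : MulAut R) ∘ g') with ha_def
    have hg'F : IsIso kF R' R g' := ⟨le_iff_isMap.1 hkle _ _ hg'.isMap, hg'.image_eq⟩
    have haI : IsIso kF R' R' a := (hg'F.comp (isIso_autMap hRT α.2)).comp hgF
    have hαm : IsMap kF R (autMap (α : MulAut R)) := (mem_autGroup_iff hRT).1 α.2
    have hαR0 : IsMap kE R0 (autMap (α : MulAut R)) := by
      obtain ⟨-, -, h, hh, he, -⟩ := (hkFi.map_iff R _).1 hαm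
      have hEm := hC R0 h inf_le_right (hh.mono (sup_le_sup_right hR0R Q))
        fun q hq => (he q (hQR hq)).trans (hfixQ q hq)
      exact (hkEi.map_iff _ _).2 ⟨hR0R.trans hRT, fun x hx => hαm.mem_S (hR0R hx), h, hEm,
        fun x hx => he x (hR0R hx), 1, one_mem _, fun q hq => by
          rw [he q (hQR hq), hfixQ q hq, FusionSys.autMap_one hq]⟩
    have hg0 : IsIso kE R0 R0' g := ⟨hg.mono hR0R, hgi.image_eq⟩
    have hg'0 : IsMap kE R0' g' := hg'.isMap.mono hR0'R
    have hg'0m : ∀ y ∈ R0', g' y ∈ R0 := fun y hy => by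
      obtain ⟨x, hx, rfl⟩ := hgi.exists_preimage hy
      rw [hg'g x (hR0R hx)]; exact hx
    have ha0 : IsMap kE R0' a :=
      (hg'0.comp hαR0 hg'0m).comp hg0.isMap fun y hy => hR0inv _ α.2 _ (hg'0m y hy)
    have ha0m : ∀ y ∈ R0', a y ∈ R0' := fun y hy => hgi.mem (hR0inv _ α.2 _ (hg'0m y hy))
    haveI := finite_of_le hR0'.1
    have hR0'n : R' ≤ Subgroup.normalizer (R0' : Set Ω) := fun r hr => by
      refine mem_normalizer_of_maps fun y hy => ?_
      obtain ⟨b, hb, rfl⟩ := hgF.exists_preimage hr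
      obtain ⟨z, hz, rfl⟩ := hgi.exists_preimage hy
      rw [← hgF.isMap.map_conj hb (hR0R hz)]
      refine hgi.mem ⟨R.mul_mem (R.mul_mem hb hz.1) (R.inv_mem hb), ?_⟩
      obtain ⟨hn, -⟩ := mem_kNorm.1 (hRT hb)
      exact (Subgroup.mem_normalizer_iff.1 (CentFocal.le_normalizer_centralizerIn hn.1 hn.2) z).1 hz.2
    obtain ⟨β, hβ, hβe⟩ := receptive_extend hrec (isIso_of_mapsTo ha0 ha0m) (N := R') fun r hr =>
      ⟨hR'T hr, hR0'n hr, a r, haI.isMap.mem_S hr, fun y hy => haI.isMap.map_conj hr (hR0'R hy)⟩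
    rw [sup_of_le_left hR0'R] at hβ
    have hβF := le_iff_isMap.1 hkle _ _ hβ
    have hdiff : ∀ r ∈ R', (a r)⁻¹ * β r ∈ R0' := fun r hr => by
      refine hCR0' (FusionSys.mem_centralizerIn.2
        ⟨(kNorm S K).mul_mem ((kNorm S K).inv_mem (haI.isMap.mem_S hr)) (hβ.mem_S hr), fun y hy => ?_⟩)
      obtain ⟨z, hz, rfl⟩ := (isIso_of_mapsTo ha0 ha0m).exists_preimage hy
      have hz' := (Subgroup.mem_normalizer_iff.1 (hR0'n hr) z).1 hz
      have h := hβe _ hz'
      rw [haI.isMap.map_conj hr (hR0'R hz), hβ.map_conj hr (hR0'R hz), hβe z hz] at h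
      calc a z * ((a r)⁻¹ * β r) = (a r)⁻¹ * (a r * a z * (a r)⁻¹) * β r := by group
        _ = (a r)⁻¹ * β r * a z := by rw [← h]; group
    have hβm : ∀ r ∈ R', β r ∈ R' := fun r hr => by
      have := R'.mul_mem (haI.mem hr) (hR0'R (hdiff r hr))
      rwa [mul_inv_cancel_left] at this
    obtain ⟨β', hβ', hβ'β, hββ'⟩ := (isIso_of_mapsTo hβ hβm).exists_symm
    have hδ : IsMap kF R' (β' ∘ a) :=
      haI.isMap.comp (le_iff_isMap.1 hkle _ _ hβ'.isMap) fun r hr => haI.mem hr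
    obtain ⟨r, hr, hre⟩ := hinn _ hδ (fun x hx => hβ'.mem (haI.mem hx)) fun y hy => by
      rw [Function.comp_apply, ← hβe y hy, hβ'β y (hR0'R hy)]
    have hcon : ∀ x ∈ R, r * x * r⁻¹ ∈ R := fun x hx => R.mul_mem (R.mul_mem hr hx) (R.inv_mem hr)
    refine mem_autGroup_of_isMap (((((isMap_conj kE hRT (hRT hr)).comp hg hcon).comp hβ
      fun x hx => hgF.mem (hcon x hx)).comp hg'.isMap fun x hx => hβm _ (hgF.mem (hcon x hx))).congr
        fun x hx => ?_)
    simp only [Function.comp_apply, conjMap_apply]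
    have hy : β' (a (g x)) ∈ R' := hβ'.mem (haI.mem (hgF.mem hx))
    rw [← hre x hx, Function.comp_apply, hgg' _ hy, hββ' _ (haI.mem (hgF.mem hx)), ha_def,
      Function.comp_apply, Function.comp_apply, hg'g x hx, hg'g _ (autMap_mem _ hx)]
  rcases hRT.eq_or_lt with h | h
  · exact step (Or.inl h)
  rcases extAut_dichotomy hTp hsF h hRn with ⟨-, h1⟩ | ⟨h1, -⟩
  · rw [← h1, extAut, Subgroup.closure_le]
    rintro α ⟨X, f, hRX, hf, he⟩
    haveI := finite_of_le hf.le
    have hlt : Nat.card R < Nat.card X := by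
      by_contra hle'
      exact hRX.ne (Subgroup.eq_of_le_of_card_ge hRX.le (not_lt.1 hle'))
    exact mem_autGroup_of_isMap (((big X f hlt hf).mono hRX.le).congr fun x hx => (he x hx).symm)
  · exact step (Or.inr h1)

/-- The inductive step on one abelian small subgroup normalized by `P`. -/
theorem isMap_or_fixes (hS : IsPGroup p S) (hE : E.IsSaturated p) (hF : F.IsSaturated p) (hle : E ≤ F)
    (hH : AgreesOn p E F (F.hyperfocalSubgroup p))
    (IH : ∀ (T : Subgroup Ω) (E' F' : FusionSystem T), T ≤ S → (mapsSet F').ncard < (mapsSet F).ncard →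
      E'.IsSaturated p → F'.IsSaturated p → E' ≤ F' →
      AgreesOn p E' F' (F'.hyperfocalSubgroup p) → F' ≤ E')
    {P A : Subgroup Ω} (hP : P ≤ S) (hAP : A ≤ P) (hAH : A ≤ F.hyperfocalSubgroup p)
    (hA : IsSmallAb p A) (hn : P ≤ Subgroup.normalizer (A : Set Ω)) :
    (∀ f, IsMap F P f → IsMap E P f) ∨
      ∀ α ∈ F.autGroup P, (orderOf α).Coprime p → ∀ a ∈ A, autMap α a = a := by
  have hAS := hAP.trans hP
  haveI := finite_of_le hP
  haveI := finite_of_le hAS
  set K := autInducedBy P A with hKdef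
  have hKp : IsPGroup p K := isPGroup_autInducedBy (hS.to_le hP) A
  have hKF : K ≤ F.autGroup A := fun κ hκ => by
    obtain ⟨x, hx, hxn, rfl⟩ := mem_autInducedBy.1 hκ
    exact conjAut_mem_autGroup F hAS ⟨hP hx, hxn⟩
  -- move `A` so that `K` goes into `Aut_S`
  obtain ⟨A', hAA', hA'n⟩ := exists_isFullyNormalized F hAS
  obtain ⟨u₀, hu₀⟩ := isConj_iff.1 hAA'
  haveI := finite_of_le hA'n.1
  haveI := finite_autGroup F hA'n.1
  obtain ⟨-, SA, hSA⟩ := isFullyAutomized_of_isFullyNormalized hS hF hA'n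
  have hKp' : IsPGroup p ((K.map hu₀.autEquiv.toMonoidHom).subgroupOf (F.autGroup A')) :=
    (hKp.map _).of_equiv (Subgroup.subgroupOfEquivOfLe (by
      rintro _ ⟨r, hr, rfl⟩
      exact hu₀.autEquiv_mem_autGroup (hKF hr))).symm
  obtain ⟨SA', hSA'⟩ := hKp'.exists_le_sylow
  obtain ⟨χ, hχ⟩ := MulAction.exists_smul_eq (F.autGroup A') SA' SA
  set u := autMap (χ : MulAut A') ∘ u₀ with hu
  have hui : IsIso F A A' u := hu₀.comp (isIso_autMap hA'n.1 χ.2)
  have hue : ∀ r ∈ K, hui.autEquiv r ∈ autInducedBy S A' := by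
    intro r hr
    have he : hui.autEquiv r = (χ : MulAut A') * hu₀.autEquiv r * (χ : MulAut A')⁻¹ := by
      refine aut_ext fun z hz => ?_
      obtain ⟨y, hy, rfl⟩ := hui.exists_preimage hz
      rw [hui.autMap_autEquiv _ hy, autMap_mul _ _ (hui.mem hy),
        autMap_mul _ _ (autMap_mem _ (hui.mem hy))]
      show autMap _ (u₀ (autMap r y)) =
        autMap _ (autMap (hu₀.autEquiv r) (autMap (χ : MulAut A')⁻¹ (autMap (χ : MulAut A') (u₀ y))))
      rw [← autMap_mul _ _ (hu₀.mem hy), inv_mul_cancel, FusionSys.autMap_one (hu₀.mem hy),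
        hu₀.autMap_autEquiv _ hy]
    rw [he]
    have h1 : χ * ⟨hu₀.autEquiv r, hu₀.autEquiv_mem_autGroup (hKF hr)⟩ * χ⁻¹ ∈
        ((χ • SA' : Sylow p (F.autGroup A')) : Subgroup (F.autGroup A')) := by
      rw [Sylow.coe_subgroup_smul]
      exact ⟨_, hSA' (show (⟨hu₀.autEquiv r, hu₀.autEquiv_mem_autGroup (hKF hr)⟩ : F.autGroup A') ∈
        (K.map hu₀.autEquiv.toMonoidHom).subgroupOf _ from ⟨r, hr, rfl⟩), rfl⟩
    rw [hχ, hSA] at h1
    exact h1
  set K' := K.map hui.autEquiv.toMonoidHom with hK'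
  have hK'S : K' ≤ autInducedBy S A' := by
    rintro _ ⟨r, hr, rfl⟩
    exact hue r hr
  have hK'p : IsPGroup p K' := hKp.map _
  have hA'small : IsSmallAb p A' := by
    constructor
    · intro a0 ha0 b0 hb0
      obtain ⟨a, ha, rfl⟩ := hui.exists_preimage ha0
      obtain ⟨b, hb, rfl⟩ := hui.exists_preimage hb0
      rw [← hui.isMap.map_mul ha hb, hA.1 a ha b hb, hui.isMap.map_mul hb ha]
    · intro a0 ha0
      obtain ⟨a, ha, rfl⟩ := hui.exists_preimage ha0
      rw [← hui.isMap.map_pow ha, hA.2 a ha, hui.isMap.map_one]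
  have hA'H : A' ≤ F.hyperfocalSubgroup p := fun z hz => by
    obtain ⟨a, ha, rfl⟩ := hui.exists_preimage hz
    exact (mem_hyperfocal_iff_of_isMap hS hF hui.isMap ha).2 (hAH ha)
  have hA'cF := isFullyCentralized_of_isFullyNormalized hS hF hA'n
  have hrF := receptive_of_isFullyCentralized hS hF hA'cF
  have hA'cE : E.IsFullyCentralized A' := ⟨hA'n.1, fun Q hQ => hA'cF.2 Q (by
    obtain ⟨g, hg⟩ := isConj_iff.1 hQ
    exact (IsIso.mk (le_iff_isMap.1 hle _ _ hg.isMap) hg.image_eq).isConj)⟩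
  have hrE := receptive_of_isFullyCentralized hS hE hA'cE
  by_cases hall : ∀ (B : Subgroup Ω) (g : Ω → Ω), IsMap F B g →
      IsMap (centSys F hA'n.1) B g
  · -- `A = A'` is central
    right
    intro α hα hco a ha
    obtain ⟨-, -, h, hh, he, hfix⟩ := (CentFocal.isMap_centSys_iff hA'n.1).1 (hall A u hui.isMap)
    have hAA : A' = A := by
      refine Subgroup.eq_of_le_of_card_ge (fun z hz => ?_) hui.card_eq.le
      obtain ⟨y, hy, hye⟩ := hui.exists_preimage hz
      rw [← he y hy] at hye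
      rwa [hh.injOn (Subgroup.mem_sup_left hy) (Subgroup.mem_sup_right hz)
        (hye.trans (hfix z hz).symm)] at hy
    obtain ⟨-, -, g, -, hge, hgfix⟩ :=
      (CentFocal.isMap_centSys_iff hA'n.1).1 (hall P _ ((mem_autGroup_iff hP).1 hα))
    rw [← hge a (hAP ha), hgfix a (hAA.symm ▸ ha)]
  left
  -- the centralizer systems agree
  have hsub : ∀ (B : Subgroup Ω) (g : Ω → Ω), IsMap (centSys F hA'n.1) B g → IsMap F B g :=
    fun B g hg => by
      obtain ⟨-, -, h, hh, he, -⟩ := (CentFocal.isMap_centSys_iff hA'n.1).1 hg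
      exact (hh.mono le_sup_left).congr fun x hx => (he x hx).symm
  have hsubsys : (centSys F hA'n.1).IsSubsystemOf F := isSubsystemOf_iff_isMap.2 hsub
  have hlt : (mapsSet (centSys F hA'n.1)).ncard < (mapsSet F).ncard := by
    refine Set.ncard_lt_ncard ⟨fun x hx => hsubsys x.1 hx, fun hsup => hall fun B g hg => ?_⟩
      (mapsSet_finite F)
    obtain ⟨φ, hφ, hφe⟩ := hg
    exact ⟨φ, hsup (show (⟨B, φ⟩ : Σ P : Subgroup Ω, P →* Ω) ∈ mapsSet F from hφ), hφe⟩
  have hagree : AgreesOn p (centSys E hA'n.1) (centSys F hA'n.1)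
      ((centSys F hA'n.1).hyperfocalSubgroup p) := by
    intro B g hB hBH hg hgH
    obtain ⟨h1, h2, h, hh, he, hfix⟩ := (CentFocal.isMap_centSys_iff hA'n.1).1 hg
    have hBH' : B ≤ F.hyperfocalSubgroup p := hBH.trans (hyperfocal_le hsubsys)
    refine (CentFocal.isMap_centSys_iff hA'n.1).2 ⟨h1, h2, h, hH (B ⊔ A') h ?_ (sup_le hBH' hA'H) hh
      (fun y hy => (mem_hyperfocal_iff_of_isMap hS hF hh hy).2 (sup_le hBH' hA'H hy)), he, hfix⟩
    exact isSmallAb_sup hB hA'small fun b hb a ha =>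
      ((FusionSys.mem_centralizerIn.1 (h1 hb)).2 a ha).symm
  have hkle : centSys E hA'n.1 ≤ centSys F hA'n.1 := le_iff_isMap.2 fun B g hg => by
    obtain ⟨h1, h2, h, hh, he, hfix⟩ := (CentFocal.isMap_centSys_iff hA'n.1).1 hg
    exact (CentFocal.isMap_centSys_iff hA'n.1).2 ⟨h1, h2, h, le_iff_isMap.1 hle _ _ hh, he, hfix⟩
  have hcent : centSys F hA'n.1 ≤ centSys E hA'n.1 := IH _ _ _ centralizerIn_le hlt
    (isSaturated_centralizer hS hE hA'cE (isCentralizerSystem_centSys E hA'n.1))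
    (isSaturated_centralizer hS hF hA'cF (isCentralizerSystem_centSys F hA'n.1)) hkle hagree
  have hA'C : A' ≤ centralizerIn S A' := fun y hy =>
    FusionSys.mem_centralizerIn.2 ⟨hA'n.1 hy, fun z hz => hA'small.1 z hz y hy⟩
  have hkleE : kSys F hA'n.1 K' ≤ kSys E hA'n.1 K' :=
    kSys_le_of_centralizer hS hE hF hle hA'n.1 hA'small.1 hK'S hrE hrF fun B g hB hg hfix => by
      have hgC : ∀ y ∈ B ⊔ A', g y ∈ centralizerIn S A' := fun y hy => by
        refine FusionSys.mem_centralizerIn.2 ⟨hg.mem_S hy, fun z hz => ?_⟩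
        conv_lhs => rw [← hfix z hz, ← hg.map_mul (Subgroup.mem_sup_right hz) hy,
          (FusionSys.mem_centralizerIn.1 (sup_le hB hA'C hy)).2 z hz,
          hg.map_mul hy (Subgroup.mem_sup_right hz), hfix z hz]
      obtain ⟨-, -, h, hh, he, hfix'⟩ := (CentFocal.isMap_centSys_iff hA'n.1).1
        (le_iff_isMap.1 hcent (B ⊔ A') g ((CentFocal.isMap_centSys_iff hA'n.1).2
          ⟨sup_le hB hA'C, hgC, g, by rwa [sup_assoc, sup_idem], fun _ _ => rfl, hfix⟩))
      exact (hh.mono le_sup_left).congr fun y hy => (he y hy).symm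
  set kF := kSys F hA'n.1 K' with hkF
  set kE := kSys E hA'n.1 K' with hkE
  have hkFi := isKSys_kSys F hA'n.1 K'
  have hkEi := isKSys_kSys E hA'n.1 K'
  intro f hf
  -- extend `u` to `P` inside `E`
  have huE : IsMap E A u := hH A u hA hAH hui.isMap fun a ha => hA'H (hui.mem ha)
  have huiE : IsIso E A A' u := ⟨huE, hui.image_eq⟩
  obtain ⟨v, hv, hve⟩ := receptive_extend hrE huiE (N := P) fun x hx => by
    obtain ⟨h, hhS, hhn, hhe⟩ := mem_autInducedBy.1 (hue _ (mem_autInducedBy.2 ⟨x, hx, hn hx, rfl⟩))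
    refine ⟨hP hx, hn hx, h, hhS, fun y hy => ?_⟩
    rw [← conjMap_apply x, ← autMap_conjAut (hn hx) hy, ← hui.autMap_autEquiv _ hy, hhe,
      autMap_conjAut hhn (hui.mem hy), conjMap_apply]
  rw [sup_of_le_left hAP] at hv
  have hvA : ∀ a ∈ A, v a ∈ A' := fun a ha => (hve a ha).symm ▸ hui.mem ha
  set P' := imgSub v P with hP'
  have hA'P' : A' ≤ P' := fun z hz => by
    obtain ⟨a, ha, rfl⟩ := hui.exists_preimage hz
    exact hv.mem_imgSub.2 ⟨a, hAP ha, hve a ha⟩
  have hP'T : P' ≤ kNorm S K' := fun z hz => by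
    obtain ⟨x, hx, rfl⟩ := hv.mem_imgSub.1 hz
    have hnn : v x ∈ normalizerIn S A' :=
      ⟨hv.mem_S hx, (huiE.mem_normalizerIn_of_extends hv hAP hve hx (hn hx)).2⟩
    refine mem_kNorm.2 ⟨hnn, conjAut (hn hx), mem_autInducedBy.2 ⟨x, hx, hn hx, rfl⟩, ?_⟩
    exact huiE.autEquiv_conjAut hv hAP hve hx (hn hx) hnn.2
  obtain ⟨v', hv', hv'e⟩ := hv.exists_inv
  have hv'P : ∀ z ∈ P', v' z ∈ P := fun z hz => by
    obtain ⟨x, hx, rfl⟩ := hv.mem_imgSub.1 hz
    rw [hv'e x hx]; exact hx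
  set g := f ∘ v' with hg
  have hgm : IsMap F P' g := (le_iff_isMap.1 hle _ _ hv').comp hf hv'P
  suffices hgE : IsMap E P' g by
    refine ((hv.comp hgE fun x hx => hv.mem_imgSub.2 ⟨x, hx, rfl⟩)).congr fun x hx => ?_
    rw [Function.comp_apply, hg, Function.comp_apply, hv'e x hx]
  -- bring `g(A')` back to `A'` inside `E`
  set A'' := imgSub g A' with hA''
  have hgA := (hgm.mono hA'P').isIso
  obtain ⟨w, hw, hwg, hgw⟩ := hgA.exists_symm
  have hA''H : A'' ≤ F.hyperfocalSubgroup p := fun z hz => by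
    obtain ⟨a, ha, rfl⟩ := hgA.exists_preimage hz
    exact (mem_hyperfocal_iff_of_isMap hS hF hgA.isMap ha).2 (hA'H ha)
  have hA''small : IsSmallAb p A'' := by
    constructor
    · intro a0 ha0 b0 hb0
      obtain ⟨a, ha, rfl⟩ := hgA.exists_preimage ha0
      obtain ⟨b, hb, rfl⟩ := hgA.exists_preimage hb0
      rw [← hgA.isMap.map_mul ha hb, hA'small.1 a ha b hb, hgA.isMap.map_mul hb ha]
    · intro a0 ha0
      obtain ⟨a, ha, rfl⟩ := hgA.exists_preimage ha0
      rw [← hgA.isMap.map_pow ha, hA'small.2 a ha, hgA.isMap.map_one]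
  have hwE : IsIso E A'' A' w := ⟨hH A'' w hA''small hA''H hw.isMap (fun a ha => hA'H (hw.mem ha)),
    hw.image_eq⟩
  have hgP := hgm.isIso
  have hA''P : A'' ≤ imgSub g P' := fun z hz => by
    obtain ⟨a, ha, rfl⟩ := hgA.exists_preimage hz
    exact hgm.mem_imgSub.2 ⟨a, hA'P' ha, rfl⟩
  haveI := finite_of_le hgA.target_le
  obtain ⟨ψ, hψ, hψe⟩ := receptive_extend hrE hwE (N := imgSub g P') fun z hz => by
    obtain ⟨x, hx, rfl⟩ := hgm.mem_imgSub.1 hz
    obtain ⟨hxn, -⟩ := mem_kNorm.1 (hP'T hx)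
    have hconj : ∀ y ∈ A', g x * g y * (g x)⁻¹ = g (x * y * x⁻¹) := fun y hy =>
      (hgm.map_conj hx (hA'P' hy)).symm
    refine ⟨hgm.mem_S hx, mem_normalizer_of_maps fun y hy => ?_, x, hxn.1, fun y hy => ?_⟩
    · obtain ⟨a, ha, rfl⟩ := hgA.exists_preimage hy
      rw [hconj a ha]
      exact hgA.mem ((Subgroup.mem_normalizer_iff.1 hxn.2 a).1 ha)
    · obtain ⟨a, ha, rfl⟩ := hgA.exists_preimage hy
      rw [hconj a ha, hwg _ ((Subgroup.mem_normalizer_iff.1 hxn.2 a).1 ha), hwg a ha]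
  rw [sup_of_le_left hA''P] at hψ
  set γ := ψ ∘ g with hγ
  have hγm : IsMap F P' γ := hgm.comp (le_iff_isMap.1 hle _ _ hψ) fun x hx =>
    hgm.mem_imgSub.2 ⟨x, hx, rfl⟩
  have hγA : ∀ a ∈ A', γ a = a := fun a ha => by
    rw [hγ, Function.comp_apply, hψe _ (hgA.mem ha), hwg a ha]
  have hγT : ∀ x ∈ P', γ x ∈ kNorm S K' := fun x hx => by
    obtain ⟨hxn, hxK⟩ := mem_kNorm.1 (hP'T hx)
    have hq : ∀ a ∈ A', γ x * a * (γ x)⁻¹ = x * a * x⁻¹ := fun a ha => by
      rw [← hγA _ ((Subgroup.mem_normalizer_iff.1 hxn.2 a).1 ha), hγm.map_conj hx (hA'P' ha), hγA a ha]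
    have hnn : γ x ∈ normalizerIn S A' := ⟨hγm.mem_S hx, mem_normalizer_of_maps fun a ha => by
      rw [hq a ha]; exact (Subgroup.mem_normalizer_iff.1 hxn.2 a).1 ha⟩
    refine mem_kNorm.2 ⟨hnn, ?_⟩
    rwa [show conjAut hnn.2 = conjAut hxn.2 from aut_ext fun a ha => by
      rw [autMap_conjAut _ ha, autMap_conjAut _ ha, conjMap_apply, conjMap_apply, hq a ha]]
  have hγk : IsMap kF P' γ := (hkFi.map_iff P' γ).2 ⟨hP'T, hγT, γ,
    by rwa [sup_of_le_left hA'P'], fun _ _ => rfl, 1, one_mem _,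
    fun a ha => (hγA a ha).trans (FusionSys.autMap_one ha).symm⟩
  obtain ⟨-, -, γ', hγ', hγ'e, -⟩ := (hkEi.map_iff P' γ).1 (le_iff_isMap.1 hkleE _ _ hγk)
  have hγE : IsMap E P' γ := (hγ'.mono le_sup_left).congr fun x hx => (hγ'e x hx).symm
  obtain ⟨ψ', hψ', hψ'e⟩ := hψ.exists_inv
  refine (hγE.comp hψ' fun x hx => hψ.mem_imgSub.2 ⟨g x, hgm.mem_imgSub.2 ⟨x, hx, rfl⟩, rfl⟩).congr
    fun x hx => ?_
  rw [Function.comp_apply, hγ, Function.comp_apply, hψ'e _ (hgm.mem_imgSub.2 ⟨x, hx, rfl⟩)]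

/-- Abelian small subgroups of the hyperfocal subgroup control fusion, by induction on the number of
maps. -/
theorem le_of_agreesOn : ∀ (n : ℕ) (S : Subgroup Ω) [Finite S] (E F : FusionSystem S), IsPGroup p S →
    E.IsSaturated p → F.IsSaturated p → E ≤ F → AgreesOn p E F (F.hyperfocalSubgroup p) →
    (mapsSet F).ncard = n → F ≤ E := by
  intro n
  induction n using Nat.strong_induction_on with
  | _ n ih =>
  intro S _ E F hS hE hF hle hH hn
  refine le_of_autGroup_fullyNormalized hS hF fun P hP _ => ?_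
  have hPS := hP.1
  haveI := finite_of_le hPS
  haveI := finite_autGroup F hPS
  by_cases hall : ∀ f, IsMap F P f → IsMap E P f
  · exact fun α hα => mem_autGroup_of_isMap (hall _ ((mem_autGroup_iff hPS).1 hα))
  have IH : ∀ (T : Subgroup Ω) (E' F' : FusionSystem T), T ≤ S →
      (mapsSet F').ncard < (mapsSet F).ncard → E'.IsSaturated p → F'.IsSaturated p → E' ≤ F' →
      AgreesOn p E' F' (F'.hyperfocalSubgroup p) → F' ≤ E' := fun T E' F' hT hlt h1 h2 h3 h4 => by
    haveI := finite_of_le hT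
    exact ih _ (hn ▸ hlt) T E' F' (hS.to_le hT) h1 h2 h3 h4 rfl
  have hfix : ∀ A : Subgroup Ω, A ≤ P → A ≤ F.hyperfocalSubgroup p → IsSmallAb p A →
      P ≤ Subgroup.normalizer (A : Set Ω) → ∀ α ∈ F.autGroup P, (orderOf α).Coprime p →
      ∀ a ∈ A, autMap α a = a := fun A h1 h2 h3 h4 =>
    (isMap_or_fixes hS hE hF hle hH IH hPS h1 h2 h3 h4).resolve_left hall
  suffices htriv : ∀ a : F.autGroup P, (orderOf a).Coprime p → a = 1 by
    intro α hα
    obtain ⟨-, Sy, hSy⟩ := isFullyAutomized_of_isFullyNormalized hS hF hP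
    have htop := CentFocal.eq_top_of_sylow_le (Sy : Subgroup (F.autGroup P)) Sy le_rfl
      fun a ha => (htriv a ha).symm ▸ one_mem _
    have hmem : (⟨α, hα⟩ : F.autGroup P) ∈ (Sy : Subgroup (F.autGroup P)) := by rw [htop]; trivial
    rw [hSy, Subgroup.mem_subgroupOf] at hmem
    exact autInducedBy_le_autGroup E hPS hmem
  obtain ⟨C, hC⟩ := exists_isSmallCore hS hPS (F.hyperfocalSubgroup p)
  have hCP : C ≤ P := hC.le.trans inf_le_left
  haveI := finite_of_le (inf_le_left.trans hPS : P ⊓ F.hyperfocalSubgroup p ≤ S)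
  haveI := finite_of_le (hCP.trans hPS)
  have hCconj : ∀ x ∈ P, ∀ c ∈ C, x * c * x⁻¹ ∈ C := fun x hx c hc => by
    have hxn : x ∈ Subgroup.normalizer (P : Set Ω) := Subgroup.le_normalizer hx
    have h := hC.invariant (conjAut hxn) (mem_traceStab inf_le_left fun y hy => by
      rw [autMap_conjAut hxn hy.1, conjMap_apply]
      exact ⟨(Subgroup.mem_normalizer_iff.1 hxn y).1 hy.1, H90.hyp_conj F p (hPS hx) hy.2⟩) c hc
    rwa [autMap_conjAut hxn (hCP hc), conjMap_apply] at h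
  obtain ⟨A, ⟨⟨hAC, hA, hAn⟩, hmax⟩⟩ : ∃ A, Maximal
      (fun A : Subgroup Ω => A ≤ C ∧ IsSmallAb p A ∧ P ≤ Subgroup.normalizer (A : Set Ω)) A := by
    refine Set.Finite.exists_maximal ((H89.subgroups_le_finite C).subset fun A hA => hA.1)
      ⟨⊥, bot_le, ⟨fun a ha b hb => ?_, fun a ha => ?_⟩, fun x _ => mem_normalizer_of_maps fun y hy => ?_⟩
    · rw [Subgroup.mem_bot.1 ha, one_mul, mul_one]
    · rw [Subgroup.mem_bot.1 ha, one_pow]
    · rw [Subgroup.mem_bot.1 hy, mul_one, mul_inv_cancel]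
      exact one_mem _
  -- `A` contains its centralizer in `C`
  have hsmall : ∀ c ∈ C, c ^ smallExp p = 1 := fun c hc => isSmall_iff.1 (hC.small c hc)
  have hself : ∀ i, ∀ c ∈ C, c ∈ upperSeries P i → (∀ a ∈ A, a * c = c * a) → c ∈ A := by
    intro i
    induction i with
    | zero =>
      intro c _ hc _
      rw [upperSeries_zero, Subgroup.mem_bot] at hc
      subst hc
      exact one_mem A
    | succ i ihi =>
      intro c hc hci hca
      have hzp : IsSmallAb p (Subgroup.zpowers c) := by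
        refine ⟨fun x hx y hy => ?_, fun x hx => ?_⟩
        · obtain ⟨k, rfl⟩ := Subgroup.mem_zpowers_iff.1 hx
          obtain ⟨l, rfl⟩ := Subgroup.mem_zpowers_iff.1 hy
          exact Commute.zpow_zpow_self c k l
        · obtain ⟨k, rfl⟩ := Subgroup.mem_zpowers_iff.1 hx
          rw [← zpow_natCast, ← _root_.zpow_mul, mul_comm, _root_.zpow_mul, zpow_natCast, hsmall c hc,
            _root_.one_zpow]
      have hX : IsSmallAb p (A ⊔ Subgroup.zpowers c) := isSmallAb_sup hA hzp fun a ha b hb => by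
        obtain ⟨k, rfl⟩ := Subgroup.mem_zpowers_iff.1 hb
        exact ((show Commute a c from hca a ha).zpow_right k).eq
      have hdA : ∀ x ∈ P, c⁻¹ * (x * c * x⁻¹) ∈ A := fun x hx => by
        refine ihi _ (C.mul_mem (C.inv_mem hc) (hCconj x hx c hc)) (comm_mem_upperSeries' hci hx)
          fun a ha => ?_
        have h1 : a * (x * c * x⁻¹) = x * c * x⁻¹ * a := by
          have ha' : x⁻¹ * a * x ∈ A := (Subgroup.mem_normalizer_iff''.1 (hAn hx) a).1 ha
          calc a * (x * c * x⁻¹) = x * (x⁻¹ * a * x * c) * x⁻¹ := by group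
            _ = x * (c * (x⁻¹ * a * x)) * x⁻¹ := by rw [hca _ ha']
            _ = x * c * x⁻¹ * a := by group
        exact ((show Commute a c from hca a ha).inv_right.mul_right h1).eq
      have hle' : A ⊔ Subgroup.zpowers c ≤ C := sup_le hAC (Subgroup.zpowers_le.2 hc)
      haveI := finite_of_le (hle'.trans (hCP.trans hPS))
      have hPn : P ≤ Subgroup.normalizer ((A ⊔ Subgroup.zpowers c : Subgroup Ω) : Set Ω) := by
        intro x hx
        refine mem_normalizer_of_maps fun y hy => ?_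
        have hle2 : A ⊔ Subgroup.zpowers c ≤
            (A ⊔ Subgroup.zpowers c).comap (MulAut.conj x).toMonoidHom := by
          refine sup_le (fun a ha => Subgroup.mem_sup_left ((Subgroup.mem_normalizer_iff.1 (hAn hx) a).1 ha))
            (Subgroup.zpowers_le.2 ?_)
          show x * c * x⁻¹ ∈ A ⊔ Subgroup.zpowers c
          have := mul_mem (Subgroup.mem_sup_right (Subgroup.mem_zpowers c) : c ∈ A ⊔ Subgroup.zpowers c)
            (Subgroup.mem_sup_left (hdA x hx))
          rwa [mul_inv_cancel_left] at this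
        exact hle2 hy
      exact hmax ⟨hle', hX, hPn⟩ le_sup_left (Subgroup.mem_sup_right (Subgroup.mem_zpowers c))
  intro α hα
  have hco : (orderOf (α : MulAut P)).Coprime p := by rwa [Subgroup.orderOf_coe]
  have hd := diff_mem_hyperfocal hPS α hα
  have hinv := hC.invariant _ (mem_traceStab_of_diff hd)
  have hAfix := hfix A (hAC.trans hCP) ((hAC.trans hC.le).trans inf_le_right) hA hAn _ α.2 hco
  haveI : Group.IsNilpotent P := IsPGroup.isNilpotent (hS.to_le hPS)
  obtain ⟨N, hN⟩ := Group.IsNilpotent.nilpotent' (G := P)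
  have hup : ∀ x ∈ P, x ∈ upperSeries P N := fun x hx => by
    refine ⟨⟨x, hx⟩, ?_, rfl⟩
    rw [hN]
    exact Subgroup.mem_top _
  refine Subtype.ext (hC.faithful _ hco hd fun c hc => ?_)
  have hm := (mem_autGroup_iff hPS).1 α.2
  have hcP := hCP hc
  have hac := hinv c hc
  have hdC : c⁻¹ * autMap (α : MulAut P) c ∈ C := C.mul_mem (C.inv_mem hc) hac
  have hdA : c⁻¹ * autMap (α : MulAut P) c ∈ A := by
    refine hself N _ hdC (hup _ (hCP hdC)) fun a ha => ?_
    have hb : c * a * c⁻¹ ∈ A := (Subgroup.mem_normalizer_iff.1 (hAn hcP) a).1 ha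
    have h := hAfix _ hb
    rw [hm.map_conj hcP (hCP (hAC ha)), hAfix a ha] at h
    set d := autMap (α : MulAut P) c
    calc a * (c⁻¹ * d) = c⁻¹ * (c * a * c⁻¹) * d := by group
      _ = c⁻¹ * d * a := by rw [← h]; group
  have h1 := H90.fix_of_fix_diff (hS.to_le hPS) (α : MulAut P) hco ⟨c, hcP⟩ (Subtype.ext (by
    have he : (((⟨c, hcP⟩ : P)⁻¹ * (α : MulAut P) ⟨c, hcP⟩ : P) : Ω) = c⁻¹ * autMap (α : MulAut P) c := by
      rw [Subgroup.coe_mul, ← autMap_coe]; rfl
    rw [← autMap_coe, he]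
    exact hAfix _ hdA))
  rw [autMap_apply _ hcP, h1]

end Cfsg.Agent.H91
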