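import Cfsg.Agent.PGroups.Critical
import Cfsg.Agent.PGroups.Basic
import Cfsg.Agent.H62.CoprimeFix

/-!
In a finite `p`-group there is a characteristic subgroup of exponent `p` (`4` if `p = 2`) that is faithful for
automorphisms of order prime to `p`.
-/

set_option autoImplicit false

namespace Cfsg.Agent.H91

open Subgroup
open scoped commutatorElement

universe u

/-- `x` has order dividing `p`, or dividing `4` when `p = 2`. -/
def IsSmall (p : ℕ) {X : Type*} [Monoid X] (x : X) : Prop := x ^ p = 1 ∨ p = 2 ∧ x ^ 4 = 1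

theorem IsSmall.map {p : ℕ} {X Y : Type*} [Monoid X] [Monoid Y] (f : X →* Y) {x : X} (h : IsSmall p x) :
    IsSmall p (f x) := by
  rcases h with h | ⟨h1, h⟩
  · exact Or.inl (by rw [← map_pow, h, map_one])
  · exact Or.inr ⟨h1, by rw [← map_pow, h, map_one]⟩

/-- The exponent bounding small elements. -/
def smallExp (p : ℕ) : ℕ := if p = 2 then 4 else p

theorem isSmall_iff {p : ℕ} {X : Type*} [Monoid X] {x : X} : IsSmall p x ↔ x ^ smallExp p = 1 := by
  by_cases h2 : p = 2
  · subst h2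
    rw [smallExp, if_pos rfl]
    exact ⟨fun h => h.elim (fun h => by rw [show (4 : ℕ) = 2 * 2 from rfl, pow_mul, h, one_pow]) (·.2),
      fun h => Or.inr ⟨rfl, h⟩⟩
  · rw [smallExp, if_neg h2]
    exact ⟨fun h => h.elim id fun h => absurd h.1 h2, Or.inl⟩

theorem exists_small_core {p : ℕ} [Fact p.Prime] {D : Type u} [Group D] [Finite D] (hD : IsPGroup p D) :
    ∃ C : Subgroup D, (∀ (φ : MulAut D), ∀ x ∈ C, φ x ∈ C) ∧ (∀ x ∈ C, IsSmall p x) ∧
      ∀ a : MulAut D, (orderOf a).Coprime p → (∀ x ∈ C, a x = x) → a = 1 := by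
  obtain ⟨H, hHc, hfr, hHcomm, hcent⟩ := Cfsg.Agent.PGroups.exists_critical hD
  haveI := hHc
  have hp : p.Prime := Fact.out
  have hHp : IsPGroup p H := hD.to_subgroup H
  have hpow : ∀ c ∈ H, ∀ y ∈ H, y * c ^ p = c ^ p * y := fun c hc y hy =>
    Subgroup.mem_centralizer_iff.1
      (hfr ⟨⟨c, hc⟩ ^ p, Cfsg.Agent.PGroups.pow_mem_frattini hHp ⟨c, hc⟩, rfl⟩) y hy
  have hz : ∀ c u : H, ∃ z ∈ Subgroup.center H, u * c = c * u * z ∧ z ^ p = 1 := by
    intro c u
    have hm : ⁅((u⁻¹ : H) : D), ((c⁻¹ : H) : D)⁆ ∈ H ⊓ centralizer (H : Set D) :=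
      hHcomm (Subgroup.commutator_mem_commutator (u⁻¹).2 (Subgroup.mem_top _))
    have hzc : ⁅u⁻¹, c⁻¹⁆ ∈ Subgroup.center H := Subgroup.mem_center_iff.2 fun y =>
      Subtype.ext (Subgroup.mem_centralizer_iff.1 hm.2 y y.2)
    have hcom : u * c = c * u * ⁅u⁻¹, c⁻¹⁆ := by rw [commutatorElement_def]; group
    refine ⟨_, hzc, hcom, ?_⟩
    have h1 := H62.pow_mul_comm_central hzc hcom p
    have h2 : c * u ^ p = u ^ p * c := Subtype.ext (hpow u u.2 c c.2)
    rw [← h2, left_eq_mul] at h1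
    exact h1
  let C0 : Subgroup H :=
    { carrier := {x | x ^ smallExp p = 1}
      one_mem' := one_pow _
      mul_mem' := fun {c u} hc hu => by
        obtain ⟨z, hzc, hcom, hzp⟩ := hz c u
        show (c * u) ^ smallExp p = 1
        rw [H62.mul_pow_class_two hzc hcom, show c ^ smallExp p = 1 from hc,
          show u ^ smallExp p = 1 from hu, one_mul, one_mul]
        obtain ⟨r, hr⟩ : p ∣ (smallExp p).choose 2 := by
          by_cases h2 : p = 2
          · subst h2; rw [smallExp, if_pos rfl]; decide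
          · rw [smallExp, if_neg h2]
            exact hp.dvd_choose_self two_ne_zero (lt_of_le_of_ne hp.two_le (Ne.symm h2))
        rw [hr, pow_mul, hzp, one_pow]
      inv_mem' := fun {c} hc => by
        show c⁻¹ ^ smallExp p = 1
        rw [inv_pow, show c ^ smallExp p = 1 from hc, inv_one] }
  refine ⟨C0.map H.subtype, ?_, ?_, fun a ha hfix => ?_⟩
  · rintro φ _ ⟨x, hx, rfl⟩
    refine ⟨⟨φ x, (Cfsg.Agent.PGroups.apply_mem_iff_of_characteristic hHc φ).2 x.2⟩, ?_, rfl⟩
    refine Subtype.ext ?_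
    rw [SubmonoidClass.coe_pow]
    show φ (x : D) ^ smallExp p = 1
    rw [← map_pow, ← SubmonoidClass.coe_pow, show x ^ smallExp p = 1 from hx, OneMemClass.coe_one, map_one]
  · rintro _ ⟨x, hx, rfl⟩
    exact (isSmall_iff.2 hx).map H.subtype
  · refine Cfsg.Agent.PGroups.mulAut_eq_one_of_fixed hD H hcent a ha fun x hx => ?_
    have hmem : ∀ b : MulAut D, ∀ y : H, b y ∈ H := fun b y =>
      (Cfsg.Agent.PGroups.apply_mem_iff_of_characteristic hHc b).2 y.2
    let res : MulAut D →* MulAut H := MonoidHom.mk'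
      (fun b =>
        { toFun := fun y => ⟨b y, hmem b y⟩
          invFun := fun y => ⟨b⁻¹ y, hmem b⁻¹ y⟩
          left_inv := fun y => Subtype.ext (b.symm_apply_apply y)
          right_inv := fun y => Subtype.ext (b.apply_symm_apply y)
          map_mul' := fun y z => Subtype.ext (map_mul b (y : D) z) })
      fun b c => MulEquiv.ext fun y => Subtype.ext rfl
    have h := H62.fix_all hHp (res a) ha (by rw [← map_pow, pow_orderOf_eq_one, map_one])
      (fun y hy => Subtype.ext (hfix y ⟨y, isSmall_iff.1 (Or.inl hy), rfl⟩))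
      (fun hp2 y hy => Subtype.ext (hfix y ⟨y, isSmall_iff.1 (Or.inr ⟨hp2, hy⟩), rfl⟩))
    exact congrArg (fun b : MulAut H => ((b ⟨x, hx⟩ : H) : D)) h

end Cfsg.Agent.H91
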